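import Cfsg.Agent.ClassicalMax.Subfield.Root
import Cfsg.Agent.Classical.OrthEichler
import Cfsg.Agent.Classical.OrthMat

/-!
Subfield groups inside `Ω(Q)`: the rational structure, the singular pairing over the subfield and the reduction of
maximality to the theorem on overgroups.
-/

set_option autoImplicit false
set_option linter.unusedSectionVars false
set_option linter.style.haveILetI false

namespace Cfsg.Agent.ClassicalMax.Subfield.RootOrth

open Module QuadraticMap Cfsg.Agent.ClassicalMax Cfsg.Agent.Classical Cfsg.Agent.Classical.Quad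

/-- a singular vector with prescribed products -/
theorem exists_singular_pairing {K V : Type*} [Field K] [Finite K] [AddCommGroup V] [Module K V] [FiniteDimensional K V]
    {Q : QuadraticForm K V} (hQ : (polarBilin Q).Nondegenerate) {k : ℕ} (p : Fin k → V) (hd : 2 * k + 4 ≤ finrank K V)
    {x : V} (hx : x ∉ Submodule.span K (Set.range p)) (c : K) :
    ∃ y, Q y = 0 ∧ polar Q x y = c ∧ ∀ i, polar Q (p i) y = 0 := by
  rcases eq_or_ne c 0 with rfl | hc
  · exact ⟨0, map_zero _, polar_zero_right Q _, fun i => polar_zero_right Q _⟩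
  obtain ⟨k₀, hk₀, hxk⟩ := exists_perp hQ hx
  let L : V →ₗ[K] (Fin (k + 1) → K) := LinearMap.pi fun i => polarBilin Q ((Fin.cons x p : Fin (k + 1) → V) i)
  set H := LinearMap.ker L with hH
  have hHm : ∀ y, y ∈ H ↔ polar Q x y = 0 ∧ ∀ i, polar Q (p i) y = 0 := fun y => by
    rw [hH, LinearMap.mem_ker, funext_iff, Fin.forall_fin_succ]
    simp [L]
  have hHdim : finrank K V ≤ finrank K H + (k + 1) := by
    have h4 := LinearMap.finrank_range_add_finrank_ker L
    have h5 := Submodule.finrank_le (LinearMap.range L)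
    rw [Module.finrank_fin_fun] at h5
    rw [← hH] at h4
    omega
  -- a plane with non-singular Gram matrix
  obtain ⟨u, huH, w, hwH, hD⟩ : ∃ u ∈ H, ∃ w ∈ H,
      polar Q u u * polar Q w w - polar Q u w * polar Q u w ≠ 0 := by
    by_contra! hall
    have key : ∃ R : Submodule K V, R ≤ H ∧ finrank K H ≤ finrank K R + 1 ∧
        ∀ r ∈ R, ∀ h ∈ H, polar Q r h = 0 := by
      by_cases ha : ∃ a ∈ H, polar Q a a ≠ 0
      · obtain ⟨a, haH, ha0⟩ := ha
        refine ⟨H ⊓ LinearMap.ker (polarBilin Q a), inf_le_left, ?_, fun r hr h hh => ?_⟩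
        · have h1 := Submodule.finrank_sup_add_finrank_inf_eq H (LinearMap.ker (polarBilin Q a))
          have h2 := Submodule.finrank_le (H ⊔ LinearMap.ker (polarBilin Q a))
          have h4 := LinearMap.finrank_range_add_finrank_ker (polarBilin Q a)
          have h5 := Submodule.finrank_le (LinearMap.range (polarBilin Q a))
          rw [finrank_self] at h5
          omega
        · have har : polar Q a r = 0 := LinearMap.mem_ker.1 hr.2
          have h1 := hall a haH r hr.1
          rw [har, mul_zero, sub_zero] at h1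
          have h2 := hall r hr.1 h hh
          rw [(mul_eq_zero.1 h1).resolve_left ha0, zero_mul, zero_sub, neg_eq_zero] at h2
          exact mul_self_eq_zero.1 h2
      · push Not at ha
        refine ⟨H, le_rfl, Nat.le_succ _, fun r hr h hh => ?_⟩
        have h2 := hall r hr h hh
        rw [ha r hr, zero_mul, zero_sub, neg_eq_zero] at h2
        exact mul_self_eq_zero.1 h2
    obtain ⟨R, -, hR, hR0⟩ := key
    have hrefl : (polarBilin Q).IsRefl := fun u v h => by
      rw [polarBilin_apply_apply, polar_comm]; exact h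
    have hle : H ≤ LinearMap.BilinForm.orthogonal (polarBilin Q) R := fun h hh r hr => hR0 r hr h hh
    have h1 := Submodule.finrank_mono hle
    rw [LinearMap.BilinForm.finrank_orthogonal hQ] at h1
    omega
  -- the affine part, orthogonal to the plane
  set D := polar Q u u * polar Q w w - polar Q u w * polar Q u w with hDdef
  set α := (polar Q u (c • k₀) * polar Q w w - polar Q w (c • k₀) * polar Q u w) / D with hα
  set β := (polar Q w (c • k₀) * polar Q u u - polar Q u (c • k₀) * polar Q u w) / D with hβ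
  set y := c • k₀ - α • u - β • w with hy
  have huy : polar Q u y = 0 := by
    rw [hy, polar_sub_right, polar_sub_right, polar_smul_right, polar_smul_right, polar_smul_right, hα, hβ]
    simp only [smul_eq_mul, polar_smul_right]
    field_simp
    rw [hDdef]; ring
  have hwy : polar Q w y = 0 := by
    rw [hy, polar_sub_right, polar_sub_right, polar_smul_right, polar_smul_right, polar_smul_right, hα, hβ,
      polar_comm Q w u]
    simp only [smul_eq_mul, polar_smul_right]
    field_simp
    rw [hDdef]; ring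
  have hpy : polar Q x y = c ∧ ∀ i, polar Q (p i) y = 0 := by
    refine ⟨?_, fun i => ?_⟩ <;>
      simp [hy, polar_sub_right, polar_smul_right, hxk, hk₀ _ (Submodule.subset_span ⟨_, rfl⟩),
        ((hHm u).1 huH).1, ((hHm u).1 huH).2, ((hHm w).1 hwH).1, ((hHm w).1 hwH).2]
  have good : ∀ h ∈ H, ∀ r : K, r ≠ 0 → Q (r • y + h) = 0 →
      ∃ y, Q y = 0 ∧ polar Q x y = c ∧ ∀ i, polar Q (p i) y = 0 := fun h hh r hr hQ0 => by
    refine ⟨r⁻¹ • (r • y + h), by rw [QuadraticMap.map_smul, hQ0, smul_zero], ?_, fun i => ?_⟩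
    · simp [polar_smul_right, polar_add_right, hpy.1, ((hHm h).1 hh).1, hr]
    · simp [polar_smul_right, polar_add_right, hpy.2 i, ((hHm h).1 hh).2]
  let T : (Fin 3 → K) →ₗ[K] V := Fintype.linearCombination K ![u, w, y]
  obtain ⟨v, hv0, hv⟩ := exists_singular (Q.comp T) (by rw [Module.finrank_fin_fun])
  have hT : T v = v 2 • y + (v 0 • u + v 1 • w) := by
    simp [T, Fintype.linearCombination_apply, Fin.sum_univ_three]; abel
  rw [QuadraticMap.comp_apply, hT] at hv
  have hHuw : ∀ a b : K, a • u + b • w ∈ H := fun a b => H.add_mem (H.smul_mem _ huH) (H.smul_mem _ hwH)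
  by_cases hv2 : v 2 = 0
  swap
  · exact good _ (hHuw _ _) _ hv2 hv
  set z := v 0 • u + v 1 • w with hz
  rw [hv2, zero_smul, zero_add] at hv
  obtain ⟨w', hw', hw'y, hzw'⟩ : ∃ w' ∈ H, polar Q w' y = 0 ∧ polar Q w' z ≠ 0 := by
    by_contra! h0
    have e1 := h0 u huH huy
    have e2 := h0 w hwH hwy
    simp only [hz, polar_add_right, polar_smul_right, smul_eq_mul, polar_comm Q w u] at e1 e2
    refine hv0 (funext fun i => ?_)
    have a0 : v 0 = 0 := (mul_eq_zero.1 (show v 0 * D = 0 by
      linear_combination polar Q w w * e1 - polar Q u w * e2)).resolve_right hD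
    have a1 : v 1 = 0 := (mul_eq_zero.1 (show v 1 * D = 0 by
      linear_combination polar Q u u * e2 - polar Q u w * e1)).resolve_right hD
    fin_cases i <;> simp [a0, a1, hv2]
  have hzy : polar Q y z = 0 := by
    rw [hz, polar_add_right, polar_smul_right, polar_smul_right, polar_comm Q y u, polar_comm Q y w, huy, hwy,
      smul_zero, smul_zero, add_zero]
  set s := (-Q y - Q w') / polar Q w' z
  refine good (w' + s • z) (H.add_mem hw' (H.smul_mem _ (hHuw _ _))) 1 one_ne_zero ?_
  rw [one_smul, ← add_assoc, QuadraticMap.map_add (⇑Q), QuadraticMap.map_add (⇑Q) y, QuadraticMap.map_smul, hv,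
    polar_smul_right, polar_add_left, hzy, polar_comm Q y w', hw'y, smul_zero, zero_add, add_zero, add_zero,
    smul_eq_mul, div_mul_cancel₀ _ hzw']
  ring

variable {F : Type*} [Field F] [Fintype F] {ι : Type} [Fintype ι] [DecidableEq ι]

/-- the polar form as a sesquilinear form for the identity -/
noncomputable def pbl (Q : QuadraticForm F (ι → F)) : (ι → F) →ₛₗ[RingHom.id F] (ι → F) →ₗ[F] F := polarBilin Q

theorem pbl_apply (Q : QuadraticForm F (ι → F)) (x y : ι → F) : pbl Q x y = polar Q x y := rfl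

theorem pairing_rat (Q : QuadraticForm F (ι → F)) (hQ : (polarBilin Q).Nondegenerate) (F₀ : Subfield F)
    (hrat : ∀ u : ι → F, RV F₀ u → Q u ∈ F₀) (k : ℕ) (p : Fin k → ι → F) (hp : ∀ i, RV F₀ (p i))
    (hd : 2 * k + 4 ≤ Fintype.card ι) (x : ι → F) (hx : RV F₀ x) (hxp : x ∉ Submodule.span F (Set.range p))
    (c : F) (hc : c ∈ F₀) : ∃ y, RV F₀ y ∧ Q y = 0 ∧ polar Q x y = c ∧ ∀ i, polar Q (p i) y = 0 := by
  haveI : Fintype F₀ := Fintype.ofFinite F₀
  let up : (ι → F₀) → (ι → F) := fun v i => (v i : F)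
  have hup : ∀ v, RV F₀ (up v) := fun v i => (v i).2
  let f : (ι → F₀) → F₀ := fun v => ⟨Q (up v), hrat _ (hup v)⟩
  have hpol : ∀ u v, ((polar f u v : F₀) : F) = polar Q (up u) (up v) := fun u v => by
    simp only [polar, AddSubgroupClass.coe_sub, f]
    rfl
  let Q₀ : QuadraticForm F₀ (ι → F₀) := QuadraticMap.ofPolar f
    (fun a v => Subtype.ext (show Q (up (a • v)) = (a : F) * a * Q (up v) by rw [← map_smul']; rfl))
    (fun u u' v => Subtype.ext (by
      rw [AddMemClass.coe_add, hpol, hpol, hpol, ← polar_add_left]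
      rfl))
    (fun a u v => Subtype.ext (by
      show ((polar f (a • u) v : F₀) : F) = (a : F) * ((polar f u v : F₀) : F)
      rw [hpol, hpol, ← smul_eq_mul, ← polar_smul_left]
      rfl))
  have hQ₀ : (polarBilin Q₀).Nondegenerate := by
    have key : ∀ u, (∀ v, polar f u v = 0) → u = 0 := fun u hu => by
      have h0 : up u = 0 := hQ.1 _ fun z => by
        rw [eq_sum_single z, map_sum]
        refine Finset.sum_eq_zero fun i _ => ?_
        rw [map_smul]
        have h1 := congrArg Subtype.val (hu (down (rv_single (F₀ := F₀) i)))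
        rw [hpol] at h1
        show z i • polar Q (up u) (Pi.single i 1) = 0
        rw [show polar Q (up u) (Pi.single i 1) = 0 from h1, smul_zero]
      exact funext fun i => Subtype.ext (congrFun h0 i)
    exact ⟨fun u hu => key u hu, fun u hu => key u fun v => (polar_comm f u v).trans (hu v)⟩
  have hx' : down hx ∉ Submodule.span F₀ (Set.range fun i => down (hp i)) := fun hm => by
    obtain ⟨d, hd'⟩ := (Submodule.mem_span_range_iff_exists_fun _).1 hm
    refine hxp ((Submodule.mem_span_range_iff_exists_fun _).2 ⟨fun i => (d i : F), funext fun i => ?_⟩)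
    have := congrArg Subtype.val (congrFun hd' i)
    simp only [Finset.sum_apply, Pi.smul_apply, smul_eq_mul, AddSubmonoidClass.coe_finsetSum] at this ⊢
    exact this
  obtain ⟨y, hy, hxy, hpy⟩ := exists_singular_pairing hQ₀ (fun i => down (hp i))
    (by rw [Module.finrank_fintype_fun_eq_card]; exact hd) hx' ⟨c, hc⟩
  refine ⟨up y, hup y, congrArg Subtype.val hy, ?_, fun i => ?_⟩
  · exact (hpol (down hx) y).symm.trans (congrArg Subtype.val hxy)
  · exact (hpol (down (hp i)) y).symm.trans (congrArg Subtype.val (hpy i))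

/-- an element of the isometry group as a matrix lies in `Ω` iff it is in the commutator subgroup -/
theorem mem_omegaGL (Q : QuadraticForm F (ι → F)) (g : oG Q) :
    (glEquiv ι F).symm g.1 ∈ Cfsg.Geo.omegaGL ⇑Q ↔ g ∈ commutator (oG Q) := by
  have e : (((oEquiv Q).symm g : Cfsg.isometryGroup F ⇑Q) : GL ι F) = (glEquiv ι F).symm g.1 := by
    apply (glEquiv ι F).injective
    refine LinearEquiv.ext fun x => ?_
    rw [MulEquiv.apply_symm_apply, glEquiv_apply, ← oEquiv_apply, MulEquiv.apply_symm_apply]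
  rw [← e, Cfsg.Geo.omegaGL]
  refine ⟨fun h => ?_, fun h => ?_⟩
  · obtain ⟨g', hg', e'⟩ := Subgroup.mem_map.1 h
    have : g' = (oEquiv Q).symm g := Subtype.ext e'
    rw [this, mem_omega_iff, MulEquiv.apply_symm_apply] at hg'
    exact hg'
  · exact Subgroup.mem_map.2 ⟨_, (mem_omega_iff _).2 (by rwa [MulEquiv.apply_symm_apply]), rfl⟩

theorem exists_oG_of_omega (Q : QuadraticForm F (ι → F)) {g : GL ι F} (hg : g ∈ Cfsg.Geo.omegaGL ⇑Q) :
    ∃ k ∈ commutator (oG Q), k.1 = glEquiv ι F g := by
  obtain ⟨g', hg', rfl⟩ := Subgroup.mem_map.1 hg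
  exact ⟨oEquiv Q g', (mem_omega_iff g').1 hg', LinearEquiv.ext fun x => by
    rw [oEquiv_apply, glEquiv_apply]
    rfl⟩

/-- over an odd degree an isometry rational up to a scalar is rational -/
theorem rational_of_ratty (Q' : QuadraticForm F (ι → F)) (hQ'nd : (polarBilin Q').Nondegenerate) [Nonempty ι] (F₀ : Subfield F)
    {r : ℕ} (hcard : Fintype.card F = Nat.card F₀ ^ r) (hro : Odd r)
    (hform : ∀ u v : ι → F, RV F₀ u → RV F₀ v → pbl Q' u v ∈ F₀) {x : (ι → F) ≃ₗ[F] (ι → F)} (hx : x ∈ oG Q')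
    (hrx : Ratty F₀ x) {z : ι → F} (hz : RV F₀ z) : RV F₀ (x z) := by
  obtain ⟨c, hc, hcx⟩ := hrx
  suffices hcF : c ∈ F₀ by
    refine RV.map (L := x.toLinearMap) (fun i => ?_) hz
    have h1 := (hcx i).smul (F₀.inv_mem hcF)
    rwa [smul_smul, inv_mul_cancel₀ hc, one_smul] at h1
  obtain ⟨i, j, hij⟩ : ∃ i j : ι, polar Q' (Pi.single i (1 : F)) (Pi.single j 1) ≠ 0 := by
    by_contra! h0
    have e : ∀ i, (Pi.single i (1 : F) : ι → F) = 0 := fun i => hQ'nd.1 _ fun y => by
      rw [eq_sum_single y, map_sum]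
      refine Finset.sum_eq_zero fun j _ => ?_
      rw [map_smul, polarBilin_apply_apply, h0, smul_zero]
    have := congrFun (e (Classical.arbitrary ι)) (Classical.arbitrary ι)
    rw [Pi.single_eq_same] at this
    exact one_ne_zero this
  have hc2 : c * c ∈ F₀ := by
    have h1 := hform _ _ (hcx i) (hcx j)
    rw [pbl_apply, polar_smul_left, polar_smul_right, polar_eq_of_mem hx, smul_eq_mul, smul_eq_mul, ← mul_assoc] at h1
    have h2 := hform _ _ (rv_single (F₀ := F₀) i) (rv_single (F₀ := F₀) j)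
    rw [pbl_apply] at h2
    have h3 := F₀.mul_mem h1 (F₀.inv_mem h2)
    rwa [mul_inv_cancel_right₀ hij] at h3
  have hfix : ∀ a : F, a ∈ F₀ ↔ a ^ Nat.card F₀ = a := fun a => by
    have h1 := Root.rv_iff_frob (F₀ := F₀) (v := fun _ : ι => a)
    refine ⟨fun h => congrFun (h1.1 fun _ => h) i, fun h => (h1.2 (funext fun _ => h)) i⟩
  set q₀ := Nat.card F₀ with hq₀
  have hneg : (-1 : F) ^ q₀ = -1 := (hfix _).1 (F₀.neg_mem F₀.one_mem)
  rcases mul_self_eq_mul_self_iff.1 (show c ^ q₀ * c ^ q₀ = c * c by rw [← mul_pow]; exact (hfix _).1 hc2) with h1 | h1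
  · exact (hfix c).2 h1
  have hit : ∀ k : ℕ, c ^ q₀ ^ k = (-1) ^ k * c := fun k => by
    induction k with
    | zero => simp
    | succ k ih =>
      rw [pow_succ q₀, pow_mul, ih, mul_pow, h1, ← pow_mul, mul_comm k, pow_mul, hneg, pow_succ]
      ring
  have h2 := hit r
  rw [← hcard, FiniteField.pow_card, hro.neg_one_pow, neg_one_mul] at h2
  exact (hfix c).2 (h1.trans h2.symm)

/-- maximality of a subfield subgroup of `Ω`, from dimension eight on for odd prime index -/
theorem isMaximalIn_subfield' (Q : QuadraticForm F (ι → F)) (hQ : (polarBilin Q).Nondegenerate) (hn : 8 ≤ Fintype.card ι)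
    (F₀ : Subfield F) {r : ℕ} (hr : r.Prime) (hcard : Fintype.card F = Nat.card F₀ ^ r)
    (hlow : 10 ≤ Fintype.card ι ∨ Odd r) (P : GL ι F) {ζ : F} (hζ : ζ ≠ 0)
    (hP : ∀ u : ι → F, RV F₀ u → ζ * Q (glEquiv ι F P u) ∈ F₀) :
    Cfsg.Geo.IsMaximalIn (Cfsg.Geo.omegaGL ⇑Q) (Cfsg.Geo.subfieldSubgroup F₀ P ⊓ Cfsg.Geo.omegaGL ⇑Q) := by
  classical
  set e : (ι → F) ≃ₗ[F] (ι → F) := glEquiv ι F P with he
  set Q' : QuadraticForm F (ι → F) := ζ • Q.comp e.toLinearMap with hQ'
  have hQ'a : ∀ x, Q' x = ζ * Q (e x) := fun x => rfl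
  have hpol : ∀ x y, polar Q' x y = ζ * polar Q (e x) (e y) := fun x y => by
    simp only [polar, hQ'a, map_add]
    ring
  have hQ'nd : (polarBilin Q').Nondegenerate := by
    have key : ∀ u, (∀ v, polar Q' u v = 0) → u = 0 := fun u hu => e.map_eq_zero_iff.1 (hQ.1 _ fun z => by
      have h1 := hu (e⁻¹ z)
      rw [hpol, apply_inv] at h1
      exact (mul_eq_zero.1 h1).resolve_left hζ)
    exact ⟨fun u hu => key u hu, fun u hu => key u fun v => (polar_comm Q' u v).trans (hu v)⟩
  have hrat : ∀ u : ι → F, RV F₀ u → Q' u ∈ F₀ := fun u hu => hP u hu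
  have hform : ∀ u v : ι → F, RV F₀ u → RV F₀ v → pbl Q' u v ∈ F₀ := fun u v hu hv => by
    show Q' (u + v) - Q' u - Q' v ∈ F₀
    exact F₀.sub_mem (F₀.sub_mem (hrat _ (hu.add hv)) (hrat _ hu)) (hrat _ hv)
  have hiso : ∀ {v}, Q' v = 0 → pbl Q' v v = 0 := fun {v} hv => by rw [pbl_apply, polar_self', hv, mul_zero]
  have hsing : ∀ {v}, Q' v = 0 → Q (e v) = 0 := fun {v} hv => by
    rw [hQ'a] at hv
    exact (mul_eq_zero.1 hv).resolve_left hζ
  have hex : Nat.card F ≠ 2 ∨ finrank F (ι → F) ≠ 4 := Or.inr (by rw [Module.finrank_fintype_fun_eq_card]; omega)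
  have hn3 : 3 ≤ finrank F (ι → F) := by rw [Module.finrank_fintype_fun_eq_card]; omega
  have hK : ∀ g, g ∈ Cfsg.Geo.subfieldSubgroup F₀ P ↔ Ratty F₀ (e⁻¹ * glEquiv ι F g * e) := fun g => by
    rw [he, ← map_inv, ← map_mul, ← map_mul, ← mem_ratScalar_iff, Cfsg.Geo.subfieldSubgroup, Subgroup.mem_map]
    constructor
    · rintro ⟨y, hy, rfl⟩
      simpa [MulAut.conj_apply, mul_assoc] using hy
    · intro h
      exact ⟨_, h, by simp [MulAut.conj_apply, mul_assoc]⟩
  -- transport of Siegel transformations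
  have htr : ∀ (L : (ι → F) ≃ₗ[F] (ι → F)), (∀ x, Q' x = ζ * Q (L x)) → ∀ {p w : ι → F} (hp : Q' p = 0)
      (hpw : polar Q' p w = 0), ∃ (hp' : Q (L p) = 0) (hpw' : polar Q (L p) (ζ • L w) = 0),
        L * siegel hp hpw * L⁻¹ = siegel hp' hpw' := by
    intro L hL p w hp hpw
    have hpolL : ∀ x y, polar Q' x y = ζ * polar Q (L x) (L y) := fun x y => by
      simp only [polar, hL, map_add]
      ring
    have hp' : Q (L p) = 0 := (mul_eq_zero.1 ((hL p).symm.trans hp)).resolve_left hζ
    have hpw' : polar Q (L p) (ζ • L w) = 0 := by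
      rw [polar_smul_right, smul_eq_mul, ← hpolL, hpw]
    refine ⟨hp', hpw', LinearEquiv.ext fun x => ?_⟩
    rw [LinearEquiv.mul_apply, LinearEquiv.mul_apply, siegel_apply, siegel_apply, map_add, map_add, map_add, map_smul, map_smul,
      map_smul, apply_inv, hpolL, hpolL, apply_inv, hL w, map_smul', polar_smul_right, smul_eq_mul]
    module
  have hrt : ∀ {u v : ι → F} (hu : Q' u = 0) (hv : Q' v = 0) (huv : pbl Q' u v = 0) (l : F),
      ∃ (hpw : polar Q' u (l • v) = 0), Root.rt (pbl Q') u v l = siegel hu hpw := by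
    intro u v hu hv huv l
    have hpw : polar Q' u (l • v) = 0 := by
      rw [polar_smul_right, smul_eq_mul]
      exact mul_eq_zero_of_right l huv
    refine ⟨hpw, LinearEquiv.ext fun x => ?_⟩
    rw [Root.rt_apply (hiso hu) (hiso hv) huv ((polar_comm Q' v u).trans huv), siegel_apply, map_smul', hv, polar_smul_right]
    simp only [pbl_apply, RingHom.id_apply, smul_eq_mul, polar_comm Q' x]
    module
  have hsM : ∀ {p w : ι → F} (hp : Q p = 0) (hpw : polar Q p w = 0),
      (glEquiv ι F).symm (siegel hp hpw) ∈ Cfsg.Geo.omegaGL ⇑Q := fun hp hpw =>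
    (mem_omegaGL Q (sO hp hpw)).2 (sO_mem_commutator hQ hex hp hpw)
  have hOX : ∀ X : Subgroup ((ι → F) ≃ₗ[F] (ι → F)), X ≤ oG Q' →
      (∀ u v : ι → F, RV F₀ u → RV F₀ v → Q' u = 0 → Q' v = 0 → pbl Q' u v = 0 → Root.rt (pbl Q') u v 1 ∈ X) →
      Root.OverR F₀ (pbl Q') (fun v => Q' v = 0) X := fun X hX hXr =>
    ⟨fun a => rfl, fun a _ => rfl, fun a b => polar_comm Q' a b, fun x hx => hQ'nd.1 x hx, hform, map_zero Q',
      fun v hv => hiso hv, fun v a hv => by rw [map_smul', hv, mul_zero],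
      fun u v hu hv huv => by rw [map_add', hu, hv, show polar Q' u v = 0 from huv]; ring,
      fun x hx v hv => by rw [hX hx v, hv],
      fun u hu => ⟨-Q' u, F₀.neg_mem (hrat u hu), fun s _ hs hus => by
        rw [map_add', hs, show polar Q' u s = -Q' u from hus]; ring⟩,
      fun k p hp hd x hx hxp c hc => pairing_rat Q' hQ'nd F₀ hrat k p hp hd x hx hxp c hc,
      hn, hlow.imp id (fun hro => ⟨fun a => rfl,
        fun v k β hv hk hvs hkv hkβ => by
          have e : Q' (k + β • v) = Q' k + β := by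
            rw [map_add_smul, hvs, show polar Q' k v = 1 from hkv]; ring
          rw [e] at hkβ
          rw [show β = -Q' k by linear_combination hkβ]
          exact F₀.neg_mem (hrat k hk),
        fun x hx hrx z hz => haveI : Nonempty ι := Fintype.card_pos_iff.1 (by omega)
          rational_of_ratty Q' hQ'nd F₀ hcard hro hform (hX hx) hrx hz⟩), ⟨r, hr, hcard⟩, fun x hx a b => polar_eq_of_mem (hX hx) a b, hXr⟩
  constructor
  · -- properness
    refine lt_of_le_of_ne inf_le_right fun heq => ?_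
    obtain ⟨l, hl⟩ : ∃ l, l ∉ F₀ := by
      by_contra! hc
      have h1 : Nat.card F₀ = Nat.card F := Nat.card_congr (Equiv.subtypeUnivEquiv hc)
      have h0 : 1 < Nat.card F₀ := Finite.one_lt_card
      rw [Nat.card_eq_fintype_card (α := F), hcard] at h1
      exact hr.ne_one (Nat.pow_right_injective h0 ((pow_one _).trans h1)).symm
    have hO := hOX (oG Q') le_rfl fun u v _ _ hu hv huv => by
      obtain ⟨hpw, e1⟩ := hrt hu hv huv 1
      rw [e1]
      exact siegel_mem _ _
    obtain ⟨u, v, w, hu, hv, hw, hus, hvs, -, hvu, -, -, hind⟩ := hO.exists_ts (U := ![]) (fun j => j.elim0) (by omega)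
    have huv : pbl Q' u v = 0 := (polar_comm Q' u v).trans hvu
    obtain ⟨hpw, e1⟩ := hrt hus hvs huv l
    obtain ⟨hp', hpw', e2⟩ := htr e hQ'a hus hpw
    have hmem : (glEquiv ι F).symm (siegel hp' hpw') ∈ Cfsg.Geo.subfieldSubgroup F₀ P := (heq.ge (hsM hp' hpw')).1
    rw [hK, MulEquiv.apply_symm_apply, ← e2, ← e1,
      show e⁻¹ * (e * Root.rt (pbl Q') u v l * e⁻¹) * e = Root.rt (pbl Q') u v l by group] at hmem
    obtain ⟨z, hz, -, hvz, huz⟩ := hO.pairing 1 ![u] (by intro j; fin_cases j; assumption) (by omega) v hv (fun hm => by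
      obtain ⟨c, e3⟩ := Submodule.mem_span_singleton.1 (Root.OverR.mem1.1 hm)
      exact one_ne_zero (hind (-c) 1 0 (by rw [← e3]; exact Root.OverR.mem_of_eq_zero (by module))).2.1) 1 F₀.one_mem
    have h2 := (rational_of_image hmem (P := Submodule.span F (Set.range ![u, v])) (fun y => Root.OverR.mem2.2
      ⟨l * pbl Q' v y, -(l * pbl Q' u y), by
        rw [Root.rt_apply (hiso hus) (hiso hvs) huv hvu, RingHom.id_apply]; module⟩) (by
      have h1 := finrank_range_le_card (R := F) ![u, v]
      rw [Set.finrank, Fintype.card_fin] at h1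
      omega) hz).sub hz
    rw [Root.rt_apply (hiso hus) (hiso hvs) huv hvu, show pbl Q' u z = 0 from huz 0, hvz, mul_one, mul_zero, zero_smul, sub_zero,
      add_sub_cancel_left] at h2
    exact hl (rv_scalar hu h2 (fun e3 => one_ne_zero (hind 1 0 0 (by rw [e3]; exact Root.OverR.mem_of_eq_zero (by module))).1) rfl)
  · intro M hM1 hM2
    by_cases hle : M ≤ Cfsg.Geo.subfieldSubgroup F₀ P
    · exact Or.inl (le_antisymm (le_inf hle hM2) hM1)
    refine Or.inr (le_antisymm hM2 ?_)
    set M' := M.map (glEquiv ι F).toMonoidHom with hM'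
    have hmem' : ∀ g, g ∈ M → glEquiv ι F g ∈ M' := fun g hg => Subgroup.mem_map_of_mem _ hg
    let X : Subgroup ((ι → F) ≃ₗ[F] (ι → F)) := M'.comap (MulAut.conj e).toMonoidHom ⊓ oG Q'
    have hO : Root.OverR F₀ (pbl Q') (fun v => Q' v = 0) X := hOX X inf_le_right fun u v hu hv hus hvs huv => by
      obtain ⟨hpw, e1⟩ := hrt hus hvs huv 1
      obtain ⟨hp', hpw', e2⟩ := htr e hQ'a hus hpw
      refine ⟨?_, e1 ▸ siegel_mem _ _⟩
      show e * Root.rt (pbl Q') u v 1 * e⁻¹ ∈ M'
      rw [e1, e2, ← MulEquiv.apply_symm_apply (glEquiv ι F) (siegel hp' hpw')]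
      refine hmem' _ (hM1 ⟨?_, hsM hp' hpw'⟩)
      show _ ∈ Cfsg.Geo.subfieldSubgroup F₀ P
      rw [hK, MulEquiv.apply_symm_apply, ← e2, ← e1,
        show e⁻¹ * (e * Root.rt (pbl Q') u v 1 * e⁻¹) * e = Root.rt (pbl Q') u v 1 by group]
      refine ⟨1, one_ne_zero, fun i => ?_⟩
      rw [one_smul, Root.rt_apply (hiso hus) (hiso hvs) huv ((polar_comm Q' v u).trans huv), RingHom.id_apply, one_mul, one_mul]
      exact ((rv_single i).add (hu.smul (hform _ _ hv (rv_single i)))).sub (hv.smul (hform _ _ hu (rv_single i)))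
    obtain ⟨g, hgM, hgK⟩ := SetLike.not_le_iff_exists.1 hle
    obtain ⟨k, -, hk⟩ := exists_oG_of_omega Q (hM2 hgM)
    have hout : ∃ x ∈ X, ¬ Ratty F₀ x := by
      refine ⟨e⁻¹ * glEquiv ι F g * e, ⟨?_, fun x => ?_⟩, fun h => hgK ((hK g).2 h)⟩
      · show e * (e⁻¹ * glEquiv ι F g * e) * e⁻¹ ∈ M'
        rw [show e * (e⁻¹ * glEquiv ι F g * e) * e⁻¹ = glEquiv ι F g by group]
        exact hmem' g hgM
      · rw [hQ'a, hQ'a, LinearEquiv.mul_apply, LinearEquiv.mul_apply, apply_inv, ← hk, k.2]
    -- all Siegel transformations with a rational centre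
    have hall : ∀ (f : ι → F) (hf : RV F₀ f) (hfs : Q' f = 0), f ≠ 0 → ∀ (y : ι → F) (hy : polar Q' f y = 0),
        siegel hfs hy ∈ X := by
      intro f hf hfs hf0 y hy
      have hC := hO.C_eq_univ hout
      let S : Submodule F (ι → F) :=
        { carrier := {y | polar Q' f y = 0 ∧ ∀ (a : F) (h : polar Q' f (a • y) = 0), siegel hfs h ∈ X}
          zero_mem' := ⟨by rw [← pbl_apply, map_zero], fun a h => by
            have : siegel hfs h = 1 := LinearEquiv.ext fun z => by rw [siegel_apply]; simp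
            rw [this]; exact one_mem X⟩
          add_mem' := fun {y₁ y₂} h1 h2 => ⟨by rw [polar_add_right, h1.1, h2.1, add_zero], fun a h => by
            have m1 := h1.2 a (polar_perp_smul h1.1 a)
            have m2 := h2.2 a (polar_perp_smul h2.1 a)
            have e1 := congrArg Subtype.val (sO_mul hfs (polar_perp_smul h1.1 a) (polar_perp_smul h2.1 a))
            have : siegel hfs h = siegel hfs (polar_perp_smul h1.1 a) * siegel hfs (polar_perp_smul h2.1 a) := by
              refine Eq.trans ?_ e1.symm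
              congr 1
              simp only [smul_add]
            rw [this]
            exact mul_mem m1 m2⟩
          smul_mem' := fun c y h1 => ⟨polar_perp_smul h1.1 c, fun a h => by
            have := h1.2 (a * c) (polar_perp_smul h1.1 _)
            simpa [mul_smul] using this⟩ }
      obtain ⟨r₀, hr₀, -, hfr, -⟩ := hO.pairing 0 ![] (fun j => j.elim0) (by omega) f hf (by simpa using hf0) 1 F₀.one_mem
      have hπ : ∀ i, Pi.single i (1 : F) - pbl Q' f (Pi.single i 1) • r₀ ∈ S := fun i => by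
        have hR : RV F₀ (Pi.single i (1 : F) - pbl Q' f (Pi.single i 1) • r₀) :=
          (rv_single i).sub (hr₀.smul (hform _ _ hf (rv_single i)))
        obtain ⟨t, s, ht, hs, hts, hss, hpt, hps, e'⟩ := hO.split (p := ![f]) (by intro j; fin_cases j; assumption)
          (by omega) hR (by intro j; fin_cases j; simp [hfr]) (fun h0 hm => h0 (by
            obtain ⟨c, hc⟩ := Submodule.mem_span_singleton.1 (Root.OverR.mem1.1 hm)
            rw [← hc]
            show Q' (c • f) = 0
            rw [map_smul', hfs, mul_zero]))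
        have hb : ∀ b, RV F₀ b → Q' b = 0 → pbl Q' f b = 0 → b ∈ S := fun b hb hbs hfb => ⟨hfb, fun a h => by
          obtain ⟨hpw, e1⟩ := hrt hfs hbs hfb a
          have : siegel hfs h = Root.rt (pbl Q') f b a := e1.symm
          rw [this]
          exact hC a f b hf hb hfs hbs hfb⟩
        rw [e']
        exact S.sub_mem (hb t ht hts (hpt 0)) (hb s hs hss (hps 0))
      have hyS : y ∈ S := by
        have h1 : (∑ i, y i • (Pi.single i (1 : F) - pbl Q' f (Pi.single i 1) • r₀) : ι → F) ∈ S :=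
          sum_mem fun i _ => S.smul_mem _ (hπ i)
        simp only [smul_sub, Finset.sum_sub_distrib, smul_smul, ← Finset.sum_smul, ← eq_sum_single y] at h1
        rwa [← apply_eq_sum, show pbl Q' f y = 0 from hy, zero_smul, sub_zero] at h1
      have := hyS.2 1 (by rwa [one_smul])
      simpa using this
    have hsiegel : ∀ {p w : ι → F} (hp : Q p = 0) (hpw : polar Q p w = 0), siegel hp hpw ∈ M' := by
      intro p w hp hpw
      rcases eq_or_ne p 0 with rfl | hp0
      · have : siegel hp hpw = 1 := LinearEquiv.ext fun z => by rw [siegel_apply]; simp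
        rw [this]; exact one_mem M'
      have hp1 : Q' (e⁻¹ p) = 0 := by rw [hQ'a, apply_inv, hp, mul_zero]
      obtain ⟨g₀, γ, f, hg₀, hf, hfs, hf0, hx⟩ := hO.orbit hout (fun a b ha hb hab α γ hγ h => ⟨0, by
          have h' : Q' (α • a + γ • b) = 0 := h
          rw [map_add', map_smul', map_smul', polar_smul_left, polar_smul_right, show Q' a = 0 from ha,
            show Q' b = 0 from hb, show polar Q' a b = 1 from hab] at h'
          simp [hγ] at h'
          simp [h']⟩) hp1 (fun h => hp0 (by rw [← apply_inv e p, h, map_zero]))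
      have hγ : γ ≠ 0 := fun h => hp0 (by rw [← apply_inv e p, hx, h, zero_smul, map_zero])
      set L := e * g₀ with hL
      have hLQ : ∀ x, Q' x = ζ * Q (L x) := fun x => by rw [hL, LinearEquiv.mul_apply, ← hQ'a]; exact (hg₀.2 x).symm
      have hpf : p = γ • L f := by rw [hL, LinearEquiv.mul_apply, ← map_smul, ← hx, apply_inv]
      set w' := (γ / ζ) • L⁻¹ w with hw'
      have hfw : polar Q' f w' = 0 := by
        rw [hpf, polar_smul_left, smul_eq_mul] at hpw
        have h1 : polar Q (L f) w = 0 := (mul_eq_zero.1 hpw).resolve_left hγ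
        have h2 : polar Q' f w' = ζ * polar Q (L f) (L w') := by
          simp only [polar, hLQ, map_add]
          ring
        rw [h2, hw', map_smul, apply_inv, polar_smul_right, h1, smul_zero, mul_zero]
      obtain ⟨hp', hpw', e2⟩ := htr L hLQ hfs hfw
      have hmem : L * siegel hfs hfw * L⁻¹ ∈ M' := by
        have h1 : g₀ * siegel hfs hfw * g₀⁻¹ ∈ X := mul_mem (mul_mem hg₀ (hall f hf hfs hf0 w' hfw)) (inv_mem hg₀)
        have h2 : e * (g₀ * siegel hfs hfw * g₀⁻¹) * e⁻¹ ∈ M' := h1.1
        rwa [show e * (g₀ * siegel hfs hfw * g₀⁻¹) * e⁻¹ = L * siegel hfs hfw * L⁻¹ by rw [hL]; group] at h2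
      have : siegel hp hpw = siegel hp' hpw' := LinearEquiv.ext fun x => by
        rw [siegel_apply, siegel_apply, hw', map_smul, apply_inv, smul_smul, mul_div_cancel₀ _ hζ, hpf, map_smul', polar_smul_right,
          polar_smul_right, smul_eq_mul, smul_eq_mul]
        match_scalars <;> field_simp
      rw [this, ← e2]
      exact hmem
    intro k hk
    obtain ⟨k', hk', e'⟩ := exists_oG_of_omega Q hk
    have hle' : eo Q ≤ M'.comap (oG Q).subtype := (Subgroup.closure_le _).2 (by
      rintro _ ⟨p, w, hp, hpw, rfl⟩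
      exact hsiegel hp hpw)
    have : glEquiv ι F k ∈ M' := e' ▸ hle' (commutator_le_eo hQ hn3 hk')
    obtain ⟨k'', hk'', e''⟩ := this
    exact (glEquiv ι F).injective e'' ▸ hk''

/-- maximality of a subfield subgroup of `Ω` -/
theorem isMaximalIn_subfield (Q : QuadraticForm F (ι → F)) (hQ : (polarBilin Q).Nondegenerate) (hn : 10 ≤ Fintype.card ι)
    (F₀ : Subfield F) {r : ℕ} (hr : r.Prime) (hcard : Fintype.card F = Nat.card F₀ ^ r) (P : GL ι F) {ζ : F} (hζ : ζ ≠ 0)
    (hP : ∀ u : ι → F, RV F₀ u → ζ * Q (glEquiv ι F P u) ∈ F₀) :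
    Cfsg.Geo.IsMaximalIn (Cfsg.Geo.omegaGL ⇑Q) (Cfsg.Geo.subfieldSubgroup F₀ P ⊓ Cfsg.Geo.omegaGL ⇑Q) :=
  isMaximalIn_subfield' Q hQ (by omega) F₀ hr hcard (Or.inl (by omega)) P hζ hP

end Cfsg.Agent.ClassicalMax.Subfield.RootOrth
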