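import Cfsg.Agent.ClassicalMax.Subfield.Generic
import Cfsg.Agent.ClassicalMax.Symplectic

/-!
A group of isometries of an alternating form containing the rational transvections over a subfield of prime index and
an element outside the normaliser of the rational structure contains all transvections.

Tools: the product `cr u v l` of three transvections with centres in an isotropic plane; a map carrying one rational
vector to a multiple of a rational one is rational up to a scalar; a malnormal abelian group on a plane extended by one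
moved vector gives the existence of an irrational parameter.
-/

set_option autoImplicit false
set_option linter.unusedSectionVars false
set_option linter.style.haveILetI false

namespace Cfsg.Agent.ClassicalMax.Subfield

open Module Cfsg.Agent.Classical

section Cross

variable {F V : Type*} [Field F] [AddCommGroup V] [Module F V] {B : LinearMap.BilinForm F V}

/-- the cross element of an isotropic pair -/
def cr (hA : B.IsAlt) (u v : V) (l : F) : V ≃ₗ[F] V :=
  Alt.tv hA (u + v) l * Alt.tv hA u (-l) * Alt.tv hA v (-l)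

theorem cr_apply (hA : B.IsAlt) {u v : V} (h : B u v = 0) (l : F) (x : V) :
    cr hA u v l x = x + (l * B x u) • v + (l * B x v) • u := by
  have h' : B v u = 0 := by rw [← LinearMap.IsAlt.neg hA, h, neg_zero]
  simp [cr, Alt.tv_apply, hA u, hA v, h, h']
  module

theorem cr_mem (hA : B.IsAlt) (u v : V) (l : F) : cr hA u v l ∈ Alt.isoGroup B :=
  mul_mem (mul_mem (Alt.tv_mem_isoGroup _ _ _) (Alt.tv_mem_isoGroup _ _ _)) (Alt.tv_mem_isoGroup _ _ _)

theorem cr_conj (hA : B.IsAlt) {g : V ≃ₗ[F] V} (hg : g ∈ Alt.isoGroup B) (u v : V) (l : F) :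
    g * cr hA u v l * g⁻¹ = cr hA (g u) (g v) l := by
  rw [cr, cr, ← map_add, ← Alt.conj_tv hA hg, ← Alt.conj_tv hA hg, ← Alt.conj_tv hA hg]
  group

theorem cr_comm (hA : B.IsAlt) {u v : V} (h : B u v = 0) (l : F) : cr hA u v l = cr hA v u l :=
  LinearEquiv.ext fun x => by
    rw [cr_apply hA h, cr_apply hA (by rw [← LinearMap.IsAlt.neg hA, h, neg_zero])]
    abel

theorem cr_smul_left (hA : B.IsAlt) {u v : V} (h : B u v = 0) (a l : F) : cr hA (a • u) v l = cr hA u v (a * l) :=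
  LinearEquiv.ext fun x => by
    rw [cr_apply hA h, cr_apply hA (by simp [h]), map_smul, smul_eq_mul, smul_smul]
    ring_nf

theorem cr_smul_right (hA : B.IsAlt) {u v : V} (h : B u v = 0) (a l : F) : cr hA u (a • v) l = cr hA u v (a * l) :=
  LinearEquiv.ext fun x => by
    rw [cr_apply hA h, cr_apply hA (by simp [h]), map_smul, smul_eq_mul, smul_smul]
    ring_nf

theorem cr_zero_right (hA : B.IsAlt) (u : V) (l : F) : cr hA u 0 l = 1 :=
  LinearEquiv.ext fun x => by rw [cr_apply hA (map_zero _)]; simp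

theorem cr_add_left (hA : B.IsAlt) {u w v : V} (hu : B u v = 0) (hw : B w v = 0) (huw : B u w = 0) (l : F) :
    cr hA (u + w) v l = cr hA u v l * cr hA w v l :=
  LinearEquiv.ext fun x => by
    have hvv : B v v = 0 := hA v
    have hvu : B v u = 0 := by rw [← LinearMap.IsAlt.neg hA, hu, neg_zero]
    have hwu : B w u = 0 := by rw [← LinearMap.IsAlt.neg hA, huw, neg_zero]
    rw [LinearEquiv.mul_apply, cr_apply hA hu, cr_apply hA hw, cr_apply hA (by simp [hu, hw])]
    simp [hu, hw, hvu, hvv, hwu]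
    module

theorem cr_add_scalar (hA : B.IsAlt) {u v : V} (h : B u v = 0) (a b : F) :
    cr hA u v (a + b) = cr hA u v a * cr hA u v b :=
  LinearEquiv.ext fun x => by
    have h' : B v u = 0 := by rw [← LinearMap.IsAlt.neg hA, h, neg_zero]
    rw [LinearEquiv.mul_apply, cr_apply hA h, cr_apply hA h, cr_apply hA h]
    simp [h, h', hA u, hA v]
    module

theorem cr_self (hA : B.IsAlt) (v : V) (l : F) : cr hA v v l = Alt.tv hA v (2 * l) :=
  LinearEquiv.ext fun x => by
    rw [cr_apply hA (hA v), Alt.tv_apply]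
    module

theorem tv_add_smul (hA : B.IsAlt) {u v : V} (h : B u v = 0) (b c : F) :
    Alt.tv hA (u + b • v) c = Alt.tv hA u c * cr hA u v (c * b) * Alt.tv hA v (c * b ^ 2) :=
  LinearEquiv.ext fun x => by
    have h' : B v u = 0 := by rw [← LinearMap.IsAlt.neg hA, h, neg_zero]
    rw [LinearEquiv.mul_apply, LinearEquiv.mul_apply, cr_apply hA h]
    simp [Alt.tv_apply, hA u, hA v, h, h']
    module

end Cross

variable {ι : Type} [Fintype ι] [DecidableEq ι] {F : Type*} [Field F] [Fintype F]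

/-- the hypotheses on the group -/
structure OverSp (F₀ : Subfield F) (B : LinearMap.BilinForm F (ι → F)) (X : Subgroup ((ι → F) ≃ₗ[F] (ι → F))) : Prop where
  alt : B.IsAlt
  nd : ∀ x, (∀ y, B x y = 0) → x = 0
  form : ∀ u v : ι → F, RV F₀ u → RV F₀ v → B u v ∈ F₀
  card : 6 ≤ Fintype.card ι
  prime : ∃ r : ℕ, r.Prime ∧ Fintype.card F = Nat.card F₀ ^ r
  iso : X ≤ Alt.isoGroup B
  rat : ∀ (v : ι → F) (c : F), RV F₀ v → c ∈ F₀ → Alt.tv alt v c ∈ X

namespace OverSp

variable {F₀ : Subfield F} {B : LinearMap.BilinForm F (ι → F)} {X : Subgroup ((ι → F) ≃ₗ[F] (ι → F))}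

theorem swap (hO : OverSp F₀ B X) {u v : ι → F} (h : B u v = 0) : B v u = 0 := by
  rw [← LinearMap.IsAlt.neg hO.alt, h, neg_zero]

theorem mem2 {a b x : ι → F} : x ∈ Submodule.span F (Set.range ![a, b]) ↔ ∃ s t : F, s • a + t • b = x := by
  rw [Submodule.mem_span_range_iff_exists_fun]
  constructor
  · rintro ⟨c, hc⟩
    exact ⟨c 0, c 1, by rw [← hc, Fin.sum_univ_two]; rfl⟩
  · rintro ⟨s, t, h⟩
    exact ⟨![s, t], by rw [← h, Fin.sum_univ_two]; rfl⟩

theorem mem1 {a x : ι → F} : x ∈ Submodule.span F (Set.range ![a]) ↔ x ∈ F ∙ a := by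
  rw [Matrix.range_cons, Matrix.range_empty, Set.union_empty]

theorem exists_of_rf (hO : OverSp F₀ B X) {f : Dual F (ι → F)} (hf : RF F₀ f) : ∃ y, RV F₀ y ∧ ∀ x, B y x = f x := by
  haveI : Fintype F₀ := Fintype.ofFinite F₀
  let L : (ι → F₀) →ₗ[F₀] (ι → F₀) :=
    { toFun := fun y i => ⟨B (fun j => (y j : F)) (Pi.single i 1), hO.form _ _ (fun j => (y j).2) (rv_single i)⟩
      map_add' := fun a b => funext fun i => Subtype.ext (by
        show B (fun j => ((a + b) j : F)) (Pi.single i 1) = B _ _ + B _ _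
        rw [← LinearMap.add_apply, ← map_add]
        rfl)
      map_smul' := fun a b => funext fun i => Subtype.ext (by
        show B (fun j => ((a • b) j : F)) (Pi.single i 1) = (a : F) * B _ _
        rw [← smul_eq_mul, ← LinearMap.smul_apply, ← map_smul]
        rfl) }
  have hinj : Function.Injective L := (injective_iff_map_eq_zero L).2 fun y hy => by
    have h0 : (fun j => (y j : F)) = 0 := hO.nd _ fun z => by
      rw [apply_eq_sum (B fun j => (y j : F)) z]
      refine Finset.sum_eq_zero fun i _ => ?_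
      rw [show B (fun j => (y j : F)) (Pi.single i 1) = 0 from congrArg Subtype.val (congrFun hy i), mul_zero]
    exact funext fun j => Subtype.ext (congrFun h0 j)
  obtain ⟨y, hy⟩ := LinearMap.surjective_of_injective hinj (fun i => ⟨f (Pi.single i 1), hf i⟩)
  refine ⟨fun j => (y j : F), fun j => (y j).2, fun x => ?_⟩
  rw [apply_eq_sum (B fun j => (y j : F)) x, apply_eq_sum f x]
  refine Finset.sum_congr rfl fun i _ => ?_
  congr 1
  exact congrArg Subtype.val (congrFun hy i)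

theorem rv_of_forms (hO : OverSp F₀ B X) {k : ι → F} (h : ∀ i, B (Pi.single i 1) k ∈ F₀) : RV F₀ k := by
  obtain ⟨y, hy, hyk⟩ := hO.exists_of_rf (f := B k) fun i => by
    rw [← LinearMap.IsAlt.neg hO.alt]
    exact F₀.neg_mem (h i)
  have : k = y := sub_eq_zero.1 (hO.nd _ fun z => by rw [map_sub, LinearMap.sub_apply, hyk, sub_self])
  rwa [this]

theorem exists_dual (hO : OverSp F₀ B X) {k : ℕ} {w : Fin k → ι → F} (hw : ∀ j, RV F₀ (w j)) {x : ι → F} (hx : RV F₀ x)
    (h : x ∉ Submodule.span F (Set.range w)) : ∃ y, RV F₀ y ∧ B y x = 1 ∧ ∀ j, B y (w j) = 0 := by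
  obtain ⟨f, hf, hfx, hfw⟩ := exists_rf_sep hw hx h
  obtain ⟨y, hy, e⟩ := hO.exists_of_rf hf
  exact ⟨y, hy, by rw [e, hfx], fun j => by rw [e, hfw]⟩

theorem exists_perp (hO : OverSp F₀ B X) {k l : ℕ} {p : Fin k → ι → F} (hp : ∀ i, RV F₀ (p i)) {w : Fin l → ι → F}
    (hw : ∀ j, RV F₀ (w j)) (h : k + l < Fintype.card ι) :
    ∃ x, RV F₀ x ∧ (∀ i, B x (p i) = 0) ∧ x ∉ Submodule.span F (Set.range w) := by
  obtain ⟨x, hx, hxp, hxw⟩ := exists_avoid (fun i => B (p i)) (fun i j => hO.form _ _ (hp i) (rv_single j)) w hw h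
  exact ⟨x, hx, fun i => hO.swap (hxp i), hxw⟩

theorem cr_mem_rat (hO : OverSp F₀ B X) {u v : ι → F} (hu : RV F₀ u) (hv : RV F₀ v) {l : F} (hl : l ∈ F₀) :
    cr hO.alt u v l ∈ X :=
  mul_mem (mul_mem (hO.rat _ _ (hu.add hv) hl) (hO.rat _ _ hu (F₀.neg_mem hl))) (hO.rat _ _ hv (F₀.neg_mem hl))

theorem conj_mem {g a : (ι → F) ≃ₗ[F] (ι → F)} (hg : g ∈ X) (ha : a ∈ X) : g * a * g⁻¹ ∈ X :=
  mul_mem (mul_mem hg ha) (inv_mem hg)

/-- a rational element moving `u` by `w` and fixing `v` -/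
theorem move (hO : OverSp F₀ B X) {u w v : ι → F} (hu : RV F₀ u) (hw : RV F₀ w) (hv : RV F₀ v) (hwu : B w u = 0)
    (hwv : B w v = 0) (h : u ∉ Submodule.span F (Set.range ![w, v])) :
    ∃ g ∈ X, g u = u + w ∧ g v = v := by
  obtain ⟨y, hy, hyu, hy0⟩ := hO.exists_dual (w := ![w, v]) (by intro j; fin_cases j <;> assumption) hu h
  have hwy : B w y = 0 := hO.swap (hy0 0)
  refine ⟨cr hO.alt w y (-1), hO.cr_mem_rat hw hy (F₀.neg_mem F₀.one_mem), ?_, ?_⟩
  · rw [cr_apply hO.alt hwy, hO.swap hwu, show B u y = -1 by rw [← hyu, LinearMap.IsAlt.neg hO.alt]]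
    simp
  · rw [cr_apply hO.alt hwy, hO.swap hwv, hO.swap (show B y v = 0 from hy0 1)]
    simp

/-- the parameters of cross elements -/
def C (hO : OverSp F₀ B X) : Set F :=
  {l | ∀ u v : ι → F, RV F₀ u → RV F₀ v → B u v = 0 → cr hO.alt u v l ∈ X}

theorem cr_step (hO : OverSp F₀ B X) {a b z : ι → F} {l : F} (ha : RV F₀ a) (hb : RV F₀ b) (hz : RV F₀ z)
    (hab : B a b = 0) (hba : a ∉ F ∙ b) (hzb : B z b = 0) (h : cr hO.alt a b l ∈ X) : cr hO.alt z b l ∈ X := by
  have main : ∀ a z : ι → F, RV F₀ a → RV F₀ z → B a b = 0 → a ∉ F ∙ b → B z a = 0 → B z b = 0 →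
      z ∉ Submodule.span F (Set.range ![a, b]) → cr hO.alt a b l ∈ X → cr hO.alt z b l ∈ X := by
    intro a z ha hz hab hba hza hzb hzab h
    obtain ⟨g, hg, hga, hgb⟩ := hO.move ha hz hb hza hzb (fun hm => by
      obtain ⟨s, t, e⟩ := mem2.1 hm
      by_cases hs : s = 0
      · exact hba (Submodule.mem_span_singleton.2 ⟨t, by rw [← e, hs, zero_smul, zero_add]⟩)
      · exact hzab (mem2.2 ⟨s⁻¹, -(s⁻¹ * t), by
          rw [← e, smul_add, smul_smul, smul_smul, inv_mul_cancel₀ hs, one_smul, neg_smul, add_neg_cancel_right]⟩))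
    have h1 := conj_mem hg h
    rw [cr_conj hO.alt (hO.iso hg), hga, hgb, add_comm a z, cr_add_left hO.alt hzb hab hza] at h1
    simpa using mul_mem h1 (inv_mem h)
  by_cases hdir : B z a = 0 ∧ z ∉ Submodule.span F (Set.range ![a, b])
  · exact main a z ha hz hab hba hdir.1 hzb hdir.2 h
  obtain ⟨w, hw, hwa, hwb, hwz, hwn⟩ : ∃ w, RV F₀ w ∧ B w a = 0 ∧ B w b = 0 ∧ B w z = 0 ∧
      w ∉ Submodule.span F (Set.range ![a, b, z]) := by
    have hmem3 : ∀ w, w ∈ Submodule.span F (Set.range ![a, b, z]) → ∃ s t r : F, s • a + t • b + r • z = w :=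
      fun w hm => by
      obtain ⟨c, hc⟩ := (Submodule.mem_span_range_iff_exists_fun _).1 hm
      rw [Fin.sum_univ_three] at hc
      exact ⟨c 0, c 1, c 2, hc⟩
    by_cases hzs : z ∈ Submodule.span F (Set.range ![a, b])
    · obtain ⟨w, hw, hwp, hwn⟩ := hO.exists_perp (p := ![a, b]) (w := ![a, b]) (by intro j; fin_cases j <;> assumption)
        (by intro j; fin_cases j <;> assumption) (by have := hO.card; omega)
      obtain ⟨s₁, t₁, rfl⟩ := mem2.1 hzs
      refine ⟨w, hw, hwp 0, hwp 1, by simp [show B w a = 0 from hwp 0, show B w b = 0 from hwp 1], fun hm => hwn ?_⟩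
      obtain ⟨s, t, r, e⟩ := hmem3 _ hm
      exact mem2.2 ⟨s + r * s₁, t + r * t₁, by rw [← e]; module⟩
    · have hne : B z a ≠ 0 := fun h0 => hdir ⟨h0, hzs⟩
      obtain ⟨w, hw, hwp, hwn⟩ := hO.exists_perp (p := ![a, b, z]) (w := ![b]) (by intro j; fin_cases j <;> assumption)
        (by intro j; fin_cases j; assumption) (by have := hO.card; omega)
      refine ⟨w, hw, hwp 0, hwp 1, hwp 2, fun hm => hwn ?_⟩
      obtain ⟨s, t, r, rfl⟩ := hmem3 _ hm
      have e1 : B (s • a + t • b + r • z) a = 0 := hwp 0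
      have e2 : B (s • a + t • b + r • z) z = 0 := hwp 2
      simp [hO.alt a, hO.swap hab, hne] at e1
      simp [hO.alt z, hO.swap hzb, ← LinearMap.IsAlt.neg hO.alt z a, hne] at e2
      exact mem1.2 (Submodule.mem_span_singleton.2 ⟨t, by rw [e1, e2]; simp⟩)
  have hmem : ∀ s t r : F, w ≠ s • a + t • b + r • z := fun s t r e => hwn (by
    rw [Submodule.mem_span_range_iff_exists_fun]
    exact ⟨![s, t, r], by rw [e, Fin.sum_univ_three]; rfl⟩)
  have hw1 : cr hO.alt w b l ∈ X := main a w ha hw hab hba hwa hwb (fun hm => by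
    obtain ⟨s, t, e⟩ := mem2.1 hm
    exact hmem s t 0 (by rw [← e, zero_smul, add_zero])) h
  by_cases hzbm : z ∈ F ∙ b
  · obtain ⟨c, rfl⟩ := Submodule.mem_span_singleton.1 hzbm
    have h2 := main a (w + c • b) ha (hw.add hz) hab hba (by simp [hwa, hO.swap hab]) (by simp [hwb, hO.alt b]) (fun hm => by
      obtain ⟨s, t, e⟩ := mem2.1 hm
      exact hmem s (t - c) 0 (by rw [zero_smul, add_zero, sub_smul, ← add_sub_assoc, e, add_sub_cancel_right])) h
    rw [cr_add_left hO.alt hwb (by simp [hO.alt b]) (by simp [hwb])] at h2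
    simpa using mul_mem (inv_mem hw1) h2
  · refine main w z hw hz hwb (fun hm => ?_) (hO.swap hwz) hzb (fun hm => ?_) hw1
    · obtain ⟨c, e⟩ := Submodule.mem_span_singleton.1 hm
      exact hmem 0 c 0 (by rw [zero_smul, zero_add, zero_smul, add_zero, e])
    · obtain ⟨s, t, e⟩ := mem2.1 hm
      by_cases hs : s = 0
      · exact hzbm (Submodule.mem_span_singleton.2 ⟨t, by rw [← e, hs, zero_smul, zero_add]⟩)
      · exact hmem 0 (-(s⁻¹ * t)) s⁻¹ (by
          rw [zero_smul, zero_add, ← e, smul_add, smul_smul, smul_smul, inv_mul_cancel₀ hs, one_smul, neg_smul,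
            add_left_comm, neg_add_cancel, add_zero])

theorem C_of_one (hO : OverSp F₀ B X) {a b : ι → F} {l : F} (ha : RV F₀ a) (hb : RV F₀ b) (hab : B a b = 0)
    (hba : a ∉ F ∙ b) (hb0 : b ≠ 0) (h : cr hO.alt a b l ∈ X) : l ∈ hO.C := by
  intro u v hu hv huv
  rcases eq_or_ne v 0 with rfl | hv0
  · rw [cr_zero_right]; exact one_mem X
  obtain ⟨w, hw, hwp, hwn⟩ := hO.exists_perp (p := ![b, v]) (w := ![b, v]) (by intro j; fin_cases j <;> assumption)
    (by intro j; fin_cases j <;> assumption) (by have := hO.card; omega)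
  have hwb : B w b = 0 := hwp 0
  have hwv : B w v = 0 := hwp 1
  have hnb : w ∉ F ∙ b := fun hm => hwn (Submodule.span_mono (Set.singleton_subset_iff.2 (by exact ⟨0, rfl⟩)) hm)
  have hnv : w ∉ F ∙ v := fun hm => hwn (Submodule.span_mono (Set.singleton_subset_iff.2 (by exact ⟨1, rfl⟩)) hm)
  have h1 : cr hO.alt w b l ∈ X := hO.cr_step ha hb hw hab hba hwb h
  rw [cr_comm hO.alt hwb] at h1
  have hbw : b ∉ F ∙ w := fun hm => by
    obtain ⟨c, e⟩ := Submodule.mem_span_singleton.1 hm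
    have hc : c ≠ 0 := by rintro rfl; exact hb0 (by rw [← e, zero_smul])
    exact hnb (Submodule.mem_span_singleton.2 ⟨c⁻¹, by rw [← e, smul_smul, inv_mul_cancel₀ hc, one_smul]⟩)
  have h2 : cr hO.alt v w l ∈ X := hO.cr_step hb hw hv (hO.swap hwb) hbw (hO.swap hwv) h1
  rw [cr_comm hO.alt (hO.swap hwv)] at h2
  exact hO.cr_step hw hv hu hwv hnv huv h2

theorem C_of_centre (hO : OverSp F₀ B X) {u v : ι → F} {l : F} (hu : RV F₀ u) (hv : RV F₀ v) (huv : B u v = 0)
    (hnv : u ∉ F ∙ v) (hv0 : v ≠ 0) (h : Alt.tv hO.alt (u + l • v) 1 ∈ X) : l ∈ hO.C := by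
  rw [tv_add_smul hO.alt huv, one_mul, one_mul] at h
  have hE : cr hO.alt u v l * Alt.tv hO.alt v (l ^ 2) ∈ X := by
    have := mul_mem (inv_mem (hO.rat u 1 hu F₀.one_mem)) h
    rwa [mul_assoc (Alt.tv hO.alt u 1), inv_mul_cancel_left] at this
  obtain ⟨w, hw, hwp, hwn⟩ := hO.exists_perp (p := ![u, v]) (w := ![u, v]) (by intro j; fin_cases j <;> assumption)
    (by intro j; fin_cases j <;> assumption) (by have := hO.card; omega)
  have hwu : B w u = 0 := hwp 0
  have hwv : B w v = 0 := hwp 1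
  obtain ⟨g, hg, hgu, hgv⟩ := hO.move hu hw hv hwu hwv (fun hm => by
    obtain ⟨s, t, e⟩ := mem2.1 hm
    by_cases hs : s = 0
    · exact hnv (Submodule.mem_span_singleton.2 ⟨t, by rw [← e, hs, zero_smul, zero_add]⟩)
    · exact hwn (mem2.2 ⟨s⁻¹, -(s⁻¹ * t), by
        rw [← e, smul_add, smul_smul, smul_smul, inv_mul_cancel₀ hs, one_smul, neg_smul, add_neg_cancel_right]⟩))
  have h1 := mul_mem (conj_mem hg hE) (inv_mem hE)
  have e : g * (cr hO.alt u v l * Alt.tv hO.alt v (l ^ 2)) * g⁻¹ =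
      cr hO.alt (g u) (g v) l * Alt.tv hO.alt (g v) (l ^ 2) := by
    rw [← cr_conj hO.alt (hO.iso hg), ← Alt.conj_tv hO.alt (hO.iso hg)]
    group
  rw [e, hgu, hgv, add_comm u w, cr_add_left hO.alt hwv huv hwu] at h1
  refine hO.C_of_one hw hv hwv (fun hm => hwn (Submodule.span_mono (Set.singleton_subset_iff.2 (by exact ⟨1, rfl⟩)) hm)) hv0 ?_
  simpa [mul_assoc] using h1

theorem C_sq (hO : OverSp F₀ B X) {l : F} (hl : l ∈ hO.C) {v : ι → F} (hv : RV F₀ v) :
    Alt.tv hO.alt v (l ^ 2) ∈ X := by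
  rcases eq_or_ne v 0 with rfl | hv0
  · have : Alt.tv hO.alt (0 : ι → F) (l ^ 2) = 1 := LinearEquiv.ext fun x => by simp [Alt.tv_apply]
    rw [this]; exact one_mem X
  obtain ⟨u, hu, hup, hun⟩ := hO.exists_perp (p := ![v]) (w := ![v]) (by intro j; fin_cases j; assumption)
    (by intro j; fin_cases j; assumption) (by have := hO.card; omega)
  have huv : B u v = 0 := hup 0
  obtain ⟨x, hx, hxu, hx0⟩ := hO.exists_dual (w := ![v]) (by intro j; fin_cases j; assumption) hu hun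
  have hxv : B x v = 0 := hx0 0
  have h1 := conj_mem (hl u v hu hv huv) (hO.rat x 1 hx F₀.one_mem)
  rw [Alt.conj_tv hO.alt (cr_mem _ _ _ _), cr_apply hO.alt huv, hxu, hxv, mul_one, mul_zero, zero_smul, add_zero,
    tv_add_smul hO.alt hxv, one_mul, one_mul] at h1
  simpa [mul_assoc] using mul_mem (inv_mem (mul_mem (hO.rat x 1 hx F₀.one_mem) (hl x v hx hv hxv))) h1

theorem C_of_tv (hO : OverSp F₀ B X) {e : F} {v : ι → F} (hv : RV F₀ v) (hv0 : v ≠ 0) (h : Alt.tv hO.alt v e ∈ X) :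
    e ∈ hO.C := by
  have step : ∀ a z : ι → F, RV F₀ a → RV F₀ z → a ≠ 0 → B z a = 0 → z ∉ F ∙ a → Alt.tv hO.alt a e ∈ X →
      Alt.tv hO.alt z e ∈ X := by
    intro a z ha hz ha0 hza hn h
    obtain ⟨g, hg, hga, -⟩ := hO.move (u := a) (w := z - a) (v := 0) ha (hz.sub ha) (fun _ => F₀.zero_mem)
      (by simp [hza, hO.alt a]) (map_zero _) (fun hm => by
        obtain ⟨s, t, e⟩ := mem2.1 hm
        rw [smul_zero, add_zero, smul_sub] at e
        have hs : s ≠ 0 := by rintro rfl; rw [zero_smul, zero_smul, sub_zero] at e; exact ha0 e.symm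
        exact hn (Submodule.mem_span_singleton.2 ⟨s⁻¹ * (1 + s), by
          rw [mul_smul, add_smul, one_smul]
          conv_lhs => arg 2; arg 1; rw [← e]
          rw [sub_add_cancel, smul_smul, inv_mul_cancel₀ hs, one_smul]⟩))
    have h1 := conj_mem hg h
    rwa [Alt.conj_tv hO.alt (hO.iso hg), hga, add_sub_cancel] at h1
  have hall : ∀ z : ι → F, RV F₀ z → Alt.tv hO.alt z e ∈ X := by
    intro z hz
    rcases eq_or_ne z 0 with rfl | hz0
    · have : Alt.tv hO.alt (0 : ι → F) e = 1 := LinearEquiv.ext fun x => by simp [Alt.tv_apply]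
      rw [this]; exact one_mem X
    obtain ⟨m, hm, hmp, hmn⟩ := hO.exists_perp (p := ![v, z]) (w := ![v, z]) (by intro j; fin_cases j <;> assumption)
      (by intro j; fin_cases j <;> assumption) (by have := hO.card; omega)
    have hmv : m ∉ F ∙ v := fun h' => hmn (Submodule.span_mono (Set.singleton_subset_iff.2 (by exact ⟨0, rfl⟩)) h')
    have hm0 : m ≠ 0 := fun h' => hmv (by rw [h']; exact zero_mem _)
    refine step m z hm hz hm0 (hO.swap (hmp 1)) (fun h' => ?_) (step v m hv hm hv0 (hmp 0) hmv h)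
    obtain ⟨c, ec⟩ := Submodule.mem_span_singleton.1 h'
    have hc : c ≠ 0 := by rintro rfl; exact hz0 (by rw [← ec, zero_smul])
    exact hmn (mem2.2 ⟨0, c⁻¹, by rw [← ec, zero_smul, zero_add, smul_smul, inv_mul_cancel₀ hc, one_smul]⟩)
  intro u w hu hw _
  have hn : ∀ z : ι → F, RV F₀ z → Alt.tv hO.alt z (-e) ∈ X := fun z hz => by
    rw [← Alt.tv_inv]; exact inv_mem (hall z hz)
  exact mul_mem (mul_mem (hall _ (hu.add hw)) (hn u hu)) (hn w hw)

theorem rv_perp_decomp (hO : OverSp F₀ B X) {v k : ι → F} (hv : RV F₀ v) (hv0 : v ≠ 0)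
    (h : ∀ u, RV F₀ u → B u v = 0 → B u k ∈ F₀) : ∃ β : F, RV F₀ (k - β • v) := by
  obtain ⟨y, hy, hyv, -⟩ := hO.exists_dual (w := ![]) (fun j => j.elim0) hv (by simpa using hv0)
  refine ⟨B y k, hO.rv_of_forms fun i => ?_⟩
  set t := B (Pi.single i 1) v with ht
  have htF : t ∈ F₀ := hO.form _ _ (rv_single i) hv
  have h1 := h (Pi.single i 1 - t • y) ((rv_single i).sub (hy.smul htF)) (by simp [hyv, ← ht])
  have e : B (Pi.single i 1) (k - B y k • v) = B (Pi.single i 1 - t • y) k := by simp [← ht, mul_comm]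
  rw [e]
  exact h1

theorem rat_perp (hO : OverSp F₀ B X) (hC : ∀ l ∈ hO.C, l ∈ F₀) {x : (ι → F) ≃ₗ[F] (ι → F)} (hx : x ∈ X) {v v' : ι → F}
    (hv : RV F₀ v) (hv' : RV F₀ v') (hv0 : v ≠ 0) (hv'0 : v' ≠ 0) {b : F} (hxv : x v = b • v') {h : ι → F}
    (hh : RV F₀ h) (hhv : B h v = 0) : RV F₀ (b • x h) := by
  have hxi := hO.iso hx
  have hb : b ≠ 0 := by
    rintro rfl
    exact hv0 (x.map_eq_zero_iff.1 (by rw [hxv, zero_smul]))
  have hb2 : b ^ 2 ∈ F₀ := by
    have h1 := conj_mem hx (hO.rat v 1 hv F₀.one_mem)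
    rw [Alt.conj_tv hO.alt hxi, hxv, Alt.tv_smul, mul_one] at h1
    exact hC _ (hO.C_of_tv hv' hv'0 h1)
  set k := b • x h with hk
  have hhv' : B (x h) v' = 0 := by
    have h1 : B (x h) (x v) = 0 := by rw [hxi, hhv]
    rw [hxv, map_smul, smul_eq_mul] at h1
    exact (mul_eq_zero.1 h1).resolve_left hb
  have hkv : B k v' = 0 := by rw [hk, map_smul, LinearMap.smul_apply, hhv', smul_zero]
  have hq : cr hO.alt v' k 1 ∈ X := by
    have h1 := conj_mem hx (hO.cr_mem_rat hv hh F₀.one_mem)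
    rw [cr_conj hO.alt hxi, hxv, cr_smul_left hO.alt (hO.swap hhv')] at h1
    rwa [hk, cr_smul_right hO.alt (hO.swap hhv')]
  obtain ⟨β, hβ⟩ := hO.rv_perp_decomp hv' hv'0 (k := k) fun u hu huv => by
    by_cases hum : u ∈ F ∙ v'
    · obtain ⟨c, rfl⟩ := Submodule.mem_span_singleton.1 hum
      simp [hO.swap hkv]
    have h1 := conj_mem hq (hO.rat u 1 hu F₀.one_mem)
    rw [Alt.conj_tv hO.alt (cr_mem _ _ _ _), cr_apply hO.alt (hO.swap hkv), huv, mul_zero, zero_smul, add_zero, one_mul] at h1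
    exact hC _ (hO.C_of_centre hu hv' huv hum hv'0 h1)
  set k₀ := k - β • v' with hk₀
  have hkk : k = k₀ + β • v' := by rw [hk₀, sub_add_cancel]
  by_cases hk₀m : k₀ ∈ F ∙ v'
  · obtain ⟨c, hc⟩ := Submodule.mem_span_singleton.1 hk₀m
    have hkc : k = (c + β) • v' := by rw [hkk, ← hc, add_smul]
    have hhc : ((c + β) / b ^ 2) • v = h := x.injective (by
      have : x h = b⁻¹ • k := by rw [hk, smul_smul, inv_mul_cancel₀ hb, one_smul]
      rw [map_smul, hxv, smul_smul, this, hkc, smul_smul]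
      congr 1
      field_simp)
    have := F₀.mul_mem (rv_scalar hv hh hv0 hhc) hb2
    rw [div_mul_cancel₀ _ (pow_ne_zero 2 hb)] at this
    rw [hkc]
    exact hv'.smul this
  · have h1 := conj_mem hx (hO.rat h (b ^ 2) hh hb2)
    rw [Alt.conj_tv hO.alt hxi, show Alt.tv hO.alt (x h) (b ^ 2) = Alt.tv hO.alt k 1 by rw [hk, Alt.tv_smul, mul_one], hkk] at h1
    have hk₀v : B k₀ v' = 0 := by rw [hk₀]; simp [hkv, hO.alt v']
    rw [hkk]
    exact hβ.add (hv'.smul (hC _ (hO.C_of_centre hβ hv' hk₀v hk₀m hv'0 h1)))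

/-- a map carrying a rational vector to a multiple of a rational vector is rational up to a scalar -/
theorem ratty_of_move (hO : OverSp F₀ B X) (hC : ∀ l ∈ hO.C, l ∈ F₀) {x : (ι → F) ≃ₗ[F] (ι → F)} (hx : x ∈ X) {v v' : ι → F}
    (hv : RV F₀ v) (hv' : RV F₀ v') (hv0 : v ≠ 0) (hv'0 : v' ≠ 0) {b : F} (hxv : x v = b • v') : Ratty F₀ x := by
  have hxi := hO.iso hx
  have hb : b ≠ 0 := by
    rintro rfl
    exact hv0 (x.map_eq_zero_iff.1 (by rw [hxv, zero_smul]))
  have hb2 : b ^ 2 ∈ F₀ := by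
    have h1 := conj_mem hx (hO.rat v 1 hv F₀.one_mem)
    rw [Alt.conj_tv hO.alt hxi, hxv, Alt.tv_smul, mul_one] at h1
    exact hC _ (hO.C_of_tv hv' hv'0 h1)
  obtain ⟨f, hf, hfv, -⟩ := hO.exists_dual (w := ![]) (fun j => j.elim0) hv (by simpa using hv0)
  suffices hkf : RV F₀ (b • x f) by
    refine ⟨b, hb, fun i => ?_⟩
    set t := B (Pi.single i 1) v with ht
    have htF : t ∈ F₀ := hO.form _ _ (rv_single i) hv
    have h1 := hO.rat_perp hC hx hv hv' hv0 hv'0 hxv (h := Pi.single i 1 - t • f) ((rv_single i).sub (hf.smul htF))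
      (by simp [hfv, ← ht])
    have h2 := h1.add (hkf.smul htF)
    rwa [map_sub, map_smul, smul_sub, smul_comm t b, sub_add_cancel] at h2
  set k := b • x f with hk
  have hkv : B k v' = 1 := by
    rw [hk, map_smul, LinearMap.smul_apply, ← map_smul (B (x f)), ← hxv, hxi, hfv]
  have hxi' : x⁻¹ v' = b⁻¹ • v := by
    have := congrArg (fun z => x⁻¹ z) hxv
    simp only [map_smul, inv_apply] at this
    rw [this, smul_smul, inv_mul_cancel₀ hb, one_smul]
  obtain ⟨β, hβ⟩ := hO.rv_perp_decomp hv' hv'0 (k := k) fun u hu huv => by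
    have h1 := hO.rat_perp hC (inv_mem hx) hv' hv hv'0 hv0 hxi' hu huv
    have h2 : B u k = b ^ 2 * B (b⁻¹ • x⁻¹ u) f := by
      have h3 : B u (x f) = B (x⁻¹ u) f := by
        conv_lhs => rw [← apply_inv x u]
        exact hxi _ _
      rw [hk, map_smul, smul_eq_mul, map_smul, LinearMap.smul_apply, smul_eq_mul, h3]
      field_simp
    rw [h2]
    exact F₀.mul_mem hb2 (hO.form _ _ h1 hf)
  set k₀ := k - β • v' with hk₀
  have hkk : k = k₀ + β • v' := by rw [hk₀, sub_add_cancel]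
  have hk₀v : B k₀ v' = 1 := by rw [hk₀]; simp [hkv, hO.alt v']
  obtain ⟨u, hu, hup, hun⟩ := hO.exists_perp (p := ![k₀, v']) (w := ![v'])
    (by intro j; fin_cases j <;> assumption) (by intro j; fin_cases j; assumption) (by have := hO.card; omega)
  have huk : B u k₀ = 0 := hup 0
  have huv : B u v' = 0 := hup 1
  have hunv : u ∉ F ∙ v' := fun h => hun (mem1.2 h)
  obtain ⟨g, hg, hgv, hgk⟩ := hO.move hv' hu hβ huv huk (fun hm => by
    obtain ⟨s, t, e⟩ := mem2.1 hm
    have ht : t = 0 := by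
      have := congrArg (fun z => B z v') e
      simpa [huv, hk₀v, hO.alt v'] using this
    have hs : s ≠ 0 := by rintro rfl; exact hv'0 (by rw [← e, ht, zero_smul, zero_smul, add_zero])
    exact hunv (Submodule.mem_span_singleton.2 ⟨s⁻¹, by rw [← e, ht, zero_smul, add_zero, smul_smul, inv_mul_cancel₀ hs, one_smul]⟩))
  have htk : Alt.tv hO.alt k 1 ∈ X := by
    have h1 := conj_mem hx (hO.rat f (b ^ 2) hf hb2)
    rwa [Alt.conj_tv hO.alt hxi, show Alt.tv hO.alt (x f) (b ^ 2) = Alt.tv hO.alt k 1 by rw [hk, Alt.tv_smul, mul_one]] at h1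
  have hgk' : g k = k + β • u := by rw [hkk, map_add, map_smul, hgk, hgv, smul_add, add_assoc]
  have htk' : Alt.tv hO.alt (k + β • u) 1 ∈ X := by
    have h1 := conj_mem hg htk
    rwa [Alt.conj_tv hO.alt (hO.iso hg), hgk'] at h1
  have hDX : Alt.tv hO.alt (k + β • u) 1 * (Alt.tv hO.alt k 1)⁻¹ ∈ X := mul_mem htk' (inv_mem htk)
  have hvk : B v' k = -1 := by rw [← LinearMap.IsAlt.neg hO.alt, hkv]
  have huk' : B u k = 0 := by rw [hkk]; simp [huk, huv]
  have hu0 : u ≠ 0 := fun e => hunv (by rw [e]; exact zero_mem _)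
  have h1 := hO.rat_perp hC hDX hu hu hu0 hu0 (b := 1) (by
    rw [LinearEquiv.mul_apply, Alt.tv_inv, Alt.tv_apply, Alt.tv_apply]
    simp [huk', hO.alt u]) hv' (hO.swap huv)
  have e : (Alt.tv hO.alt (k + β • u) 1 * (Alt.tv hO.alt k 1)⁻¹) v' = v' - β • u := by
    rw [LinearEquiv.mul_apply, Alt.tv_inv, Alt.tv_apply, Alt.tv_apply]
    simp [hvk, hO.alt k, hO.swap huk', hO.swap huv]
    abel
  rw [one_smul, e] at h1
  have hβF : β ∈ F₀ := rv_scalar hu (hv'.sub h1) hu0 (by rw [sub_sub_cancel])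
  rw [hkk]
  exact hβ.add (hv'.smul hβF)

theorem exists_plane (hO : OverSp F₀ B X) {v' : ι → F} (h : ∀ w, RV F₀ w → v' ∉ F ∙ w) :
    ∃ v u : ι → F, RV F₀ v ∧ RV F₀ u ∧ B u v = 0 ∧ v ≠ 0 ∧ u ∉ F ∙ v ∧
      ∀ x, RV F₀ x → v' ∉ Submodule.span F (Set.range ![v, u, x]) := by
  obtain ⟨i⟩ : Nonempty ι := Fintype.card_pos_iff.1 (by have := hO.card; omega)
  have hc := hO.card
  by_contra hno
  push Not at hno
  have hne : (Pi.single i (1 : F) : ι → F) ≠ 0 := fun h => by simpa using congrFun h i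
  obtain ⟨u₁, hu₁, hu₁p, hu₁n⟩ := hO.exists_perp (p := ![Pi.single i (1 : F)]) (w := ![Pi.single i (1 : F)])
    (by intro j; fin_cases j; exact rv_single i) (by intro j; fin_cases j; exact rv_single i) (by omega)
  obtain ⟨x₁, hx₁, hm₁⟩ := hno _ u₁ (rv_single i) hu₁ (hu₁p 0) hne (fun h => hu₁n (mem1.2 h))
  set S : Fin 3 → ι → F := ![Pi.single i (1 : F), u₁, x₁] with hS
  have hSr : ∀ j, RV F₀ (S j) := by intro j; fin_cases j; exacts [rv_single i, hu₁, hx₁]
  obtain ⟨v₂, hv₂, -, hv₂n⟩ := hO.exists_perp (p := ![]) (w := S) (fun j => j.elim0) hSr (by omega)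
  obtain ⟨u₂, hu₂, hu₂p, hu₂n⟩ := hO.exists_perp (p := ![v₂]) (w := ![S 0, S 1, S 2, v₂])
    (by intro j; fin_cases j; assumption) (by intro j; fin_cases j; exacts [hSr 0, hSr 1, hSr 2, hv₂]) (by omega)
  have hv₂0 : v₂ ≠ 0 := fun e => hv₂n (by rw [e]; exact zero_mem _)
  have hu₂v : u₂ ∉ F ∙ v₂ := fun h => hu₂n (Submodule.span_mono (Set.singleton_subset_iff.2 (by exact ⟨3, rfl⟩)) h)
  obtain ⟨x₂, hx₂, hm₂⟩ := hno v₂ u₂ hv₂ hu₂ (hu₂p 0) hv₂0 hu₂v
  obtain ⟨f₂, hf₂, hf₂u, hf₂S⟩ := exists_rf_sep (w := ![S 0, S 1, S 2, v₂])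
    (by intro j; fin_cases j; exacts [hSr 0, hSr 1, hSr 2, hv₂]) hu₂ hu₂n
  obtain ⟨f₁, hf₁, hf₁v, hf₁S⟩ := exists_rf_sep (w := ![S 0, S 1, S 2, u₂])
    (by intro j; fin_cases j; exacts [hSr 0, hSr 1, hSr 2, hu₂]) hv₂ (fun hm => by
      obtain ⟨c, hc'⟩ := (Submodule.mem_span_range_iff_exists_fun _).1 hm
      have hc3 : c 3 = 0 := by
        have := congrArg f₂ hc'
        simp only [map_sum, map_smul] at this
        simpa [Fin.sum_univ_four, show f₂ (S 0) = 0 from hf₂S 0, show f₂ (S 1) = 0 from hf₂S 1,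
          show f₂ (S 2) = 0 from hf₂S 2, show f₂ v₂ = 0 from hf₂S 3, hf₂u] using this
      refine hv₂n ((Submodule.mem_span_range_iff_exists_fun _).2 ⟨![c 0, c 1, c 2], ?_⟩)
      rw [← hc', Fin.sum_univ_three, Fin.sum_univ_four, hc3]
      simp)
  obtain ⟨s, hs⟩ := (Submodule.mem_span_range_iff_exists_fun _).1 hm₁
  obtain ⟨c, hc'⟩ := (Submodule.mem_span_range_iff_exists_fun _).1 hm₂
  rw [Fin.sum_univ_three] at hs hc'
  replace hs : s 0 • S 0 + s 1 • S 1 + s 2 • S 2 = v' := hs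
  replace hc' : c 0 • v₂ + c 1 • u₂ + c 2 • x₂ = v' := hc'
  have e1 := congrArg f₁ (hs.trans hc'.symm)
  have e2 := congrArg f₂ (hs.trans hc'.symm)
  simp [show f₁ (S 0) = 0 from hf₁S 0, show f₁ (S 1) = 0 from hf₁S 1, show f₁ (S 2) = 0 from hf₁S 2,
    show f₁ u₂ = 0 from hf₁S 3, hf₁v] at e1
  simp [show f₂ (S 0) = 0 from hf₂S 0, show f₂ (S 1) = 0 from hf₂S 1, show f₂ (S 2) = 0 from hf₂S 2,
    show f₂ v₂ = 0 from hf₂S 3, hf₂u] at e2
  refine h (x₂ - f₁ x₂ • v₂ - f₂ x₂ • u₂) ((hx₂.sub (hv₂.smul (hf₁.apply hx₂))).sub (hu₂.smul (hf₂.apply hx₂)))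
    (Submodule.mem_span_singleton.2 ⟨c 2, ?_⟩)
  rw [← hc', show c 0 = -(c 2 * f₁ x₂) by linear_combination -e1, show c 1 = -(c 2 * f₂ x₂) by linear_combination -e2]
  module

/-- an element rational up to a scalar and moving every vector inside a 3-space with a rational plane is rational -/
theorem rational_of_perp (hO : OverSp F₀ B X) {v u v' : ι → F} (hv : RV F₀ v) (hu : RV F₀ u) (hun : u ∉ F ∙ v)
    (hv0 : v ≠ 0) {x : (ι → F) ≃ₗ[F] (ι → F)} (hxX : x ∈ X) (hr : Ratty F₀ x)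
    (himg : ∀ z, x z - z ∈ Submodule.span F (Set.range ![v, u, v'])) {z : ι → F} (hz : RV F₀ z) : RV F₀ (x z) := by
  obtain ⟨c, hc, hcx⟩ := hr
  suffices hcF : c ∈ F₀ by
    refine RV.map (L := x.toLinearMap) (fun i => ?_) hz
    have := (hcx i).smul (F₀.inv_mem hcF)
    rwa [smul_smul, inv_mul_cancel₀ hc, one_smul] at this
  by_contra hcF
  letI : Algebra F₀ F := F₀.toAlgebra
  obtain ⟨σ, hσ⟩ : ∃ σ : Gal(F/F₀), σ c ≠ c := by
    by_contra! hc'
    obtain ⟨c', hc''⟩ := (IsGalois.mem_range_algebraMap_iff_fixed c).2 hc'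
    exact hcF (hc'' ▸ c'.2)
  have hσ0 : ∀ a ∈ F₀, σ a = a := fun a ha => σ.commutes ⟨a, ha⟩
  let Sg : (ι → F) →+ (ι → F) :=
    { toFun := fun z i => σ (z i), map_zero' := funext fun i => map_zero σ, map_add' := fun a b => funext fun i => map_add σ _ _ }
  have hSinj : Function.Injective Sg := fun a b h => funext fun i => σ.injective (congrFun h i)
  have hSrat : ∀ p : ι → F, RV F₀ p → ∀ y, B p (Sg y) = σ (B p y) := fun p hp y => by
    rw [apply_eq_sum (B p) (Sg y), apply_eq_sum (B p) y, map_sum]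
    refine Finset.sum_congr rfl fun i _ => ?_
    rw [map_mul, hσ0 _ (hO.form _ _ hp (rv_single i))]
    rfl
  set L : (ι → F) →ₗ[F] (Fin 3 → F) := LinearMap.pi fun j => B (![v, u, v'] j) with hL
  set U := LinearMap.ker L with hU
  have hUm : ∀ w ∈ U, B v w = 0 ∧ B u w = 0 ∧ B v' w = 0 := fun w hw =>
    ⟨congrFun (LinearMap.mem_ker.1 hw) 0, congrFun (LinearMap.mem_ker.1 hw) 1, congrFun (LinearMap.mem_ker.1 hw) 2⟩
  have hfixU : ∀ w ∈ U, x w = w := fun w hw => by
    obtain ⟨e1, e2, e3⟩ := hUm w hw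
    refine sub_eq_zero.1 (hO.nd _ fun y => ?_)
    obtain ⟨cc, hcc⟩ := (Submodule.mem_span_range_iff_exists_fun _).1 (himg (x⁻¹ y))
    have h0 : B (x (x⁻¹ y) - x⁻¹ y) w = 0 := by
      rw [← hcc, Fin.sum_univ_three, map_add, map_add, map_smul, map_smul, map_smul]
      simp [e1, e2, e3]
    rw [apply_inv, map_sub, LinearMap.sub_apply, ← hO.iso hxX (x⁻¹ y) w, apply_inv, sub_eq_zero] at h0
    rw [map_sub, LinearMap.sub_apply, sub_eq_zero, ← LinearMap.IsAlt.neg hO.alt y (x w),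
      ← LinearMap.IsAlt.neg hO.alt y w, h0]
  obtain ⟨y₁, -, hy₁u, hy₁v⟩ := hO.exists_dual (w := ![v]) (by intro j; fin_cases j; exact hv) hu
    (fun h => hun (mem1.1 h))
  obtain ⟨y₂, -, hy₂v, hy₂u⟩ := hO.exists_dual (w := ![u]) (by intro j; fin_cases j; exact hu) hv (fun h => by
    obtain ⟨s, hs⟩ := Submodule.mem_span_singleton.1 (mem1.1 h)
    rcases eq_or_ne s 0 with rfl | hs0
    · exact hv0 (by rw [← hs, zero_smul])
    · exact hun (Submodule.mem_span_singleton.2 ⟨s⁻¹, by rw [← hs, smul_smul, inv_mul_cancel₀ hs0, one_smul]⟩))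
  let Φ : (U × U) × F × F → (ι → F) := fun p => (p.1.1 : ι → F) - Sg p.1.2 + p.2.1 • y₁ + p.2.2 • y₂
  have hΦ : Function.Injective Φ := by
    rintro ⟨⟨a, b⟩, s, t⟩ ⟨⟨a', b'⟩, s', t'⟩ h
    have hd : ((a : ι → F) - a') - Sg ((b : ι → F) - b') + (s - s') • y₁ + (t - t') • y₂ = 0 := by
      rw [map_sub, ← sub_eq_zero.2 h]
      simp only [Φ]
      module
    obtain ⟨hav, hau, -⟩ := hUm _ (U.sub_mem a.2 a'.2)
    obtain ⟨hbv, hbu, -⟩ := hUm _ (U.sub_mem b.2 b'.2)
    have k1 := congrArg (B v) hd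
    have k2 := congrArg (B u) hd
    rw [map_add, map_add, map_sub, map_smul, map_smul, map_zero, hav, hSrat v hv, hbv, map_zero, sub_zero, zero_add,
      hO.swap (show B y₁ v = 0 from hy₁v 0), smul_zero, zero_add, ← LinearMap.IsAlt.neg hO.alt y₂ v, hy₂v, smul_eq_mul,
      mul_neg, mul_one, neg_eq_zero, sub_eq_zero] at k1
    rw [map_add, map_add, map_sub, map_smul, map_smul, map_zero, hau, hSrat u hu, hbu, map_zero, sub_zero, zero_add,
      hO.swap (show B y₂ u = 0 from hy₂u 0), smul_zero, add_zero, ← LinearMap.IsAlt.neg hO.alt y₁ u, hy₁u, smul_eq_mul,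
      mul_neg, mul_one, neg_eq_zero, sub_eq_zero] at k2
    rw [k1, k2, sub_self, sub_self, zero_smul, zero_smul, add_zero, add_zero, sub_eq_zero] at hd
    have hb0 : (b : ι → F) - b' = 0 := by
      by_contra hb
      set w := (b : ι → F) - b' with hw
      have e1 : x w = w := hfixU _ (U.sub_mem b.2 b'.2)
      have e2 : x (Sg w) = Sg w := hfixU _ (hd ▸ U.sub_mem a.2 a'.2)
      have e3 : Sg (c • x w) = c • x (Sg w) := by
        funext k
        show σ (c * (LinearMap.proj k ∘ₗ x.toLinearMap) w) = c * (LinearMap.proj k ∘ₗ x.toLinearMap) (Sg w)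
        rw [apply_eq_sum (LinearMap.proj k ∘ₗ x.toLinearMap) w, apply_eq_sum (LinearMap.proj k ∘ₗ x.toLinearMap) (Sg w),
          Finset.mul_sum, Finset.mul_sum, map_sum]
        refine Finset.sum_congr rfl fun i _ => ?_
        show σ (c * (w i * x (Pi.single i 1) k)) = c * (σ (w i) * x (Pi.single i 1) k)
        rw [mul_left_comm, map_mul, hσ0 _ (show c * x (Pi.single i 1) k ∈ F₀ from hcx i k), mul_left_comm]
      rw [e1, e2] at e3
      obtain ⟨k, hk⟩ := Function.ne_iff.1 hb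
      have e4 : σ (c * w k) = c * σ (w k) := congrFun e3 k
      rw [map_mul] at e4
      exact hσ (mul_right_cancel₀ (fun h0 => hk (σ.injective (h0.trans (map_zero σ).symm))) e4)
    rw [hb0, map_zero, sub_eq_zero] at hd
    rw [Subtype.ext hd, Subtype.ext (sub_eq_zero.1 hb0), k1, k2]
  have h1 := Nat.card_le_card_of_injective Φ hΦ
  have h2 := LinearMap.finrank_range_add_finrank_ker L
  have h3 := Submodule.finrank_le (LinearMap.range L)
  rw [Module.finrank_fintype_fun_eq_card, ← hU] at h2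
  rw [Module.finrank_fintype_fun_eq_card, Fintype.card_fin] at h3
  rw [Nat.card_prod, Nat.card_prod, Nat.card_prod, Module.natCard_eq_pow_finrank (K := F) (V := U),
    Module.natCard_eq_pow_finrank (K := F) (V := ι → F), Module.finrank_fintype_fun_eq_card, ← sq (Nat.card F),
    ← pow_add, ← pow_add] at h1
  have h4 := (Nat.pow_le_pow_iff_right (Finite.one_lt_card (α := F))).1 h1
  have := hO.card
  omega

/-- some cross parameter is irrational -/
theorem exists_irrational (hO : OverSp F₀ B X) (hout : ∃ g ∈ X, ¬ Ratty F₀ g) : ∃ l ∈ hO.C, l ∉ F₀ := by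
  by_contra hC
  push Not at hC
  obtain ⟨g, hg, hgr⟩ := hout
  obtain ⟨i⟩ : Nonempty ι := Fintype.card_pos_iff.1 (by have := hO.card; omega)
  have hne : (Pi.single i (1 : F) : ι → F) ≠ 0 := fun h => by simpa using congrFun h i
  set v' := g (Pi.single i 1) with hv'
  have hv'0 : v' ≠ 0 := fun e => hne (g.map_eq_zero_iff.1 e)
  have hv'n : ∀ w, RV F₀ w → v' ∉ F ∙ w := fun w hw hm => by
    obtain ⟨b, hb⟩ := Submodule.mem_span_singleton.1 hm
    have hw0 : w ≠ 0 := fun e => hv'0 (by rw [← hb, e, smul_zero])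
    exact hgr (hO.ratty_of_move hC hg (rv_single i) hw hne hw0 hb.symm)
  obtain ⟨v, u, hv, hu, huv, hv0, hun, hplane⟩ := hO.exists_plane hv'n
  set W : Submodule F (ι → F) := Submodule.span F (Set.range ![v, u]) with hW
  set P : Submodule F (ι → F) := Submodule.span F (Set.range ![v, u, v']) with hP
  have hWP : W ≤ P := Submodule.span_le.2 (by
    rintro _ ⟨j, rfl⟩
    fin_cases j
    · exact Submodule.subset_span ⟨0, rfl⟩
    · exact Submodule.subset_span ⟨1, rfl⟩)
  have hvW : v ∈ W := Submodule.subset_span ⟨0, rfl⟩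
  have huW : u ∈ W := Submodule.subset_span ⟨1, rfl⟩
  have hiso : ∀ a ∈ W, ∀ b ∈ W, B a b = 0 := fun a ha b hb => by
    obtain ⟨s, t, rfl⟩ := mem2.1 ha
    obtain ⟨s', t', rfl⟩ := mem2.1 hb
    simp [huv, hO.swap huv, hO.alt v, hO.alt u]
  have hPW : ∀ x, RV F₀ x → x ∈ P → x ∈ W := fun x hx hm => by
    obtain ⟨c, hc⟩ := (Submodule.mem_span_range_iff_exists_fun _).1 hm
    rw [Fin.sum_univ_three] at hc
    replace hc : c 0 • v + c 1 • u + c 2 • v' = x := hc
    by_cases h2 : c 2 = 0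
    · exact mem2.2 ⟨c 0, c 1, by rw [← hc, h2, zero_smul, add_zero]⟩
    · refine absurd ?_ (hplane x hx)
      refine (Submodule.mem_span_range_iff_exists_fun _).2 ⟨![-((c 2)⁻¹ * c 0), -((c 2)⁻¹ * c 1), (c 2)⁻¹], ?_⟩
      rw [Fin.sum_univ_three]
      show -((c 2)⁻¹ * c 0) • v + -((c 2)⁻¹ * c 1) • u + (c 2)⁻¹ • x = v'
      rw [← hc, smul_add, smul_add, smul_smul, smul_smul, smul_smul, inv_mul_cancel₀ h2]
      module
  let G : Subgroup ((ι → F) ≃ₗ[F] (ι → F)) :=
    { carrier := {x | x ∈ X ∧ ∀ z, x z - z ∈ P}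
      mul_mem' := fun {x y} hx hy => ⟨mul_mem hx.1 hy.1, fun z => by
        rw [LinearEquiv.mul_apply, ← sub_add_sub_cancel (x (y z)) (y z) z]
        exact add_mem (hx.2 _) (hy.2 _)⟩
      one_mem' := ⟨one_mem X, fun z => by simp⟩
      inv_mem' := fun {x} hx => ⟨inv_mem hx.1, fun z => by
        have := hx.2 (x⁻¹ z)
        rw [apply_inv] at this
        rw [← neg_sub]
        exact neg_mem this⟩ }
  let A : Subgroup G :=
    { carrier := {x | (x : (ι → F) ≃ₗ[F] (ι → F)) v = v ∧ (x : (ι → F) ≃ₗ[F] (ι → F)) u = u}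
      mul_mem' := fun {x y} hx hy => ⟨by
          show ((x : (ι → F) ≃ₗ[F] (ι → F)) * y) v = v
          rw [LinearEquiv.mul_apply, hy.1, hx.1], by
          show ((x : (ι → F) ≃ₗ[F] (ι → F)) * y) u = u
          rw [LinearEquiv.mul_apply, hy.2, hx.2]⟩
      one_mem' := ⟨rfl, rfl⟩
      inv_mem' := fun {x} hx => ⟨by
          show ((x : (ι → F) ≃ₗ[F] (ι → F)))⁻¹ v = v
          conv_lhs => rw [← hx.1]
          exact inv_apply _ _, by
          show ((x : (ι → F) ≃ₗ[F] (ι → F)))⁻¹ u = u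
          conv_lhs => rw [← hx.2]
          exact inv_apply _ _⟩ }
  -- elements fixing the first vector
  have hrat : ∀ x : (ι → F) ≃ₗ[F] (ι → F), x ∈ G → Ratty F₀ x →
      (∀ z, RV F₀ z → RV F₀ (x z)) ∧ ∀ z, x z - z ∈ W := fun x hx hr => by
    have h1 : ∀ z, RV F₀ z → RV F₀ (x z) := fun z hz => hO.rational_of_perp hv hu hun hv0 hx.1 hr hx.2 hz
    refine ⟨h1, fun z => ?_⟩
    rw [eq_sum_single z, map_sum, ← Finset.sum_sub_distrib]
    refine sum_mem fun j _ => ?_
    rw [map_smul, ← smul_sub]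
    exact W.smul_mem _ (hPW _ ((h1 _ (rv_single j)).sub (rv_single j)) (hx.2 _))
  have hfix : ∀ x : (ι → F) ≃ₗ[F] (ι → F), x ∈ G → (∀ z, x z - z ∈ W) → ∀ w ∈ W, x w = w := fun x hx hxW w hw => by
    have hd := hxW w
    refine sub_eq_zero.1 (hO.nd _ fun z => hO.swap ?_)
    have h1 := hO.iso hx.1 z w
    rw [show x z = z + (x z - z) by abel, show x w = w + (x w - w) by abel] at h1
    simp only [map_add, LinearMap.add_apply, hiso _ (hxW z) _ hw, hiso _ (hxW z) _ hd, add_zero] at h1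
    exact add_eq_left.1 h1
  have hA : ∀ x : G, x ∈ A → (∀ z, RV F₀ z → RV F₀ ((x : (ι → F) ≃ₗ[F] (ι → F)) z)) ∧
      ∀ z, (x : (ι → F) ≃ₗ[F] (ι → F)) z - z ∈ W := fun x hx =>
    hrat x x.2 (hO.ratty_of_move hC x.2.1 hv hv hv0 hv0 (b := 1) (by rw [one_smul]; exact hx.1))
  have hA' : ∀ x : G, Ratty F₀ (x : (ι → F) ≃ₗ[F] (ι → F)) → x ∈ A := fun x hx =>
    ⟨hfix _ x.2 (hrat _ x.2 hx).2 v hvW, hfix _ x.2 (hrat _ x.2 hx).2 u huW⟩
  have htvW : ∀ w ∈ W, ∀ c : F, Alt.tv hO.alt w c ∈ X → ∃ hm : Alt.tv hO.alt w c ∈ G, (⟨_, hm⟩ : G) ∈ A :=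
    fun w hw c hX => ⟨⟨hX, fun z => by rw [Alt.tv_apply, add_sub_cancel_left]; exact P.smul_mem _ (hWP hw)⟩,
      by
        show Alt.tv hO.alt w c v = v
        rw [Alt.tv_apply, hiso v hvW w hw, mul_zero, zero_smul, add_zero],
      by
        show Alt.tv hO.alt w c u = u
        rw [Alt.tv_apply, hiso u huW w hw, mul_zero, zero_smul, add_zero]⟩
  haveI : Finite ((ι → F) ≃ₗ[F] (ι → F)) := Finite.of_injective (fun g => (g : (ι → F) → (ι → F))) DFunLike.coe_injective
  have hmal : ∀ x : G, x ∉ A → ∀ a ∈ A, x * a * x⁻¹ ∈ A → a = 1 := by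
    intro x hxA a ha hxa
    by_contra ha1
    obtain ⟨j, hj⟩ : ∃ j, (a : (ι → F) ≃ₗ[F] (ι → F)) (Pi.single j 1) ≠ Pi.single j 1 := by
      by_contra! hc
      refine ha1 (Subtype.ext (LinearEquiv.ext fun z => ?_))
      show (a : (ι → F) ≃ₗ[F] (ι → F)) z = z
      conv_lhs => rw [eq_sum_single z, map_sum]
      conv_rhs => rw [eq_sum_single z]
      simp [hc]
    set r := (a : (ι → F) ≃ₗ[F] (ι → F)) (Pi.single j 1) - Pi.single j 1 with hr
    have hrR : RV F₀ r := ((hA a ha).1 _ (rv_single j)).sub (rv_single j)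
    have hr0 : r ≠ 0 := sub_ne_zero.2 hj
    set y := (x : (ι → F) ≃ₗ[F] (ι → F)) with hy
    have hxr : y r ∈ W := by
      have h1 := (hA _ hxa).2 (y (Pi.single j 1))
      rw [Subgroup.coe_mul, Subgroup.coe_mul, Subgroup.coe_inv, LinearEquiv.mul_apply, LinearEquiv.mul_apply, ← hy, inv_apply,
        ← map_sub] at h1
      exact h1
    have hyr0 : y r ≠ 0 := fun e => hr0 (y.map_eq_zero_iff.1 e)
    have htX : Alt.tv hO.alt (y r) 1 ∈ X := by
      rw [← Alt.conj_tv hO.alt (hO.iso x.2.1)]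
      exact conj_mem x.2.1 (hO.rat r 1 hrR F₀.one_mem)
    obtain ⟨hm, hmA⟩ := htvW _ hxr 1 htX
    obtain ⟨k, hk⟩ : ∃ k, B (Pi.single k 1) (y r) ≠ 0 := by
      by_contra! hc
      refine hyr0 (hO.nd _ fun z => hO.swap ?_)
      rw [eq_sum_single z, map_sum, LinearMap.sum_apply]
      simp [hc]
    have h2 := ((hA _ hmA).1 _ (rv_single k)).sub (rv_single (F₀ := F₀) k)
    rw [show ((⟨_, hm⟩ : G) : (ι → F) ≃ₗ[F] (ι → F)) = Alt.tv hO.alt (y r) 1 from rfl, Alt.tv_apply, add_sub_cancel_left,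
      one_mul] at h2
    refine hxA (hA' x (hO.ratty_of_move hC x.2.1 hrR h2 hr0 (smul_ne_zero hk hyr0) (b := (B (Pi.single k 1) (y r))⁻¹) ?_))
    rw [smul_smul, inv_mul_cancel₀ hk, one_smul]
  obtain ⟨p, hp⟩ := CharP.exists F
  have hfixd : ∀ a : G, a ∈ A → ∀ w ∈ W, (a : (ι → F) ≃ₗ[F] (ι → F)) w = w := fun a ha => hfix _ a.2 (hA a ha).2
  have hpow : ∀ a : G, a ∈ A → ∀ (n : ℕ) (z : ι → F),
      ((a ^ n : G) : (ι → F) ≃ₗ[F] (ι → F)) z = z + (n : F) • ((a : (ι → F) ≃ₗ[F] (ι → F)) z - z) := fun a ha n => by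
    induction n with
    | zero => intro z; simp
    | succ n ih =>
      intro z
      rw [pow_succ', Subgroup.coe_mul, LinearEquiv.mul_apply, ih, map_add, map_smul, hfixd a ha _ ((hA a ha).2 z), Nat.cast_succ,
        add_smul, one_smul]
      abel
  obtain ⟨y₀, hy₀, hy₀u, hy₀v⟩ := hO.exists_dual (w := ![v]) (by intro j; fin_cases j; assumption) hu (fun h => hun (mem1.1 h))
  obtain ⟨hmv, hav⟩ := htvW v hvW 1 (hO.rat v 1 hv F₀.one_mem)
  obtain ⟨hmu, hau⟩ := htvW u huW 1 (hO.rat u 1 hu F₀.one_mem)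
  have hne1 : ∀ w : ι → F, w ≠ 0 → Alt.tv hO.alt w 1 ≠ 1 := fun w hw e => by
    obtain ⟨k, hk⟩ : ∃ k, B (Pi.single k 1) w ≠ 0 := by
      by_contra! hc
      refine hw (hO.nd _ fun z => hO.swap ?_)
      rw [eq_sum_single z, map_sum, LinearMap.sum_apply]
      simp [hc]
    have := LinearEquiv.congr_fun e (Pi.single k 1)
    rw [Alt.tv_apply, one_mul] at this
    exact hk ((smul_eq_zero.1 (add_eq_left.1 this)).resolve_right hw)
  have hAtop : A = ⊤ := malnormal_top A (CharP.char_is_prime F p) hmal (fun a ha => Subtype.ext (LinearEquiv.ext fun z => by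
      rw [hpow a ha, CharP.cast_eq_zero, zero_smul, add_zero]; rfl))
    hav hau (Subtype.ext (LinearEquiv.ext fun z => by
      show Alt.tv hO.alt v 1 (Alt.tv hO.alt u 1 z) = Alt.tv hO.alt u 1 (Alt.tv hO.alt v 1 z)
      simp [Alt.tv_apply, huv, hO.swap huv]
      abel))
    (fun e => hne1 v hv0 (congrArg Subtype.val e))
    (fun j e => by
      have := LinearEquiv.congr_fun (congrArg Subtype.val e) y₀
      rw [Subgroup.coe_mul, LinearEquiv.mul_apply, hpow _ hav] at this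
      simp [Alt.tv_apply, hy₀u, show B y₀ v = 0 from hy₀v 0, huv] at this
      exact hun (by rw [this]; exact zero_mem _))
  have ht : Alt.tv hO.alt v' 1 ∈ X := by
    rw [hv', ← Alt.conj_tv hO.alt (hO.iso hg)]
    exact conj_mem hg (hO.rat _ 1 (rv_single i) F₀.one_mem)
  have htG : Alt.tv hO.alt v' 1 ∈ G := ⟨ht, fun z => by
    rw [Alt.tv_apply, add_sub_cancel_left]; exact P.smul_mem _ (Submodule.subset_span ⟨2, rfl⟩)⟩
  obtain ⟨k, hk⟩ : ∃ k, B (Pi.single k 1) v' ≠ 0 := by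
    by_contra! hc
    refine hv'0 (hO.nd _ fun z => hO.swap ?_)
    rw [eq_sum_single z, map_sum, LinearMap.sum_apply]
    simp [hc]
  have hmemW := (hA ⟨_, htG⟩ (hAtop ▸ Subgroup.mem_top _)).2 (Pi.single k 1)
  rw [show ((⟨_, htG⟩ : G) : (ι → F) ≃ₗ[F] (ι → F)) = Alt.tv hO.alt v' 1 from rfl, Alt.tv_apply, add_sub_cancel_left, one_mul] at hmemW
  have hv'W : v' ∈ W := by
    have := W.smul_mem (B (Pi.single k 1) v')⁻¹ hmemW
    rwa [smul_smul, inv_mul_cancel₀ hk, one_smul] at this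
  exact hplane v hv (Submodule.span_mono (by rintro _ ⟨j, rfl⟩; fin_cases j; exacts [⟨0, rfl⟩, ⟨1, rfl⟩]) hv'W)

theorem C_eq_univ (hO : OverSp F₀ B X) (hout : ∃ g ∈ X, ¬ Ratty F₀ g) (c : F) : c ∈ hO.C := by
  have hC0 : ∀ a ∈ F₀, a ∈ hO.C := fun a ha u v hu hv _ => hO.cr_mem_rat hu hv ha
  have hadd : ∀ a b, a ∈ hO.C → b ∈ hO.C → a + b ∈ hO.C := fun a b ha hb u v hu hv huv => by
    rw [cr_add_scalar hO.alt huv]
    exact mul_mem (ha u v hu hv huv) (hb u v hu hv huv)
  have hmul : ∀ a b, a ∈ hO.C → b ∈ hO.C → a * b ∈ hO.C := fun a b ha hb => by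
    have hc := hO.card
    obtain ⟨i⟩ : Nonempty ι := Fintype.card_pos_iff.1 (by omega)
    set v : ι → F := Pi.single i 1 with hv_def
    have hv : RV F₀ v := rv_single i
    have hv0 : v ≠ 0 := fun h => by simpa [hv_def] using congrFun h i
    obtain ⟨u, hu, hup, hun⟩ := hO.exists_perp (p := ![v]) (w := ![v]) (by intro j; fin_cases j; assumption)
      (by intro j; fin_cases j; assumption) (by omega)
    obtain ⟨w, hw, hwp, hwn⟩ := hO.exists_perp (p := ![u, v]) (w := ![u, v]) (by intro j; fin_cases j <;> assumption)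
      (by intro j; fin_cases j <;> assumption) (by omega)
    have huv : B u v = 0 := hup 0
    have hwu : B w u = 0 := hwp 0
    have hwv : B w v = 0 := hwp 1
    obtain ⟨y, hy, hyv, hy0⟩ := hO.exists_dual (w := ![u, w]) (by intro j; fin_cases j <;> assumption) hv (fun hm => by
      obtain ⟨s, t, e⟩ := mem2.1 hm
      by_cases ht : t = 0
      · by_cases hs : s = 0
        · exact hv0 (by rw [← e, hs, ht, zero_smul, zero_smul, add_zero])
        · exact hun (mem1.2 (Submodule.mem_span_singleton.2 ⟨s⁻¹, by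
            rw [← e, ht, zero_smul, add_zero, smul_smul, inv_mul_cancel₀ hs, one_smul]⟩))
      · exact hwn (mem2.2 ⟨-(t⁻¹ * s), t⁻¹, by
          rw [← e, smul_add, smul_smul, smul_smul, inv_mul_cancel₀ ht, one_smul, neg_smul, ← add_assoc, neg_add_cancel,
            zero_add]⟩))
    have hyu : B y u = 0 := hy0 0
    have hyw : B y w = 0 := hy0 1
    have h1 := conj_mem (ha u v hu hv huv) (hb y w hy hw hyw)
    rw [cr_conj hO.alt (cr_mem _ _ _ _), cr_apply hO.alt huv, cr_apply hO.alt huv, hyu, hyv, hwu, hwv] at h1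
    simp only [mul_zero, zero_smul, add_zero, mul_one] at h1
    rw [add_comm y, cr_add_left hO.alt (by simp [hO.swap hwu]) hyw (by simp [hO.swap hyu]), cr_smul_left hO.alt (hO.swap hwu)] at h1
    have h2 := mul_mem h1 (inv_mem (hb y w hy hw hyw))
    rw [mul_inv_cancel_right] at h2
    exact hO.C_of_one hu hw (hO.swap hwu) (fun hm => by
      obtain ⟨s, e⟩ := Submodule.mem_span_singleton.1 hm
      by_cases hs : s = 0
      · exact hun (by rw [← e, hs, zero_smul]; exact zero_mem _)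
      · exact hwn (mem2.2 ⟨s⁻¹, 0, by rw [← e, zero_smul, add_zero, smul_smul, inv_mul_cancel₀ hs, one_smul]⟩))
      (fun e => hwn (by rw [e]; exact zero_mem _)) h2
  have hpow : ∀ a, a ∈ hO.C → ∀ n : ℕ, a ^ n ∈ hO.C := fun a ha n => by
    induction n with
    | zero => rw [pow_zero]; exact hC0 1 F₀.one_mem
    | succ n ih => rw [pow_succ]; exact hmul _ _ ih ha
  let S : Subfield F :=
    { carrier := hO.C, mul_mem' := fun ha hb => hmul _ _ ha hb, one_mem' := hC0 1 F₀.one_mem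
      add_mem' := fun ha hb => hadd _ _ ha hb, zero_mem' := hC0 0 F₀.zero_mem
      neg_mem' := fun {a} ha => by
        rw [← neg_one_mul]
        exact hmul _ _ (hC0 _ (F₀.neg_mem F₀.one_mem)) ha
      inv_mem' := fun a ha => by
        rcases eq_or_ne a 0 with rfl | h0
        · simpa using ha
        have : a⁻¹ = a ^ (Fintype.card F - 2) := by
          refine inv_eq_of_mul_eq_one_right ?_
          rw [← pow_succ', show Fintype.card F - 2 + 1 = Fintype.card F - 1 by
            have := Fintype.one_lt_card (α := F); omega, FiniteField.pow_card_sub_one_eq_one a h0]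
        rw [this]; exact hpow a ha _ }
  obtain ⟨l, hl, hlF⟩ := hO.exists_irrational hout
  obtain ⟨r, hr, hcard⟩ := hO.prime
  have hle : F₀ ≤ S := fun a ha => hC0 a ha
  letI : Algebra F₀ S := (Subfield.inclusion hle).toAlgebra
  haveI : IsScalarTower F₀ S F := IsScalarTower.of_algebraMap_eq fun _ => rfl
  have h0 : 1 < Nat.card F₀ := Finite.one_lt_card
  have hrk : finrank F₀ F = r := by
    have := Module.natCard_eq_pow_finrank (K := F₀) (V := F)
    rw [Nat.card_eq_fintype_card, hcard] at this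
    exact (Nat.pow_right_injective h0 this).symm
  have htow := Module.finrank_mul_finrank F₀ S F
  rw [hrk] at htow
  rcases (Nat.dvd_prime hr).1 (Dvd.intro _ htow) with h1 | h1
  · exfalso
    have hS : Nat.card S = Nat.card F₀ := by
      rw [Module.natCard_eq_pow_finrank (K := F₀) (V := S), h1, pow_one]
    have : (F₀ : Set F) = (S : Set F) := Set.eq_of_subset_of_ncard_le hle
      (by rw [← Nat.card_coe_set_eq, ← Nat.card_coe_set_eq]; exact hS.le)
    exact hlF (this.ge hl)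
  · have h2 : finrank S F = 1 := by
      rw [h1] at htow
      exact Nat.eq_of_mul_eq_mul_left hr.pos (by rw [mul_one]; exact htow)
    have hSF : (S : Set F) = Set.univ := Set.eq_of_subset_of_ncard_le (Set.subset_univ _) (by
      rw [Set.ncard_univ, ← Nat.card_coe_set_eq, Module.natCard_eq_pow_finrank (K := S) (V := F), h2, pow_one]
      exact le_rfl)
    exact Set.eq_univ_iff_forall.1 hSF c

theorem all_centres (hO : OverSp F₀ B X) (hout : ∃ g ∈ X, ¬ Ratty F₀ g) : ∀ x, x ∈ centres hO.alt X := by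
  classical
  have hC := hO.C_eq_univ hout
  have hrv : ∀ v, RV F₀ v → v ∈ centres hO.alt X := fun v hv c => by
    by_cases h2 : ringChar F = 2
    · obtain ⟨l, rfl⟩ := FiniteField.isSquare_of_char_two h2 c
      rw [← sq]
      exact hO.C_sq (hC l) hv
    · have hne : (2 : F) ≠ 0 := Ring.two_ne_zero h2
      have := hC (c / 2) v v hv hv (hO.alt v)
      rwa [cr_self, mul_div_cancel₀ _ hne] at this
  have hpair : ∀ a b, RV F₀ a → RV F₀ b → ∀ s : F, a + s • b ∈ centres hO.alt X := fun a b ha hb s => by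
    by_cases hab : B a b = 0
    · intro c
      rw [tv_add_smul hO.alt hab]
      exact mul_mem (mul_mem (hrv a ha c) (hC _ a b ha hb hab)) (hrv b hb _)
    · exact add_smul_mem_centres (hrv a ha) (hrv b hb) hab s
  suffices key : ∀ (s : Finset ι) (c : ι → F), (∑ i ∈ s, c i • Pi.single i (1 : F) : ι → F) ∈ centres hO.alt X by
    intro x
    rw [eq_sum_single x]
    exact key Finset.univ x
  intro s c
  induction s using Finset.induction_on with
  | empty => rw [Finset.sum_empty]; exact zero_mem_centres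
  | insert i s hi ih =>
    rw [Finset.sum_insert hi, add_comm]
    set x' := ∑ j ∈ s, c j • Pi.single j (1 : F) with hx'
    set e : ι → F := Pi.single i 1 with he
    have hec : e ∈ centres hO.alt X := hrv _ (rv_single i)
    by_cases hxe : B x' e = 0
    swap
    · exact add_smul_mem_centres ih hec hxe _
    by_cases hx'0 : x' = 0
    · rw [hx'0, zero_add]; exact smul_mem_centres hec _
    set x := x' + c i • e with hx
    by_cases hx0 : x = 0
    · rw [hx0]; exact zero_mem_centres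
    have hnz : ∀ z : ι → F, z ≠ 0 → ∃ a, RV F₀ a ∧ B z a ≠ 0 := fun z hz => by
      by_contra! hc
      refine hz (hO.nd _ fun y => ?_)
      rw [eq_sum_single y, map_sum]
      simp [hc _ (rv_single _)]
    have he0 : e ≠ 0 := fun h => by simpa [he] using congrFun h i
    obtain ⟨y₁, hy₁, h1, h3⟩ : ∃ y, RV F₀ y ∧ B x' y ≠ 0 ∧ B x y ≠ 0 := by
      obtain ⟨a, ha, ha'⟩ := hnz _ hx'0
      obtain ⟨b, hb, hb'⟩ := hnz _ hx0
      by_cases h1 : B x a = 0
      · by_cases h2 : B x' b = 0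
        · exact ⟨a + b, ha.add hb, by rw [map_add, h2, add_zero]; exact ha', by rw [map_add, h1, zero_add]; exact hb'⟩
        · exact ⟨b, hb, h2, hb'⟩
      · exact ⟨a, ha, ha', h1⟩
    obtain ⟨y, hy, hy1, hy2, hy3⟩ : ∃ y, y ∈ centres hO.alt X ∧ B x' y ≠ 0 ∧ B e y ≠ 0 ∧ B x y ≠ 0 := by
      by_cases hey : B e y₁ = 0
      swap
      · exact ⟨y₁, hrv _ hy₁, h1, hey, h3⟩
      obtain ⟨y₂, hy₂, hey₂⟩ := hnz _ he0
      obtain ⟨r, hr, hcard⟩ := hO.prime
      have h4 : 4 ≤ Fintype.card F := by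
        rw [hcard]
        have h0 : 2 ≤ Nat.card F₀ := Finite.one_lt_card
        calc 4 = 2 ^ 2 := rfl
          _ ≤ Nat.card F₀ ^ 2 := Nat.pow_le_pow_left h0 2
          _ ≤ Nat.card F₀ ^ r := Nat.pow_le_pow_right (by omega) hr.two_le
      obtain ⟨t, -, ht⟩ : ∃ t ∈ (Finset.univ : Finset F),
          t ∉ ({0, -(B x' y₁ / B x' y₂), -(B x y₁ / B x y₂)} : Finset F) := by
        refine Finset.exists_mem_notMem_of_card_lt_card ?_
        exact lt_of_le_of_lt Finset.card_le_three (by rw [Finset.card_univ]; omega)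
      simp only [Finset.mem_insert, Finset.mem_singleton, not_or] at ht
      have hgen : ∀ z : ι → F, B z y₁ ≠ 0 → t ≠ -(B z y₁ / B z y₂) → B z (y₁ + t • y₂) ≠ 0 := by
        intro z hz ht' h0
        rw [map_add, map_smul, smul_eq_mul] at h0
        rcases eq_or_ne (B z y₂) 0 with h2 | h2
        · rw [h2, mul_zero, add_zero] at h0; exact hz h0
        · exact ht' (by rw [eq_neg_iff_add_eq_zero, ← div_self h2] at *; field_simp; linear_combination h0)
      exact ⟨y₁ + t • y₂, hpair _ _ hy₁ hy₂ t, hgen _ h1 ht.2.1, by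
        rw [map_add, map_smul, hey, zero_add, smul_eq_mul]; exact mul_ne_zero ht.1 hey₂, hgen _ h3 ht.2.2⟩
    have hz1 : x' + (1 : F) • y ∈ centres hO.alt X := add_smul_mem_centres ih hy hy1 1
    rw [one_smul] at hz1
    have hz2 : x' + y + c i • e ∈ centres hO.alt X := add_smul_mem_centres hz1 hec (by
      rw [map_add, LinearMap.add_apply, hxe, zero_add]
      exact fun h => hy2 (hO.swap h)) _
    have hz3 : x' + y + c i • e + (-1 : F) • y ∈ centres hO.alt X := add_smul_mem_centres hz2 hy (by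
      rw [show x' + y + c i • e = x + y by rw [hx]; abel, map_add, LinearMap.add_apply, hO.alt y, add_zero]
      exact hy3) _
    rwa [show x' + y + c i • e + (-1 : F) • y = x by rw [hx, neg_smul, one_smul]; abel] at hz3

end OverSp

end Cfsg.Agent.ClassicalMax.Subfield
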