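import Cfsg.Agent.ClassicalMax.Subfield.Linear

/-!
Form-free tools for overgroups of subfield groups: rational maps, the scalar of a rational map with small image,
and an abelian malnormal subgroup which is not cyclic is everything.
-/

set_option autoImplicit false
set_option linter.unusedSectionVars false
set_option linter.style.haveILetI false

namespace Cfsg.Agent.ClassicalMax.Subfield

open Module

/-- a malnormal elementary abelian subgroup of rank at least two is the whole group -/
theorem malnormal_top {G : Type*} [Group G] [Finite G] (A : Subgroup G) {p : ℕ} (hp : p.Prime)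
    (hmal : ∀ x : G, x ∉ A → ∀ a ∈ A, x * a * x⁻¹ ∈ A → a = 1)
    (hexp : ∀ a ∈ A, a ^ p = 1) {a b : G} (haA : a ∈ A) (hbA : b ∈ A) (hab : Commute a b) (ha1 : a ≠ 1)
    (hjb : ∀ j : ℕ, a ^ j * b ≠ 1) : A = ⊤ := by
  haveI : Fact p.Prime := ⟨hp⟩
  obtain ⟨N, hN, hcompl, -⟩ := Cfsg.Agent.Char.frobenius_kernel A hmal
  have hAp : IsPGroup p A := fun c => ⟨1, Subtype.ext (by rw [pow_one]; exact hexp c c.2)⟩
  have hnorm : ∀ x : G, x ∈ Subgroup.normalizer (A : Set G) → x ∈ A := fun x hx => by
    by_contra hxA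
    exact ha1 (hmal x hxA a haA ((Subgroup.mem_normalizer_iff.1 hx a).1 haA))
  obtain ⟨k, hk⟩ := IsPGroup.iff_card.1 hAp
  have hndvd : ¬ p ∣ Nat.card N := fun hd => by
    have hdvd : p ^ (k + 1) ∣ Nat.card G := by
      rw [← hcompl.card_mul_card, hk, pow_succ, mul_comm]
      exact Nat.mul_dvd_mul hd dvd_rfl
    have h1 := Sylow.prime_dvd_card_quotient_normalizer hdvd hk
    have h2 : A.comap (Subgroup.normalizer (A : Set G)).subtype = ⊤ := eq_top_iff.2 fun x _ => hnorm x x.2
    rw [h2] at h1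
    have : Nat.card (Subgroup.normalizer (A : Set G) ⧸ (⊤ : Subgroup (Subgroup.normalizer (A : Set G)))) = 1 :=
      Subgroup.index_top
    rw [this] at h1
    exact hp.not_dvd_one h1
  have hcA : (Subgroup.closure {a, b} : Subgroup G) ≤ A := by
    rw [Subgroup.closure_le]
    rintro y (rfl | rfl) <;> assumption
  have hcent : ∀ c : G, c ∈ A → c ≠ 1 → N ⊓ Subgroup.centralizer {c} ≤ ⊥ := by
    rintro c hcA' hc1 n ⟨hnN, hnc⟩
    by_cases hnA : n ∈ A
    · exact (hcompl.disjoint).le_bot ⟨hnN, hnA⟩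
    · refine absurd (hmal n hnA c hcA' ?_) hc1
      rw [← Subgroup.mem_centralizer_iff.1 hnc c rfl, mul_inv_cancel_right]
      exact hcA'
  have hNbot : N ≤ ⊥ := by
    have hnor : Subgroup.normalizer (N : Set G) = ⊤ := Subgroup.normalizer_eq_top_iff.2 hN
    refine Cfsg.Agent.Coprime.le_of_centralizers_le hab (hnor ▸ Subgroup.mem_top _) (hnor ▸ Subgroup.mem_top _)
      hp (by rw [hexp a haA]; exact one_mem _) (by rw [hexp b hbA]; exact one_mem _)
      (hp.coprime_iff_not_dvd.2 hndvd) ?_ (hcent a haA ha1) (fun j => hcent _ (mul_mem (pow_mem haA j) hbA) (hjb j))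
    refine Nat.Coprime.coprime_dvd_left (Subgroup.card_dvd_of_le hcA) ?_
    rw [hk]
    exact Nat.Coprime.pow_left k (hp.coprime_iff_not_dvd.2 hndvd)
  have h1 := hcompl.sup_eq_top
  rwa [le_bot_iff.1 hNbot, bot_sup_eq] at h1

variable {ι : Type} [Fintype ι] [DecidableEq ι] {F : Type*} [Field F] [Fintype F] {F₀ : Subfield F}

theorem RV.map {L : (ι → F) →ₗ[F] (ι → F)} (hL : ∀ i, RV F₀ (L (Pi.single i 1))) {u : ι → F} (hu : RV F₀ u) :
    RV F₀ (L u) := by
  rw [eq_sum_single u, map_sum]
  intro k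
  rw [Finset.sum_apply]
  refine sum_mem fun i _ => ?_
  rw [map_smul]
  exact (hL i).smul (hu i) k

/-- a rational map up to scalar with small image is rational, half the dimension allowed -/
theorem rational_of_image' {y : (ι → F) ≃ₗ[F] (ι → F)} (hy : Ratty F₀ y) {P : Submodule F (ι → F)}
    (himg : ∀ z, y z - z ∈ P) (hdim : 2 * finrank F P ≤ Fintype.card ι)
    (hsep : ∀ ρ : F, Fintype.card ι ≤ 2 * finrank F P → ρ ≠ 1 → (∀ p ∈ P, y p = ρ • p) → (∃ K : Submodule F (ι → F),
      Fintype.card ι ≤ finrank F K + finrank F P ∧ (∀ k ∈ K, y k = k) ∧ K ⊓ P = ⊥) → False) {u : ι → F} (hu : RV F₀ u) : RV F₀ (y u) := by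
  obtain ⟨c, hc, hcx⟩ := hy
  suffices hcF : c ∈ F₀ by
    refine RV.map (L := y.toLinearMap) (fun i => ?_) hu
    have := (hcx i).smul (F₀.inv_mem hcF)
    rwa [smul_smul, inv_mul_cancel₀ hc, one_smul] at this
  by_contra hcF
  letI : Algebra F₀ F := F₀.toAlgebra
  obtain ⟨σ, hσ⟩ : ∃ σ : Gal(F/F₀), σ c ≠ c := by
    by_contra! hc'
    obtain ⟨c', hc''⟩ := (IsGalois.mem_range_algebraMap_iff_fixed c).2 hc'
    exact hcF (hc'' ▸ c'.2)
  have hσ0 : ∀ a ∈ F₀, σ a = a := fun a ha => σ.commutes ⟨a, ha⟩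
  let R : (ι → F) →ₗ[F] (ι → F) := c • y.toLinearMap
  have hR : ∀ z, R z = c • y z := fun z => rfl
  let Sg : (ι → F) →+ (ι → F) :=
    { toFun := fun z i => σ (z i), map_zero' := funext fun i => map_zero σ, map_add' := fun a b => funext fun i => map_add σ _ _ }
  have hcomm : ∀ z, R (Sg z) = Sg (R z) := fun z => by
    funext i
    show R (fun k => σ (z k)) i = σ (R z i)
    conv_lhs => rw [eq_sum_single (fun k => σ (z k)), map_sum, Finset.sum_apply]
    conv_rhs => rw [eq_sum_single z, map_sum, Finset.sum_apply, map_sum]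
    refine Finset.sum_congr rfl fun k _ => ?_
    rw [map_smul, map_smul, Pi.smul_apply, Pi.smul_apply, smul_eq_mul, smul_eq_mul, map_mul, hR, hσ0 _ (hcx k i)]
  let K₁ : Submodule F (ι → F) := LinearMap.ker (R - c • LinearMap.id)
  let K₂ : Submodule F (ι → F) := LinearMap.ker (R - σ c • LinearMap.id)
  have hd1 : Fintype.card ι ≤ finrank F K₁ + finrank F P := by
    have h1 := LinearMap.finrank_range_add_finrank_ker (R - c • LinearMap.id)
    rw [Module.finrank_fintype_fun_eq_card] at h1
    have h2 : LinearMap.range (R - c • LinearMap.id) ≤ P := by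
      rintro _ ⟨z, rfl⟩
      rw [LinearMap.sub_apply, hR, LinearMap.smul_apply, LinearMap.id_apply, ← smul_sub]
      exact P.smul_mem c (himg z)
    have h4 := Submodule.finrank_mono h2
    have h5 : finrank F K₁ = finrank F (LinearMap.ker (R - c • LinearMap.id)) := rfl
    omega
  let b := Module.finBasis F K₁
  have hli : LinearIndependent F (Sg ∘ fun i => (b i : ι → F)) :=
    (b.linearIndependent.map' K₁.subtype K₁.ker_subtype).map_of_injective_injective σ.symm Sg
      (fun r hr => σ.symm.injective (by rw [hr, map_zero]))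
      (fun m hm => funext fun i => σ.injective ((congrFun hm i).trans (map_zero σ).symm))
      (fun r m => funext fun i => by
        show σ (σ.symm r * m i) = r * σ (m i)
        rw [map_mul, σ.apply_symm_apply])
  have hmem : ∀ i, Sg (b i) ∈ K₂ := fun i => by
    have h1 : R (b i) = c • (b i : ι → F) := sub_eq_zero.1 (b i).2
    refine LinearMap.mem_ker.2 (sub_eq_zero.2 ?_)
    rw [hcomm, h1]
    exact funext fun k => map_mul σ _ _
  have hd2 : finrank F K₁ ≤ finrank F K₂ := by
    have h1 : LinearIndependent F (fun i => (⟨Sg (b i), hmem i⟩ : K₂)) := LinearIndependent.of_comp K₂.subtype hli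
    simpa using h1.fintype_card_le_finrank
  have hdisj : K₁ ⊓ K₂ = ⊥ := eq_bot_iff.2 fun z hz => by
    obtain ⟨hz1, hz2⟩ := hz
    have e := (sub_eq_zero.1 hz1).symm.trans (sub_eq_zero.1 hz2)
    simp only [LinearMap.smul_apply, LinearMap.id_apply] at e
    by_contra hz0
    exact hσ (smul_left_injective F hz0 e).symm
  have h1 := Submodule.finrank_sup_add_finrank_inf_eq K₁ K₂
  rw [hdisj, finrank_bot] at h1
  have h2 := Submodule.finrank_le (K₁ ⊔ K₂)
  rw [Module.finrank_fintype_fun_eq_card] at h2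
  have hρ : σ c / c ≠ 1 := fun e => hσ ((div_eq_one_iff_eq hc).1 e)
  have hy2 : ∀ z ∈ K₂, y z = (σ c / c) • z := fun z hz => by
    have e := sub_eq_zero.1 hz
    simp only [LinearMap.smul_apply, LinearMap.id_apply, hR] at e
    rw [div_eq_inv_mul, mul_smul, ← e, inv_smul_smul₀ hc]
  have hK2P : K₂ ≤ P := fun z hz => by
    have h3 := himg z
    rw [hy2 z hz, ← one_smul F z, smul_smul, mul_one, ← sub_smul] at h3
    exact (P.smul_mem_iff (sub_ne_zero.2 hρ)).1 h3
  have h3 := Submodule.finrank_mono hK2P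
  have heq : K₂ = P := Submodule.eq_of_le_of_finrank_le hK2P (by omega)
  refine hsep _ (by omega) hρ (fun p hp => hy2 p (heq ▸ hp)) ⟨K₁, hd1, fun k hk => ?_, heq ▸ hdisj⟩
  have e := sub_eq_zero.1 hk
  simp only [LinearMap.smul_apply, LinearMap.id_apply, hR] at e
  exact smul_right_injective _ hc e

/-- a rational map up to scalar with small image is rational -/
theorem rational_of_image {y : (ι → F) ≃ₗ[F] (ι → F)} (hy : Ratty F₀ y) {P : Submodule F (ι → F)}
    (himg : ∀ z, y z - z ∈ P) (hdim : 2 * finrank F P < Fintype.card ι) {u : ι → F} (hu : RV F₀ u) : RV F₀ (y u) :=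
  rational_of_image' hy himg hdim.le (fun _ h _ _ _ => absurd h (by omega)) hu

/-- a rational vector killed by given rational functionals, outside the span of given rational vectors -/
theorem exists_avoid {k l : ℕ} (f : Fin k → Dual F (ι → F)) (hf : ∀ i, RF F₀ (f i)) (w : Fin l → ι → F) (hw : ∀ j, RV F₀ (w j))
    (h : k + l < Fintype.card ι) : ∃ x, RV F₀ x ∧ (∀ i, f i x = 0) ∧ x ∉ Submodule.span F (Set.range w) := by
  let L : (ι → F₀) →ₗ[F₀] (Fin k → F₀) :=
    { toFun := fun x i => ⟨f i fun j => (x j : F), (hf i).apply fun j => (x j).2⟩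
      map_add' := fun x y => funext fun i => Subtype.ext (by
        show f i (fun j => ((x + y) j : F)) = f i (fun j => (x j : F)) + f i (fun j => (y j : F))
        rw [← map_add]
        rfl)
      map_smul' := fun a x => funext fun i => Subtype.ext (by
        show f i (fun j => ((a • x) j : F)) = (a : F) * f i (fun j => (x j : F))
        rw [← smul_eq_mul, ← map_smul]
        rfl) }
  obtain ⟨x, hxk, hxw⟩ : ∃ x ∈ LinearMap.ker L, x ∉ Submodule.span F₀ (Set.range fun j => down (hw j)) := by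
    refine SetLike.not_le_iff_exists.1 fun hle => ?_
    have h1 := (Submodule.finrank_mono hle).trans (finrank_range_le_card (R := F₀) fun j => down (hw j))
    have h2 := LinearMap.finrank_range_add_finrank_ker L
    have h3 := Submodule.finrank_le (LinearMap.range L)
    rw [Module.finrank_fintype_fun_eq_card] at h2 h3
    simp only [Fintype.card_fin] at h1 h3
    omega
  obtain ⟨g, hg, hgx, hgw⟩ := exists_rf _ hxw
  refine ⟨fun i => (x i : F), fun i => (x i).2, fun i => congrArg Subtype.val (congrFun hxk i), fun hm => ?_⟩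
  have h0 : (Submodule.span F (Set.range w)) ≤ LinearMap.ker g := by
    rw [Submodule.span_le]
    rintro _ ⟨j, rfl⟩
    exact hgw j
  have h1 : g (fun i => (x i : F)) = 0 := h0 hm
  rw [hgx] at h1
  exact one_ne_zero h1

/-- a rational functional equal to one at a rational vector outside a rational span and vanishing on the span -/
theorem exists_rf_sep {k : ℕ} {w : Fin k → ι → F} (hw : ∀ j, RV F₀ (w j)) {x : ι → F} (hx : RV F₀ x)
    (h : x ∉ Submodule.span F (Set.range w)) : ∃ f : Dual F (ι → F), RF F₀ f ∧ f x = 1 ∧ ∀ j, f (w j) = 0 := by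
  refine exists_rf (fun j => down (hw j)) (x := down hx) fun hm => h ?_
  obtain ⟨c, hc⟩ := (Submodule.mem_span_range_iff_exists_fun _).1 hm
  refine (Submodule.mem_span_range_iff_exists_fun _).2 ⟨fun j => (c j : F), funext fun i => ?_⟩
  have := congrArg Subtype.val (congrFun hc i)
  simp only [Finset.sum_apply, Pi.smul_apply, smul_eq_mul, AddSubmonoidClass.coe_finsetSum] at this ⊢
  exact this

/-- membership in the product of the rational matrices and the scalars -/
theorem mem_ratScalar_iff (g : Matrix.GeneralLinearGroup ι F) :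
    g ∈ (Matrix.GeneralLinearGroup.map (F₀.subtype : F₀ →+* F)).range ⊔ Cfsg.Geo.scalars ι F ↔
      Ratty F₀ (glEquiv ι F g) := by
  haveI : (Cfsg.Geo.scalars ι F).Normal := ⟨fun z hz g => by
    obtain ⟨c, hc⟩ := (Cfsg.Geo.mem_scalars_iff z).1 hz
    refine (Cfsg.Geo.mem_scalars_iff _).2 ⟨c, ?_⟩
    rw [Units.val_mul, Units.val_mul, hc, mul_smul_comm, mul_one, smul_mul_assoc, ← Units.val_mul, mul_inv_cancel, Units.val_one]⟩
  have single_eq : ∀ i j, glEquiv ι F g (Pi.single i 1) j = (g : Matrix ι ι F) j i := fun i j => by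
    rw [glEquiv_apply, Matrix.mulVec_single_one, Matrix.col_apply]
  constructor
  · intro hg
    obtain ⟨_, ⟨y, rfl⟩, z, hz, rfl⟩ := Subgroup.mem_sup_of_normal_right.1 hg
    obtain ⟨c, hc⟩ := (Cfsg.Geo.mem_scalars_iff z).1 hz
    refine ⟨(c : F)⁻¹, inv_ne_zero c.ne_zero, fun i j => ?_⟩
    rw [Pi.smul_apply, single_eq, Units.val_mul, hc, mul_smul_comm, mul_one, Matrix.smul_apply, smul_eq_mul, smul_eq_mul,
      inv_mul_cancel_left₀ c.ne_zero]
    exact ((y : Matrix ι ι F₀) j i).2
  · rintro ⟨c, hc, h⟩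
    let A : Matrix ι ι F₀ := Matrix.of fun j i => ⟨c * (g : Matrix ι ι F) j i, by
      have := h i j
      rwa [Pi.smul_apply, single_eq, smul_eq_mul] at this⟩
    have hA : A.map F₀.subtype = c • (g : Matrix ι ι F) := Matrix.ext fun _ _ => rfl
    haveI : Fintype F₀ := Fintype.ofFinite F₀
    have hdet : A.det ≠ 0 := fun h0 => by
      have h1 : (A.map F₀.subtype).det = F₀.subtype A.det := (RingHom.map_det F₀.subtype A).symm
      rw [hA, h0, map_zero, Matrix.det_smul, mul_eq_zero] at h1
      exact h1.elim (pow_ne_zero _ hc) (Matrix.GeneralLinearGroup.det g).ne_zero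
    let y := Matrix.GeneralLinearGroup.mkOfDetNeZero A hdet
    let z : Matrix.GeneralLinearGroup ι F :=
      Units.map (Matrix.scalar ι : F →+* Matrix ι ι F).toMonoidHom (Units.mk0 c⁻¹ (inv_ne_zero hc))
    refine Subgroup.mem_sup_of_normal_right.2 ⟨_, ⟨y, rfl⟩, z, ⟨_, rfl⟩, Units.ext ?_⟩
    show A.map F₀.subtype * Matrix.scalar ι c⁻¹ = (g : Matrix ι ι F)
    rw [hA, Matrix.scalar_apply, ← Matrix.smul_one_eq_diagonal, mul_smul_comm, mul_one, smul_smul, inv_mul_cancel₀ hc, one_smul]

end Cfsg.Agent.ClassicalMax.Subfield
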