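import Cfsg.Agent.ClassicalMax.Generic
import Cfsg.Agent.Char.Frobenius
import Cfsg.Agent.Coprime.Generation

/-!
A group of matrices of determinant one containing the rational transvections over a subfield of prime index and some
element outside the normaliser of the rational structure contains every transvection.

The key step finds an element outside the rational group fixing a rational line: otherwise the group acting on the
plane of a rational vector and a moved one would have an elementary abelian malnormal subgroup.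
-/

set_option autoImplicit false
set_option linter.unusedSectionVars false
set_option linter.style.haveILetI false

namespace Cfsg.Agent.ClassicalMax.Subfield

open Module

variable {ι : Type} [Fintype ι] [DecidableEq ι] {F : Type*} [Field F] [Fintype F] (F₀ : Subfield F)

/-- vectors with coordinates in the subfield -/
def RV (v : ι → F) : Prop := ∀ i, v i ∈ F₀

/-- functionals with coefficients in the subfield -/
def RF (f : Dual F (ι → F)) : Prop := ∀ i, f (Pi.single i 1) ∈ F₀

/-- maps that are rational up to a scalar -/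
def Ratty (x : (ι → F) ≃ₗ[F] (ι → F)) : Prop := ∃ c : F, c ≠ 0 ∧ ∀ i, RV F₀ (c • x (Pi.single i 1))

theorem eq_sum_single (v : ι → F) : v = ∑ i, v i • Pi.single i (1 : F) := by
  ext j
  simp [Finset.sum_apply, Pi.single_apply]

theorem apply_eq_sum (f : Dual F (ι → F)) (v : ι → F) : f v = ∑ i, v i * f (Pi.single i 1) := by
  conv_lhs => rw [eq_sum_single v]
  simp [map_sum]

variable {F₀}

theorem rv_single (i : ι) : RV F₀ (Pi.single i (1 : F)) := fun j => by
  rcases eq_or_ne j i with rfl | h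
  · rw [Pi.single_eq_same]; exact F₀.one_mem
  · rw [Pi.single_eq_of_ne h]; exact F₀.zero_mem

theorem RV.add {u v : ι → F} (hu : RV F₀ u) (hv : RV F₀ v) : RV F₀ (u + v) := fun i => F₀.add_mem (hu i) (hv i)

theorem RV.sub {u v : ι → F} (hu : RV F₀ u) (hv : RV F₀ v) : RV F₀ (u - v) := fun i => F₀.sub_mem (hu i) (hv i)

theorem RV.neg {u : ι → F} (hu : RV F₀ u) : RV F₀ (-u) := fun i => F₀.neg_mem (hu i)

theorem RV.smul {u : ι → F} (hu : RV F₀ u) {c : F} (hc : c ∈ F₀) : RV F₀ (c • u) := fun i => F₀.mul_mem hc (hu i)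

theorem RF.apply {f : Dual F (ι → F)} (hf : RF F₀ f) {v : ι → F} (hv : RV F₀ v) : f v ∈ F₀ := by
  rw [apply_eq_sum]
  exact sum_mem fun i _ => F₀.mul_mem (hv i) (hf i)

/-- rational coordinates -/
def down {v : ι → F} (hv : RV F₀ v) : ι → F₀ := fun i => ⟨v i, hv i⟩

theorem rv_scalar {v u : ι → F} (hv : RV F₀ v) (hu : RV F₀ u) (hv0 : v ≠ 0) {a : F} (h : a • v = u) : a ∈ F₀ := by
  obtain ⟨i, hi⟩ : ∃ i, v i ≠ 0 := by
    by_contra! hc
    exact hv0 (funext hc)
  have : a = u i / v i := by rw [← h, Pi.smul_apply, smul_eq_mul, mul_div_cancel_right₀ _ hi]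
  rw [this]
  exact F₀.div_mem (hu i) (hv i)

theorem exists_rf {k : ℕ} (w : Fin k → ι → F₀) {x : ι → F₀} (hx : x ∉ Submodule.span F₀ (Set.range w)) :
    ∃ f : Dual F (ι → F), RF F₀ f ∧ f (fun i => (x i : F)) = 1 ∧ ∀ j, f (fun i => (w j i : F)) = 0 := by
  haveI : Fintype F₀ := Fintype.ofFinite F₀
  obtain ⟨ψ, hψ, hψ0⟩ := exists_dual_one _ hx
  let f : Dual F (ι → F) := Fintype.linearCombination F fun i => (ψ (Pi.single i 1) : F)
  have hf : ∀ y : ι → F₀, f (fun i => (y i : F)) = (ψ y : F) := fun y => by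
    simp only [f, Fintype.linearCombination_apply, smul_eq_mul]
    rw [apply_eq_sum ψ y, AddSubmonoidClass.coe_finsetSum]
    rfl
  refine ⟨f, fun i => ?_, by rw [hf, hψ]; rfl, fun j => by rw [hf, hψ0 _ (Submodule.subset_span ⟨j, rfl⟩)]; rfl⟩
  have : f (Pi.single i 1) = (ψ (Pi.single i 1) : F) := by
    simp [f, Fintype.linearCombination_apply, Pi.single_apply]
  rw [this]
  exact (ψ _).2

theorem exists_rf_one {v x : ι → F} (hv : RV F₀ v) (hx : RV F₀ x) (h : x ∉ F ∙ v) :
    ∃ f : Dual F (ι → F), RF F₀ f ∧ f x = 1 ∧ f v = 0 := by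
  obtain ⟨f, hf, h1, h0⟩ := exists_rf ![down hv] (x := down hx) (fun hm => h (by
    rw [Matrix.range_cons, Matrix.range_empty, Set.union_empty] at hm
    obtain ⟨a, ha⟩ := Submodule.mem_span_singleton.1 hm
    exact Submodule.mem_span_singleton.2 ⟨a, funext fun i => congrArg Subtype.val (congrFun ha i)⟩))
  exact ⟨f, hf, h1, h0 0⟩

theorem exists_rf_two (hn : 3 ≤ Fintype.card ι) {v u : ι → F} (hv : RV F₀ v) (hu : RV F₀ u) :
    ∃ (f : Dual F (ι → F)) (x : ι → F), RF F₀ f ∧ RV F₀ x ∧ f x = 1 ∧ f v = 0 ∧ f u = 0 := by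
  obtain ⟨x, hx⟩ : ∃ x, x ∉ Submodule.span F₀ (Set.range ![down hv, down hu]) := by
    by_contra hc
    push Not at hc
    have h1 := finrank_range_le_card (R := F₀) ![down hv, down hu]
    rw [Set.finrank, show Submodule.span F₀ (Set.range ![down hv, down hu]) = ⊤ from eq_top_iff.2 fun z _ => hc z, finrank_top,
      Module.finrank_fintype_fun_eq_card, Fintype.card_fin] at h1
    omega
  obtain ⟨f, hf, h1, h0⟩ := exists_rf _ hx
  exact ⟨f, fun i => (x i : F), hf, fun i => (x i).2, h1, h0 0, h0 1⟩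

theorem exists_indep (hn : 3 ≤ Fintype.card ι) {v : ι → F} (hv : RV F₀ v) {f : Dual F (ι → F)} (hf : RF F₀ f) (hfv : f v = 0) :
    ∃ x, RV F₀ x ∧ f x = 0 ∧ x ∉ F ∙ v := by
  obtain ⟨g, u, hg, hu, hgu, hgv, -⟩ := exists_rf_two hn hv hv
  by_cases hfu : f u = 0
  · refine ⟨u, hu, hfu, fun h => ?_⟩
    obtain ⟨a, rfl⟩ := Submodule.mem_span_singleton.1 h
    rw [map_smul, hgv, smul_zero] at hgu
    exact zero_ne_one hgu
  · obtain ⟨g₂, u₂, hg₂, hu₂, hgu₂, hgv₂, hg₂u⟩ := exists_rf_two hn hv hu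
    refine ⟨u₂ - (f u₂ / f u) • u, hu₂.sub (hu.smul (F₀.div_mem (hf.apply hu₂) (hf.apply hu))), ?_, fun h => ?_⟩
    · rw [map_sub, map_smul, smul_eq_mul, div_mul_cancel₀ _ hfu, sub_self]
    · obtain ⟨a, ha⟩ := Submodule.mem_span_singleton.1 h
      have := congrArg g₂ ha
      rw [map_smul, hgv₂, smul_zero, map_sub, map_smul, hgu₂, hg₂u, smul_zero, sub_zero] at this
      exact zero_ne_one this

/-- the hypotheses on the group -/
structure Over (F₀ : Subfield F) (X : Subgroup ((ι → F) ≃ₗ[F] (ι → F))) : Prop where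
  card : 3 ≤ Fintype.card ι
  prime : ∃ r : ℕ, r.Prime ∧ Fintype.card F = Nat.card F₀ ^ r
  rat : ∀ (f : Dual F (ι → F)) (v : ι → F), RF F₀ f → RV F₀ v → f v = 0 → tvec f v ∈ X
  det : ∀ x ∈ X, LinearMap.det x.toLinearMap = 1

variable {X : Subgroup ((ι → F) ≃ₗ[F] (ι → F))}

theorem pull {g : (ι → F) ≃ₗ[F] (ι → F)} (hg : g ∈ X) {f : Dual F (ι → F)} {w : ι → F} (hf : f w = 0) (h : tvec f w ∈ X) :
    tvec (f.comp g.toLinearMap) (g⁻¹ w) ∈ X := by
  have := mul_mem (mul_mem (inv_mem hg) h) (inv_mem (inv_mem hg))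
  rw [conj_tvec _ hf, inv_inv] at this
  exact this

theorem comm_mem {φ ψ : Dual F (ι → F)} {v w : ι → F} (hφ : φ v = 0) (hψ : ψ w = 0) (hψv : ψ v = 0)
    (h1 : tvec φ v ∈ X) (h2 : tvec ψ w ∈ X) : tvec (φ w • ψ) v ∈ X := by
  rw [← comm_tvec hφ hψ hψv]
  exact mul_mem (mul_mem (mul_mem h1 h2) (inv_mem h1)) (inv_mem h2)

namespace Over

theorem three (hO : Over F₀ X) : 3 ≤ Fintype.card ι := by have := hO.card; omega

/-- an irrational multiple of one rational transvection gives all of them -/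
theorem spread (hO : Over F₀ X) {l : F} {v : ι → F} {h : Dual F (ι → F)} (hv : RV F₀ v) (hv0 : v ≠ 0) (hh : RF F₀ h) (hh0 : h ≠ 0)
    (hhv : h v = 0) (hl : tvec h (l • v) ∈ X) :
    ∀ (f : Dual F (ι → F)) (u : ι → F), RF F₀ f → RV F₀ u → f u = 0 → tvec f (l • u) ∈ X := by
  have hzero : ∀ (f : Dual F (ι → F)) (u : ι → F), u = 0 ∨ f = 0 → tvec f (l • u) ∈ X := by
    rintro f u (rfl | rfl)
    · rw [smul_zero, tvec_zero_right]; exact one_mem X
    · rw [tvec_zero_left]; exact one_mem X
  -- changing the functional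
  have hfun : ∀ (f g : Dual F (ι → F)) (u w : ι → F), RF F₀ f → RF F₀ g → RV F₀ u → RV F₀ w → f u = 0 → g u = 0 → g w = 0 →
      f w = 1 → tvec f (l • u) ∈ X → tvec g (l • u) ∈ X := by
    intro f g u w _ hg hu hw hfu hgu hgw hfw ht
    have := comm_mem (φ := f) (ψ := g) (v := l • u) (w := w) (by rw [map_smul, hfu, smul_zero]) hgw
      (by rw [map_smul, hgu, smul_zero]) ht (hO.rat g w hg hw hgw)
    rwa [hfw, one_smul] at this
  have hfun' : ∀ (f g : Dual F (ι → F)) (u : ι → F), RF F₀ f → RF F₀ g → RV F₀ u → f u = 0 → g u = 0 →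
      (∃ z, RV F₀ z ∧ f z ≠ 0 ∧ g z = 0) → tvec f (l • u) ∈ X → tvec g (l • u) ∈ X := by
    rintro f g u hf hg hu hfu hgu ⟨z, hz, hfz, hgz⟩ ht
    exact hfun f g u ((f z)⁻¹ • z) hf hg hu (hz.smul (F₀.inv_mem (hf.apply hz))) hfu hgu (by rw [map_smul, hgz, smul_zero])
      (by rw [map_smul, smul_eq_mul, inv_mul_cancel₀ hfz]) ht
  have hallf : ∀ (f g : Dual F (ι → F)) (u : ι → F), RF F₀ f → RF F₀ g → RV F₀ u → u ≠ 0 → f ≠ 0 → f u = 0 → g u = 0 →
      tvec f (l • u) ∈ X → tvec g (l • u) ∈ X := by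
    intro f g u hf hg hu hu0 hf0 hfu hgu ht
    rcases eq_or_ne g 0 with rfl | hg0
    · exact hzero _ _ (Or.inr rfl)
    by_cases hex : ∃ z, RV F₀ z ∧ f z ≠ 0 ∧ g z = 0
    · exact hfun' f g u hf hg hu hfu hgu hex ht
    push Not at hex
    obtain ⟨x, hx, hfx, hxu⟩ := exists_indep hO.three hu hf hfu
    obtain ⟨k, hk, hkx, hku⟩ := exists_rf_one hu hx hxu
    obtain ⟨i, hi⟩ : ∃ i, f (Pi.single i 1) ≠ 0 := by
      by_contra! hc
      exact hf0 (LinearMap.ext fun z => by rw [apply_eq_sum]; simp [hc])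
    have hgx : g x = 0 := by
      by_contra hgx
      apply hex (Pi.single i 1 - (g (Pi.single i 1) / g x) • x)
        ((rv_single i).sub (hx.smul (F₀.div_mem (hg.apply (rv_single i)) (hg.apply hx))))
      · rw [map_sub, map_smul, hfx, smul_zero, sub_zero]; exact hi
      · rw [map_sub, map_smul, smul_eq_mul, div_mul_cancel₀ _ hgx, sub_self]
    have h1 : tvec k (l • u) ∈ X := hfun' f k u hf hk hu hfu hku
      ⟨Pi.single i 1 - k (Pi.single i 1) • x, (rv_single i).sub (hx.smul (hk.apply (rv_single i))),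
        by rw [map_sub, map_smul, hfx, smul_zero, sub_zero]; exact hi,
        by rw [map_sub, map_smul, hkx, smul_eq_mul, mul_one, sub_self]⟩ ht
    exact hfun' k g u hk hg hu hku hgu ⟨x, hx, by rw [hkx]; exact one_ne_zero, hgx⟩ h1
  -- changing the centre
  have hcen : ∀ (f : Dual F (ι → F)) (u w : ι → F), RF F₀ f → RV F₀ u → RV F₀ w → f u = 0 → f w = 0 → u ∉ F ∙ w →
      tvec f (l • u) ∈ X → tvec f (l • w) ∈ X := by
    intro f u w hf hu hw hfu hfw huw ht
    obtain ⟨k, hk, hku, hkw⟩ := exists_rf_one hw hu huw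
    have := comm_mem (φ := k) (ψ := f) (v := w) (w := l • u) hkw (by rw [map_smul, hfu, smul_zero]) hfw (hO.rat k w hk hw hkw) ht
    rwa [map_smul, hku, smul_eq_mul, mul_one, tvec_smul] at this
  intro f u hf hu hfu
  rcases eq_or_ne u 0 with hu0 | hu0
  · exact hzero f u (Or.inl hu0)
  rcases eq_or_ne f 0 with hf0 | hf0
  · exact hzero f u (Or.inr hf0)
  obtain ⟨k, z, hk, hz, hkz, hkv, hku⟩ := exists_rf_two hO.three hv hu
  have hk0 : k ≠ 0 := fun e => by simp [e] at hkz
  have h1 := hallf h k v hh hk hv hv0 hh0 hhv hkv hl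
  have h2 : tvec k (l • u) ∈ X := by
    by_cases huv : v ∈ F ∙ u
    · obtain ⟨x, hx, hkx, hxv⟩ := exists_indep hO.three hv hk hkv
      have hvx : v ∉ F ∙ x := fun h' => by
        obtain ⟨a, ha⟩ := Submodule.mem_span_singleton.1 h'
        have ha0 : a ≠ 0 := by rintro rfl; exact hv0 (by rw [← ha, zero_smul])
        exact hxv (Submodule.mem_span_singleton.2 ⟨a⁻¹, by rw [← ha, smul_smul, inv_mul_cancel₀ ha0, one_smul]⟩)
      have hxu : x ∉ F ∙ u := fun h' => by
        obtain ⟨a, ha⟩ := Submodule.mem_span_singleton.1 huv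
        obtain ⟨b, hb⟩ := Submodule.mem_span_singleton.1 h'
        have ha0 : a ≠ 0 := by rintro rfl; exact hv0 (by rw [← ha, zero_smul])
        exact hxv (Submodule.mem_span_singleton.2 ⟨b * a⁻¹, by rw [← ha, smul_smul, inv_mul_cancel_right₀ ha0, hb]⟩)
      exact hcen k x u hk hx hu hkx hku hxu (hcen k v x hk hv hx hkv hkx hvx h1)
    · exact hcen k v u hk hv hu hkv hku huv h1
  exact hallf k f u hk hf hu hu0 hk0 hku hfu h2

/-- an irrational multiple of a rational transvection gives all transvections -/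
theorem all_of_irrational (hO : Over F₀ X) {l : F} (hlF : l ∉ F₀) {v : ι → F} {h : Dual F (ι → F)} (hv : RV F₀ v) (hv0 : v ≠ 0)
    (hh : RF F₀ h) (hh0 : h ≠ 0) (hhv : h v = 0) (hl : tvec h (l • v) ∈ X) :
    ∀ (c : F) (i j : ι), i ≠ j → tvec (c • LinearMap.proj j) (Pi.single i 1) ∈ X := by
  let P : F → Prop := fun c => ∀ (f : Dual F (ι → F)) (u : ι → F), RF F₀ f → RV F₀ u → f u = 0 → tvec f (c • u) ∈ X
  have hP0 : ∀ c ∈ F₀, P c := fun c hc f u hf hu hfu => hO.rat f _ hf (hu.smul hc) (by rw [map_smul, hfu, smul_zero])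
  have hadd : ∀ a b, P a → P b → P (a + b) := fun a b ha hb f u hf hu hfu => by
    rw [add_smul, ← tvec_mul_right (by rw [map_smul, hfu, smul_zero]) (by rw [map_smul, hfu, smul_zero])]
    exact mul_mem (ha f u hf hu hfu) (hb f u hf hu hfu)
  have hmul : ∀ a b, P a → P b → P (a * b) := fun a b ha hb f u hf hu hfu => by
    obtain ⟨x, hx, hfx, hxu⟩ := exists_indep hO.three hu hf hfu
    obtain ⟨k, hk, hkx, hku⟩ := exists_rf_one hu hx hxu
    have := comm_mem (φ := k) (ψ := f) (v := a • u) (w := b • x) (by rw [map_smul, hku, smul_zero])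
      (by rw [map_smul, hfx, smul_zero]) (by rw [map_smul, hfu, smul_zero]) (ha k u hk hu hku) (hb f x hf hx hfx)
    rwa [map_smul, hkx, smul_eq_mul, mul_one, tvec_smul, smul_smul, mul_comm] at this
  have hpow : ∀ a, P a → ∀ n : ℕ, P (a ^ n) := fun a ha n => by
    induction n with
    | zero => rw [pow_zero]; exact hP0 1 F₀.one_mem
    | succ n ih => rw [pow_succ]; exact hmul _ _ ih ha
  have hinv : ∀ a, P a → P a⁻¹ := fun a ha => by
    rcases eq_or_ne a 0 with rfl | h0
    · simpa using ha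
    have : a⁻¹ = a ^ (Fintype.card F - 2) := by
      refine inv_eq_of_mul_eq_one_right ?_
      rw [← pow_succ', show Fintype.card F - 2 + 1 = Fintype.card F - 1 by
        have := Fintype.one_lt_card (α := F); omega, FiniteField.pow_card_sub_one_eq_one a h0]
    rw [this]; exact hpow a ha _
  let S : Subfield F :=
    { carrier := {a | P a}, mul_mem' := fun ha hb => hmul _ _ ha hb, one_mem' := hP0 1 F₀.one_mem
      add_mem' := fun ha hb => hadd _ _ ha hb, zero_mem' := hP0 0 F₀.zero_mem
      neg_mem' := fun {a} ha => by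
        show P (-a)
        rw [← neg_one_mul]
        exact hmul _ _ (hP0 _ (F₀.neg_mem F₀.one_mem)) ha
      inv_mem' := fun a ha => hinv a ha }
  have hlS : l ∈ S := hO.spread hv hv0 hh hh0 hhv hl
  obtain ⟨r, hr, hcard⟩ := hO.prime
  have hle : F₀ ≤ S := fun c hc => hP0 c hc
  letI : Algebra F₀ S := (Subfield.inclusion hle).toAlgebra
  haveI : IsScalarTower F₀ S F := IsScalarTower.of_algebraMap_eq fun _ => rfl
  have h0 : 1 < Nat.card F₀ := Finite.one_lt_card
  have hrk : finrank F₀ F = r := by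
    have := Module.natCard_eq_pow_finrank (K := F₀) (V := F)
    rw [Nat.card_eq_fintype_card, hcard] at this
    exact (Nat.pow_right_injective h0 this).symm
  have htow := Module.finrank_mul_finrank F₀ S F
  rw [hrk] at htow
  rcases (Nat.dvd_prime hr).1 (Dvd.intro _ htow) with h1 | h1
  · exfalso
    have hS : Nat.card S = Nat.card F₀ := by
      rw [Module.natCard_eq_pow_finrank (K := F₀) (V := S), h1, pow_one]
    have : (F₀ : Set F) = (S : Set F) := Set.eq_of_subset_of_ncard_le hle
      (by rw [← Nat.card_coe_set_eq, ← Nat.card_coe_set_eq]; exact hS.le)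
    exact hlF (this.ge hlS)
  · have h2 : finrank S F = 1 := by
      rw [h1] at htow
      exact Nat.eq_of_mul_eq_mul_left hr.pos (by rw [mul_one]; exact htow)
    have hSF : (S : Set F) = Set.univ := Set.eq_of_subset_of_ncard_le (Set.subset_univ _) (by
      rw [Set.ncard_univ, ← Nat.card_coe_set_eq, Module.natCard_eq_pow_finrank (K := S) (V := F), h2, pow_one]
      exact le_rfl)
    intro c i j hij
    have hc : P c := Set.eq_univ_iff_forall.1 hSF c
    have hpj : RF F₀ (LinearMap.proj j : Dual F (ι → F)) := fun k => rv_single k j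
    have := hc (LinearMap.proj j) (Pi.single i 1) hpj (rv_single i) (by simp [hij.symm])
    rwa [← tvec_smul] at this

/-- an element outside the rational group fixing a rational line -/
theorem all_of_fixed_line (hO : Over F₀ X) {x : (ι → F) ≃ₗ[F] (ι → F)} (hx : x ∈ X) {v : ι → F} (hv : RV F₀ v) (hv0 : v ≠ 0)
    (hxv : x v ∈ F ∙ v) (hnot : ¬ Ratty F₀ x⁻¹) :
    ∀ (c : F) (i j : ι), i ≠ j → tvec (c • LinearMap.proj j) (Pi.single i 1) ∈ X := by
  obtain ⟨a, ha⟩ := Submodule.mem_span_singleton.1 hxv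
  have ha0 : a ≠ 0 := by
    rintro rfl
    rw [zero_smul] at ha
    exact hv0 (x.map_eq_zero_iff.1 ha.symm)
  set y := x⁻¹ with hy
  have hyv : a • y v = v := by
    rw [← map_smul, ha]
    exact inv_apply x v
  by_cases hall : ∀ f : Dual F (ι → F), RF F₀ f → f v = 0 → RF F₀ (a • f.comp y.toLinearMap)
  · -- every functional at the line is carried to a rational one
    obtain ⟨i₀, hi₀⟩ : ∃ i, v i ≠ 0 := by by_contra! hc; exact hv0 (funext hc)
    let β : ι → F := fun j => (a • y (Pi.single j 1)) i₀ / v i₀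
    let u : ι → ι → F := fun j => a • y (Pi.single j 1) - β j • v
    have hu : ∀ j, RV F₀ (u j) := fun j i => by
      let f : Dual F (ι → F) := v i₀ • LinearMap.proj i - v i • LinearMap.proj i₀
      have hf : RF F₀ f := fun k => by
        simp only [f, LinearMap.sub_apply, LinearMap.smul_apply, LinearMap.proj_apply, smul_eq_mul]
        exact F₀.sub_mem (F₀.mul_mem (hv i₀) (rv_single k i)) (F₀.mul_mem (hv i) (rv_single k i₀))
      have hfv : f v = 0 := by simp [f, mul_comm]
      have h1 := hall f hf hfv j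
      have e : u j i = (v i₀)⁻¹ * (a • f.comp y.toLinearMap) (Pi.single j 1) := by
        simp only [u, β, f, LinearMap.smul_apply, LinearMap.comp_apply, LinearEquiv.coe_coe, LinearMap.sub_apply,
          LinearMap.proj_apply, Pi.sub_apply, Pi.smul_apply, smul_eq_mul]
        field_simp
      rw [e]
      exact F₀.mul_mem (F₀.inv_mem (hv i₀)) h1
    obtain ⟨j, hj⟩ : ∃ j, β j ∉ F₀ := by
      by_contra! hc
      refine hnot ⟨a, ha0, fun i => ?_⟩
      rw [show a • y (Pi.single i 1) = u i + β i • v by simp [u]]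
      exact (hu i).add (hv.smul (hc i))
    obtain ⟨h, z, hh, hz, hhz, hhv, hhu⟩ := exists_rf_two hO.three hv (hu j)
    have hh0 : h ≠ 0 := fun e => by simp [e] at hhz
    set f := a • h.comp y.toLinearMap with hfd
    have hfj : f (Pi.single j 1) = 0 := by
      show a • h (y (Pi.single j 1)) = 0
      rw [← map_smul, show a • y (Pi.single j 1) = u j + β j • v by simp [u], map_add, map_smul, hhu, hhv, smul_zero, add_zero]
    have h1 := pull hx hfj (hO.rat f _ (hall h hh hhv) (rv_single j) hfj)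
    have e1 : f.comp x.toLinearMap = a • h := LinearMap.ext fun w => by
      show a • h (y (x w)) = a • h w
      rw [show y (x w) = w from inv_apply x w]
    rw [e1, ← hy, tvec_smul, show a • y (Pi.single j 1) = u j + β j • v by simp [u]] at h1
    have h2 := mul_mem h1 (hO.rat h _ hh (hu j).neg (by rw [map_neg, hhu, neg_zero]))
    rw [tvec_mul_right (by rw [map_add, map_smul, hhu, hhv, smul_zero, add_zero]) (by rw [map_neg, hhu, neg_zero]),
      show u j + β j • v + -u j = β j • v by abel] at h2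
    exact hO.all_of_irrational hj hv hv0 hh hh0 hhv h2
  · -- some functional at the line becomes irrational
    push Not at hall
    obtain ⟨f, hf, hfv, hirr⟩ := hall
    set φ := a • f.comp y.toLinearMap with hφd
    have hφv : φ v = 0 := by
      show a • f (y v) = 0
      rw [← map_smul, hyv, hfv]
    have h1 := pull (inv_mem hx) hfv (hO.rat f v hf hv hfv)
    rw [inv_inv, ← ha, ← tvec_smul, ← hy] at h1
    have h1' : tvec φ v ∈ X := h1
    obtain ⟨i, hi⟩ : ∃ i, φ (Pi.single i 1) ∉ F₀ := by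
      by_contra! hc
      exact hirr hc
    obtain ⟨h, z, hh, hz, hhz, hhv, hhe⟩ := exists_rf_two hO.three hv (rv_single (F₀ := F₀) i)
    have hh0 : h ≠ 0 := fun e => by simp [e] at hhz
    have h2 := comm_mem hφv hhe hhv h1' (hO.rat h _ hh (rv_single i) hhe)
    rw [tvec_smul] at h2
    exact hO.all_of_irrational hi hv hv0 hh hh0 hhv h2

theorem ratty_of_inv (hO : Over F₀ X) {x : (ι → F) ≃ₗ[F] (ι → F)} (h : Ratty F₀ x) : Ratty F₀ x⁻¹ := by
  haveI : Finite ((ι → F) ≃ₗ[F] (ι → F)) := Finite.of_injective (fun g => (g : (ι → F) → (ι → F))) DFunLike.coe_injective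
  obtain ⟨c, hc, hcx⟩ := h
  have hRV : ∀ u, RV F₀ u → RV F₀ (c • x u) := fun u hu => by
    conv => arg 2; rw [eq_sum_single u]
    rw [map_sum, Finset.smul_sum]
    intro k
    rw [Finset.sum_apply]
    refine sum_mem fun i _ => ?_
    rw [map_smul, smul_comm]
    exact (hcx i).smul (hu i) k
  have hn : ∀ n : ℕ, ∀ u, RV F₀ u → RV F₀ (c ^ n • (x ^ n) u) := fun n => by
    induction n with
    | zero => intro u hu; simpa using hu
    | succ n ih =>
      intro u hu
      have := hRV _ (ih u hu)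
      rwa [map_smul, smul_smul, ← pow_succ', ← LinearEquiv.mul_apply, ← pow_succ'] at this
  obtain ⟨k, hk⟩ : ∃ k : ℕ, x ^ k = x⁻¹ := ⟨orderOf x - 1, by
    refine eq_inv_of_mul_eq_one_left ?_
    rw [← pow_succ, Nat.sub_add_cancel (orderOf_pos x), pow_orderOf_eq_one]⟩
  refine ⟨c ^ k, pow_ne_zero k hc, fun i => ?_⟩
  rw [← hk]
  exact hn k _ (rv_single i)

/-- the main theorem -/
theorem all_tvec (hO : Over F₀ X) (hout : ∃ g ∈ X, ¬ Ratty F₀ g) :
    ∀ (c : F) (i j : ι), i ≠ j → tvec (c • LinearMap.proj j) (Pi.single i 1) ∈ X := by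
  classical
  by_contra hnot
  have hfix : ∀ x ∈ X, ∀ v : ι → F, RV F₀ v → v ≠ 0 → x v ∈ F ∙ v → Ratty F₀ x := fun x hx v hv hv0 hxv => by
    by_contra hr
    refine hnot (hO.all_of_fixed_line hx hv hv0 hxv fun h => hr ?_)
    simpa using hO.ratty_of_inv h
  obtain ⟨g, hg, hgr⟩ := hout
  -- rational vectors can be moved rationally
  have htrans : ∀ a b : ι → F, RV F₀ a → RV F₀ b → b ≠ 0 → a ∉ F ∙ b → ∃ t ∈ X, Ratty F₀ t ∧ t a = b := by
    intro a b ha hb hb0 hab
    have h1 : a ∉ F ∙ (b - a) := fun h => by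
      obtain ⟨d, hd⟩ := Submodule.mem_span_singleton.1 h
      refine hab (Submodule.mem_span_singleton.2 ⟨d / (1 + d), ?_⟩)
      rw [smul_sub, sub_eq_iff_eq_add] at hd
      have hd' : d • b = (1 + d) • a := by rw [add_smul, one_smul, hd]
      have hne : 1 + d ≠ 0 := fun h0 => by
        rw [h0, zero_smul, smul_eq_zero] at hd'
        rw [hd'.resolve_right hb0, add_zero] at h0
        exact one_ne_zero h0
      rw [div_eq_inv_mul, mul_smul, hd', smul_smul, inv_mul_cancel₀ hne, one_smul]
    obtain ⟨f, hf, hfa, hfd⟩ := exists_rf_one (hb.sub ha) ha h1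
    refine ⟨tvec f (b - a), hO.rat f _ hf (hb.sub ha) hfd, ⟨1, one_ne_zero, fun i => ?_⟩, ?_⟩
    · rw [one_smul, tvec_apply hfd]
      exact (rv_single i).add ((hb.sub ha).smul (hf i))
    · rw [tvec_apply hfd, hfa, one_smul, add_sub_cancel]
  have h3 := hO.three
  obtain ⟨i₁⟩ : Nonempty ι := Fintype.card_pos_iff.1 (by omega)
  have hrv0 : ∀ u, RV F₀ u → u ≠ 0 → g u ∈ F ∙ u ∨ ∀ w, RV F₀ w → g u ∉ F ∙ w := by
    intro u hu hu0
    by_contra hc
    push Not at hc
    obtain ⟨h1, w, hw, h2⟩ := hc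
    have hw0 : w ≠ 0 := by
      rintro rfl
      rw [Submodule.span_zero_singleton, Submodule.mem_bot] at h2
      exact h1 (by rw [h2]; exact zero_mem _)
    have hwu : w ∉ F ∙ u := fun h => h1 ((Submodule.span_singleton_le_iff_mem _ _).2 h h2)
    obtain ⟨t, ht, ⟨c, hc0, htc⟩, htw⟩ := htrans w u hw hu hu0 hwu
    obtain ⟨a, ha⟩ := Submodule.mem_span_singleton.1 h2
    have hrat := hfix (t * g) (mul_mem ht hg) u hu hu0
      (Submodule.mem_span_singleton.2 ⟨a, by rw [LinearEquiv.mul_apply, ← ha, map_smul, htw]⟩)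
    refine hgr ?_
    obtain ⟨d, hd, hdtg⟩ := hrat
    obtain ⟨e, he, hei⟩ := hO.ratty_of_inv ⟨c, hc0, htc⟩
    refine ⟨e * d, mul_ne_zero he hd, fun i => ?_⟩
    have h' : (e * d) • g (Pi.single i 1) = ∑ k, (d • (t * g) (Pi.single i 1)) k • (e • t⁻¹ (Pi.single k 1)) := by
      have : g (Pi.single i 1) = t⁻¹ ((t * g) (Pi.single i 1)) := by rw [LinearEquiv.mul_apply, inv_apply]
      conv_lhs => rw [this, eq_sum_single ((t * g) (Pi.single i 1)), map_sum, Finset.smul_sum]
      refine Finset.sum_congr rfl fun k _ => ?_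
      rw [map_smul, smul_smul, smul_smul, Pi.smul_apply, smul_eq_mul]
      congr 1
      ring
    rw [h']
    intro k
    rw [Finset.sum_apply]
    exact sum_mem fun l _ => (hei l).smul (hdtg i l) k
  -- a rational vector moved off the rational lines
  obtain ⟨u₁, hu₁, hu₁0, hv'⟩ : ∃ u, RV F₀ u ∧ u ≠ 0 ∧ ∀ w, RV F₀ w → g u ∉ F ∙ w := by
    have hne : (Pi.single i₁ (1 : F) : ι → F) ≠ 0 := fun h => by simpa using congrFun h i₁
    exact ⟨_, rv_single i₁, hne, (hrv0 _ (rv_single i₁) hne).resolve_left fun h => hgr (hfix g hg _ (rv_single i₁) hne h)⟩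
  set v' := g u₁ with hv'd
  -- over a quadratic extension every moved rational hyperplane has a rational point
  have hr2 : ∀ r : ℕ, Fintype.card F = Nat.card F₀ ^ r → Fintype.card ι = 3 → r ≠ 2 := by
    intro r hcard h3' hr
    subst hr
    obtain ⟨f₀, z₀, hf₀, hz₀, hf₀z, hf₀u, -⟩ := exists_rf_two h3 hu₁ hu₁
    letI : Algebra F₀ F := F₀.toAlgebra
    have hrk : finrank F₀ F = 2 := by
      have := Module.natCard_eq_pow_finrank (K := F₀) (V := F)
      rw [Nat.card_eq_fintype_card, hcard] at this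
      exact (Nat.pow_right_injective Finite.one_lt_card this).symm
    let L : (ι → F₀) →ₗ[F₀] F := Fintype.linearCombination F₀ fun i => f₀ (g⁻¹ (Pi.single i 1))
    obtain ⟨a, ha, ha0⟩ : ∃ a ∈ LinearMap.ker L, a ≠ 0 := by
      refine Submodule.exists_mem_ne_zero_of_ne_bot fun e => ?_
      have h1 := LinearMap.finrank_range_add_finrank_ker L
      have h2 := Submodule.finrank_le (LinearMap.range L)
      rw [e, finrank_bot, Module.finrank_fintype_fun_eq_card, h3'] at h1
      omega
    set u : ι → F := fun i => (a i : F) with hu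
    have hur : RV F₀ u := fun i => (a i).2
    have hu0 : u ≠ 0 := fun h => ha0 (funext fun i => Subtype.ext (congrFun h i))
    have hfu : f₀ (g⁻¹ u) = 0 := by
      rw [eq_sum_single u, map_sum, map_sum, ← LinearMap.mem_ker.1 ha]
      simp only [L, Fintype.linearCombination_apply]
      exact Finset.sum_congr rfl fun i _ => by rw [map_smul, map_smul]; rfl
    set t := g * tvec f₀ u₁ * g⁻¹ with ht
    have htz : ∀ z, t z = z + f₀ (g⁻¹ z) • v' := fun z => by
      show g (tvec f₀ u₁ (g⁻¹ z)) = _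
      rw [tvec_apply hf₀u, map_add, apply_inv, map_smul]
    have htu : t u = u := by rw [htz, hfu, zero_smul, add_zero]
    obtain ⟨c, hc, hct⟩ := hfix t (mul_mem (mul_mem hg (hO.rat f₀ u₁ hf₀ hu₁ hf₀u)) (inv_mem hg)) u hur hu0
      (by rw [htu]; exact Submodule.mem_span_singleton_self u)
    have hcu : RV F₀ (c • u) := by
      rw [← htu, eq_sum_single u, map_sum, Finset.smul_sum]
      intro j
      rw [Finset.sum_apply]
      refine sum_mem fun i _ => ?_
      rw [map_smul, smul_comm]
      exact F₀.mul_mem (hur i) (hct i j)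
    have hcF : c ∈ F₀ := rv_scalar hur hcu hu0 rfl
    obtain ⟨i, hi⟩ : ∃ i, f₀ (g⁻¹ (Pi.single i 1)) ≠ 0 := by
      by_contra! hc'
      have : f₀ (g⁻¹ (g z₀)) = 0 := by
        rw [eq_sum_single (g z₀), map_sum, map_sum]
        exact Finset.sum_eq_zero fun i _ => by rw [map_smul, map_smul, hc', smul_zero]
      rw [inv_apply, hf₀z] at this
      exact one_ne_zero this
    have hdiff : RV F₀ (f₀ (g⁻¹ (Pi.single i 1)) • v') := by
      have h1 := ((hct i).smul (F₀.inv_mem hcF)).sub (rv_single i)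
      rwa [smul_smul, inv_mul_cancel₀ hc, one_smul, htz, add_sub_cancel_left] at h1
    exact hv' _ hdiff (Submodule.mem_span_singleton.2 ⟨(f₀ (g⁻¹ (Pi.single i 1)))⁻¹, by
      rw [smul_smul, inv_mul_cancel₀ hi, one_smul]⟩)
  have hv'0 : v' ≠ 0 := fun h => hv' u₁ hu₁ (by rw [h]; exact zero_mem _)
  -- a rational vector whose plane with `v'` has one rational line
  have hindep : ∀ a b : ι → F, b ∈ F ∙ a → a ≠ 0 → ∃ t, t • a = b := fun a b h _ => Submodule.mem_span_singleton.1 h
  obtain ⟨v, hv, hv0, hplane⟩ : ∃ v, RV F₀ v ∧ v ≠ 0 ∧ ∀ w, RV F₀ w → w ∈ Submodule.span F {v, v'} → w ∈ F ∙ v := by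
    by_contra hc
    push Not at hc
    have key : ∀ v, RV F₀ v → v ≠ 0 → ∃ w, RV F₀ w ∧ w ∉ F ∙ v ∧ ∃ a b : F, a • v + b • w = v' := by
      intro v hv hv0
      obtain ⟨w, hw, hwm, hwv⟩ := hc v hv hv0
      obtain ⟨a, b, hab⟩ := Submodule.mem_span_pair.1 hwm
      have hb : b ≠ 0 := by
        rintro rfl
        exact hwv (Submodule.mem_span_singleton.2 ⟨a, by rw [← hab, zero_smul, add_zero]⟩)
      refine ⟨w, hw, hwv, -(b⁻¹ * a), b⁻¹, ?_⟩
      rw [← hab, smul_add, smul_smul, smul_smul, inv_mul_cancel₀ hb, one_smul, neg_smul, neg_add_cancel_left]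
    have hne : (Pi.single i₁ (1 : F) : ι → F) ≠ 0 := fun h => by simpa using congrFun h i₁
    obtain ⟨w₁, hw₁, hw₁v, a, b, hab⟩ := key _ (rv_single i₁) hne
    obtain ⟨k, x, hk, hx, hkx, hkv, hkw⟩ := exists_rf_two (F₀ := F₀) h3 (rv_single i₁) hw₁
    have hx0 : x ≠ 0 := fun h => by simp [h] at hkx
    obtain ⟨w₂, hw₂, hw₂x, c, d, hcd⟩ := key x hx hx0
    have h0 := congrArg k hcd
    rw [← hab, map_add, map_add, map_smul, map_smul, map_smul, map_smul, hkx, hkv, hkw, smul_eq_mul, smul_eq_mul, smul_eq_mul,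
      smul_eq_mul, mul_one, mul_zero, mul_zero, add_zero] at h0
    refine hv' (w₂ - k w₂ • x) (hw₂.sub (hx.smul (hk.apply hw₂))) (Submodule.mem_span_singleton.2 ⟨d, ?_⟩)
    rw [← hcd, show c = -(d * k w₂) by linear_combination h0, smul_sub, smul_smul, neg_smul]
    abel
  set P : Submodule F (ι → F) := Submodule.span F {v, v'} with hP
  have hvP : v ∈ P := Submodule.subset_span (Or.inl rfl)
  have hv'P : v' ∈ P := Submodule.subset_span (Or.inr rfl)
  have hPdim : finrank F P ≤ 2 := by
    have h1 := finrank_range_le_card (R := F) ![v, v']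
    rwa [Set.finrank, Matrix.range_cons, Matrix.range_cons, Matrix.range_empty, Set.union_empty, Set.singleton_union, Fintype.card_fin] at h1
  -- the group acting on the plane and trivially modulo it
  let G : Subgroup ((ι → F) ≃ₗ[F] (ι → F)) :=
    { carrier := {x | x ∈ X ∧ ∀ z, x z - z ∈ P}
      mul_mem' := fun {x y} hx hy => ⟨mul_mem hx.1 hy.1, fun z => by
        rw [LinearEquiv.mul_apply, ← sub_add_sub_cancel (x (y z)) (y z) z]
        exact add_mem (hx.2 _) (hy.2 _)⟩
      one_mem' := ⟨one_mem X, fun z => by simp⟩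
      inv_mem' := fun {x} hx => ⟨inv_mem hx.1, fun z => by
        have := hx.2 (x⁻¹ z)
        rw [apply_inv] at this
        rw [← neg_sub]
        exact neg_mem this⟩ }
  -- elements of the group fixing the line of `v`
  let A : Subgroup G :=
    { carrier := {x | (x : (ι → F) ≃ₗ[F] (ι → F)) v ∈ F ∙ v}
      mul_mem' := fun {x y} hx hy => by
        obtain ⟨a, ha⟩ := Submodule.mem_span_singleton.1 hy
        show ((x : (ι → F) ≃ₗ[F] (ι → F)) * y) v ∈ F ∙ v
        rw [LinearEquiv.mul_apply, ← ha, map_smul]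
        exact Submodule.smul_mem _ _ hx
      one_mem' := Submodule.mem_span_singleton_self v
      inv_mem' := fun {x} hx => by
        obtain ⟨a, ha⟩ := Submodule.mem_span_singleton.1 hx
        have ha0 : a ≠ 0 := by
          rintro rfl
          rw [zero_smul] at ha
          exact hv0 ((x : (ι → F) ≃ₗ[F] (ι → F)).map_eq_zero_iff.1 ha.symm)
        refine Submodule.mem_span_singleton.2 ⟨a⁻¹, ?_⟩
        have h := congrArg (fun w => ((x : (ι → F) ≃ₗ[F] (ι → F))⁻¹ : (ι → F) ≃ₗ[F] (ι → F)) w) ha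
        rw [map_smul, inv_apply] at h
        conv_lhs => rw [← h]
        rw [smul_smul, inv_mul_cancel₀ ha0, one_smul]
        rfl }
  have hA : ∀ x : G, x ∈ A → ∃ f : Dual F (ι → F), RF F₀ f ∧ f v = 0 ∧ (x : (ι → F) ≃ₗ[F] (ι → F)) = tvec f v := by
    intro x hxA
    obtain ⟨c, hc, hcx⟩ := hfix _ x.2.1 v hv hv0 hxA
    set y : (ι → F) ≃ₗ[F] (ι → F) := (x : (ι → F) ≃ₗ[F] (ι → F)) with hy
    -- the scalar is rational
    have hcF : c ∈ F₀ := by
      by_contra hcF
      letI : Algebra F₀ F := F₀.toAlgebra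
      obtain ⟨σ, hσ⟩ : ∃ σ : Gal(F/F₀), σ c ≠ c := by
        by_contra! hc'
        obtain ⟨c', hc''⟩ := (IsGalois.mem_range_algebraMap_iff_fixed c).2 hc'
        exact hcF (hc'' ▸ c'.2)
      have hσ0 : ∀ a ∈ F₀, σ a = a := fun a ha => σ.commutes ⟨a, ha⟩
      let R : (ι → F) →ₗ[F] (ι → F) := c • y.toLinearMap
      have hR : ∀ z, R z = c • y z := fun z => rfl
      let Sg : (ι → F) →+ (ι → F) :=
        { toFun := fun z i => σ (z i), map_zero' := funext fun i => map_zero σ, map_add' := fun a b => funext fun i => map_add σ _ _ }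
      have hcomm : ∀ z, R (Sg z) = Sg (R z) := fun z => by
        funext i
        show R (fun k => σ (z k)) i = σ (R z i)
        conv_lhs => rw [eq_sum_single (fun k => σ (z k)), map_sum, Finset.sum_apply]
        conv_rhs => rw [eq_sum_single z, map_sum, Finset.sum_apply, map_sum]
        refine Finset.sum_congr rfl fun k _ => ?_
        rw [map_smul, map_smul, Pi.smul_apply, Pi.smul_apply, smul_eq_mul, smul_eq_mul, map_mul, hR, hσ0 _ (hcx k i)]
      let K₁ : Submodule F (ι → F) := LinearMap.ker (R - c • LinearMap.id)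
      let K₂ : Submodule F (ι → F) := LinearMap.ker (R - σ c • LinearMap.id)
      have hd1 : Fintype.card ι ≤ finrank F K₁ + 2 := by
        have h1 := LinearMap.finrank_range_add_finrank_ker (R - c • LinearMap.id)
        rw [Module.finrank_fintype_fun_eq_card] at h1
        have h2 : LinearMap.range (R - c • LinearMap.id) ≤ P := by
          rintro _ ⟨z, rfl⟩
          rw [LinearMap.sub_apply, hR, LinearMap.smul_apply, LinearMap.id_apply, ← smul_sub]
          exact P.smul_mem c (x.2.2 z)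
        have h4 := (Submodule.finrank_mono h2).trans hPdim
        have h5 : finrank F K₁ = finrank F (LinearMap.ker (R - c • LinearMap.id)) := rfl
        omega
      let b := Module.finBasis F K₁
      have hli : LinearIndependent F (Sg ∘ fun i => (b i : ι → F)) :=
        (b.linearIndependent.map' K₁.subtype K₁.ker_subtype).map_of_injective_injective σ.symm Sg
          (fun r hr => σ.symm.injective (by rw [hr, map_zero]))
          (fun m hm => funext fun i => σ.injective ((congrFun hm i).trans (map_zero σ).symm))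
          (fun r m => funext fun i => by
            show σ (σ.symm r * m i) = r * σ (m i)
            rw [map_mul, σ.apply_symm_apply])
      have hmem : ∀ i, Sg (b i) ∈ K₂ := fun i => by
        have h1 : R (b i) = c • (b i : ι → F) := sub_eq_zero.1 (b i).2
        refine LinearMap.mem_ker.2 (sub_eq_zero.2 ?_)
        rw [hcomm, h1]
        exact funext fun k => map_mul σ _ _
      have hd2 : finrank F K₁ ≤ finrank F K₂ := by
        have h1 : LinearIndependent F (fun i => (⟨Sg (b i), hmem i⟩ : K₂)) := LinearIndependent.of_comp K₂.subtype hli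
        simpa using h1.fintype_card_le_finrank
      have hdisj : K₁ ⊓ K₂ = ⊥ := eq_bot_iff.2 fun z hz => by
        obtain ⟨hz1, hz2⟩ := hz
        have e := (sub_eq_zero.1 hz1).symm.trans (sub_eq_zero.1 hz2)
        simp only [LinearMap.smul_apply, LinearMap.id_apply] at e
        by_contra hz0
        exact hσ (smul_left_injective F hz0 e).symm
      have h1 := Submodule.finrank_sup_add_finrank_inf_eq K₁ K₂
      rw [hdisj, finrank_bot] at h1
      have h2 := Submodule.finrank_le (K₁ ⊔ K₂)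
      rw [Module.finrank_fintype_fun_eq_card] at h2
      have h4 := hO.card
      rcases lt_or_eq_of_le (show 3 ≤ Fintype.card ι by omega) with hbig | hι
      swap
      · -- in dimension three there are too many eigenvalues
        obtain ⟨r, hr, hcard⟩ := hO.prime
        have hr2' := hr2 r hcard hι.symm
        have hrk : Nat.card Gal(F/F₀) = r := by
          rw [IsGalois.card_aut_eq_finrank]
          have := Module.natCard_eq_pow_finrank (K := F₀) (V := F)
          rw [Nat.card_eq_fintype_card, hcard] at this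
          exact (Nat.pow_right_injective Finite.one_lt_card this).symm
        have hσ1 : σ ≠ 1 := fun e => hσ (by rw [e]; rfl)
        have hσσ : σ (σ c) ≠ c := fun e => hσ <| by
          have hord : orderOf σ = r :=
            ((Nat.dvd_prime hr).1 (hrk ▸ orderOf_dvd_natCard σ)).resolve_left fun h => hσ1 (orderOf_eq_one_iff.1 h)
          obtain ⟨m, hm⟩ := hr.odd_of_ne_two hr2'
          have hsq : ∀ k, (σ ^ (2 * k)) c = c := fun k => by
            induction k with
            | zero => simp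
            | succ k ih =>
              rw [show 2 * (k + 1) = 2 * k + 2 by ring, pow_add, AlgEquiv.mul_apply, pow_two, AlgEquiv.mul_apply, e, ih]
          have h1 : (σ ^ r) c = c := by rw [← hord, pow_orderOf_eq_one]; rfl
          rw [hm, pow_succ', AlgEquiv.mul_apply, hsq] at h1
          exact h1
        obtain ⟨lam, hlam⟩ := Submodule.mem_span_singleton.1 hxA
        have hRv : R v = (c * lam) • v := by rw [hR, ← hlam, smul_smul]
        have hRvr : RV F₀ (R v) := by
          rw [eq_sum_single v, map_sum]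
          intro j
          rw [Finset.sum_apply]
          refine sum_mem fun i _ => ?_
          rw [map_smul]
          exact F₀.mul_mem (hv i) (hcx i j)
        have hlF : c * lam ∈ F₀ := rv_scalar hv hRvr hv0 hRv.symm
        have hK1 : K₁ ≠ ⊥ := fun e => by rw [e, finrank_bot] at hd1; omega
        obtain ⟨z, hz, hz0⟩ := Submodule.exists_mem_ne_zero_of_ne_bot hK1
        have e1 : R z = c • z := sub_eq_zero.1 hz
        have hSg0 : ∀ w, Sg w = 0 → w = 0 := fun w hw => funext fun i => σ.injective ((congrFun hw i).trans (map_zero σ).symm)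
        have hstep : ∀ (a : F) (w : ι → F), R w = a • w → R (Sg w) = σ a • Sg w := fun a w hw => by
          rw [hcomm, hw]
          exact funext fun k => map_mul σ _ _
        let μ : Fin 4 → F := ![c * lam, c, σ c, σ (σ c)]
        let E : Fin 4 → ι → F := ![v, z, Sg z, Sg (Sg z)]
        have hne : ∀ a, σ a ≠ a → c * lam ≠ a := fun a ha e => ha (by rw [← e, hσ0 _ hlF])
        have hμ : Function.Injective μ := by
          have n1 : c * lam ≠ c := hne c hσ
          have n2 : c * lam ≠ σ c := hne _ fun e => hσ (σ.injective e)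
          have n3 : c * lam ≠ σ (σ c) := hne _ fun e => hσ (σ.injective (σ.injective e))
          have n4 : σ (σ c) ≠ σ c := fun e => hσ (σ.injective e)
          intro a b h
          fin_cases a <;> fin_cases b <;> simp [μ] at h ⊢ <;>
            first
              | exact absurd h n1 | exact absurd h n2 | exact absurd h n3 | exact absurd h n4
              | exact absurd h hσ | exact absurd h hσσ
              | exact absurd h.symm n1 | exact absurd h.symm n2 | exact absurd h.symm n3 | exact absurd h.symm n4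
              | exact absurd h.symm hσ | exact absurd h.symm hσσ
        have hli := Module.End.eigenvectors_linearIndependent' R μ hμ E fun i => by
          have hz1 : Sg z ≠ 0 := fun h => hz0 (hSg0 z h)
          fin_cases i
          · exact ⟨Module.End.mem_eigenspace_iff.2 hRv, hv0⟩
          · exact ⟨Module.End.mem_eigenspace_iff.2 e1, hz0⟩
          · exact ⟨Module.End.mem_eigenspace_iff.2 (hstep _ _ e1), hz1⟩
          · exact ⟨Module.End.mem_eigenspace_iff.2 (hstep _ _ (hstep _ _ e1)), fun h => hz1 (hSg0 _ h)⟩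
        have hc4 := hli.fintype_card_le_finrank
        rw [Module.finrank_fintype_fun_eq_card, Fintype.card_fin] at hc4
        omega
      -- in dimension four the plane is the second eigenspace, which has no rational vector
      have hsup : K₁ ⊔ K₂ = ⊤ := Submodule.eq_top_of_finrank_eq (by rw [Module.finrank_fintype_fun_eq_card]; omega)
      have hrng : LinearMap.range (R - c • LinearMap.id) ≤ K₂ := by
        rintro _ ⟨z, rfl⟩
        obtain ⟨z₁, hz₁, z₂, hz₂, rfl⟩ := Submodule.mem_sup.1 (hsup ▸ Submodule.mem_top (x := z))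
        have e : (R - c • LinearMap.id : (ι → F) →ₗ[F] (ι → F)) z₂ = (σ c - c) • z₂ := by
          have e2 : R z₂ = σ c • z₂ := sub_eq_zero.1 hz₂
          show R z₂ - c • z₂ = _
          rw [e2, sub_smul]
        rw [map_add, LinearMap.mem_ker.1 hz₁, zero_add, e]
        exact K₂.smul_mem _ hz₂
      have hrP : LinearMap.range (R - c • LinearMap.id) ≤ P := by
        rintro _ ⟨z, rfl⟩
        rw [LinearMap.sub_apply, hR, LinearMap.smul_apply, LinearMap.id_apply, ← smul_sub]
        exact P.smul_mem c (x.2.2 z)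
      have h5 := LinearMap.finrank_range_add_finrank_ker (R - c • LinearMap.id)
      rw [Module.finrank_fintype_fun_eq_card] at h5
      have h6 : finrank F K₁ = finrank F (LinearMap.ker (R - c • LinearMap.id)) := rfl
      have hPr := Submodule.eq_of_le_of_finrank_le hrP (by omega)
      have hRv : R v = σ c • v := sub_eq_zero.1 (hrng (hPr ▸ hvP))
      have hSv : Sg v = v := funext fun i => hσ0 _ (hv i)
      have h7 := hcomm v
      rw [hSv, hRv] at h7
      have h8 : σ (σ c) • v = σ c • v := by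
        refine Eq.trans ?_ h7.symm
        funext i
        show σ (σ c) * v i = σ (σ c * v i)
        rw [map_mul, hσ0 _ (hv i)]
      exact hσ (σ.injective (smul_left_injective F hv0 h8))
    have hyrat : ∀ i, RV F₀ (y (Pi.single i 1)) := fun i => by
      have := (hcx i).smul (F₀.inv_mem hcF)
      rwa [smul_smul, inv_mul_cancel₀ hc, one_smul] at this
    choose d hd using fun i => Submodule.mem_span_singleton.1
      (hplane _ ((hyrat i).sub (rv_single i)) (x.2.2 (Pi.single i 1)))
    let f : Dual F (ι → F) := Fintype.linearCombination F d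
    have hfi : ∀ i, f (Pi.single i 1) = d i := fun i => by simp [f, Fintype.linearCombination_apply, Pi.single_apply]
    have hf : RF F₀ f := fun i => by
      rw [hfi]; exact rv_scalar hv ((hyrat i).sub (rv_single i)) hv0 (hd i)
    have hyz : ∀ z, y z = z + f z • v := fun z => by
      conv_lhs => rw [eq_sum_single z, map_sum]
      rw [apply_eq_sum f z, Finset.sum_smul]
      conv_rhs => arg 1; rw [eq_sum_single z]
      rw [← Finset.sum_add_distrib]
      refine Finset.sum_congr rfl fun i _ => ?_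
      rw [map_smul, hfi, ← smul_smul, ← smul_add, hd, add_sub_cancel]
    have hfv : f v = 0 := by
      have h1 := hO.det y x.2.1
      have e : y.toLinearMap = LinearMap.transvection f v := LinearMap.ext fun z => hyz z
      rwa [e, LinearMap.transvection.det, add_eq_left] at h1
    exact ⟨f, hf, hfv, LinearEquiv.ext fun z => by rw [tvec_apply hfv, hyz]⟩
  -- the moved transvection
  obtain ⟨f₀, z₀, hf₀, hz₀, hf₀z, hf₀u, -⟩ := exists_rf_two h3 hu₁ hu₁
  set t' := g * tvec f₀ u₁ * g⁻¹ with ht'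
  have ht'X : t' ∈ X := mul_mem (mul_mem hg (hO.rat f₀ u₁ hf₀ hu₁ hf₀u)) (inv_mem hg)
  have ht'z : ∀ z, t' z = z + f₀ (g⁻¹ z) • v' := fun z => by
    show g (tvec f₀ u₁ (g⁻¹ z)) = _
    rw [tvec_apply hf₀u, map_add, apply_inv, map_smul]
  have ht'G : t' ∈ G := ⟨ht'X, fun z => by rw [ht'z, add_sub_cancel_left]; exact P.smul_mem _ hv'P⟩
  have hrat : ∀ f : Dual F (ι → F), RF F₀ f → f v = 0 → tvec f v ∈ G := fun f hf hfv =>
    ⟨hO.rat f v hf hv hfv, fun z => by rw [tvec_apply hfv, add_sub_cancel_left]; exact P.smul_mem _ hvP⟩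
  -- malnormality
  have htv : ∀ f : Dual F (ι → F), f v = 0 → ∀ (hm : tvec f v ∈ G), (⟨_, hm⟩ : G) ∈ A := fun f hfv hm =>
    Submodule.mem_span_singleton.2 ⟨1, by
      show (1 : F) • v = tvec f v v
      rw [one_smul, tvec_apply hfv, hfv, zero_smul, add_zero]⟩
  haveI : Finite ((ι → F) ≃ₗ[F] (ι → F)) := Finite.of_injective (fun g => (g : (ι → F) → (ι → F))) DFunLike.coe_injective
  have hmal : ∀ x : G, x ∉ A → ∀ a ∈ A, x * a * x⁻¹ ∈ A → a = 1 := by
    intro x hx a ha hxa
    obtain ⟨f, hf, hfv, ea⟩ := hA a ha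
    obtain ⟨f', hf', hf'v, eb⟩ := hA _ hxa
    by_contra ha1
    obtain ⟨z, hz⟩ : ∃ z, f z ≠ 0 := by
      by_contra! hc
      exact ha1 (Subtype.ext (by rw [ea, show f = 0 from LinearMap.ext hc, tvec_zero_left]; rfl))
    refine hx (Submodule.mem_span_singleton.2 ⟨(f z)⁻¹ * f' ((x : (ι → F) ≃ₗ[F] (ι → F)) z), ?_⟩)
    have e := LinearEquiv.congr_fun eb ((x : (ι → F) ≃ₗ[F] (ι → F)) z)
    rw [Subgroup.coe_mul, Subgroup.coe_mul, Subgroup.coe_inv, LinearEquiv.mul_apply, LinearEquiv.mul_apply, inv_apply, ea,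
      tvec_apply hfv, map_add, map_smul, tvec_apply hf'v, add_right_inj] at e
    rw [mul_smul, ← e, smul_smul, inv_mul_cancel₀ hz, one_smul]
  obtain ⟨N, hN, hcompl, -⟩ := Cfsg.Agent.Char.frobenius_kernel A hmal
  obtain ⟨p, hp⟩ := CharP.exists F
  haveI : Fact p.Prime := ⟨CharP.char_is_prime F p⟩
  have hpow : ∀ f : Dual F (ι → F), f v = 0 → ∀ n : ℕ, tvec f v ^ n = tvec ((n : F) • f) v := fun f hfv n => by
    induction n with
    | zero => rw [pow_zero, Nat.cast_zero, zero_smul, tvec_zero_left]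
    | succ n ih =>
      rw [pow_succ, ih, tvec_mul_left (by rw [LinearMap.smul_apply, hfv, smul_zero]) hfv, Nat.cast_succ, add_smul, one_smul]
  have hexp : ∀ a : G, a ∈ A → a ^ p = 1 := fun a ha => by
    obtain ⟨f, hf, hfv, ea⟩ := hA a ha
    refine Subtype.ext ?_
    rw [SubmonoidClass.coe_pow, ea, hpow f hfv, CharP.cast_eq_zero, zero_smul, tvec_zero_left]
    rfl
  have hAp : IsPGroup p A := fun a => ⟨1, Subtype.ext (by rw [pow_one]; exact hexp a a.2)⟩
  have hnorm : ∀ x : G, x ∈ Subgroup.normalizer (A : Set G) → A ≠ ⊥ → x ∈ A := fun x hx hne => by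
    by_contra hxA
    obtain ⟨a, ha, ha1⟩ := (Subgroup.ne_bot_iff_exists_ne_one).1 hne |>.elim fun a h => (⟨a.1, a.2, fun e => h (Subtype.ext e)⟩ : ∃ a ∈ A, a ≠ 1)
    exact ha1 (hmal x hxA a ha ((Subgroup.mem_normalizer_iff.1 hx a).1 ha))
  obtain ⟨f₁, x₁, hf₁, hx₁, hf₁x, hf₁v, -⟩ := exists_rf_two h3 hv hv
  obtain ⟨f₂, x₂, hf₂, hx₂, hf₂x, hf₂v, hf₂x₁⟩ := exists_rf_two h3 hv hx₁
  set a : G := ⟨_, hrat f₁ hf₁ hf₁v⟩ with had
  set b : G := ⟨_, hrat f₂ hf₂ hf₂v⟩ with hbd
  have haA : a ∈ A := htv f₁ hf₁v _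
  have hbA : b ∈ A := htv f₂ hf₂v _
  have hne1 : ∀ f : Dual F (ι → F), f v = 0 → f ≠ 0 → tvec f v ≠ 1 := fun f hfv hf0 e => by
    refine hf0 (LinearMap.ext fun z => ?_)
    have := LinearEquiv.congr_fun e z
    rw [tvec_apply hfv] at this
    exact smul_left_injective F hv0 (show f z • v = (0 : F) • v by rw [zero_smul]; exact add_eq_left.1 this)
  have ha1 : a ≠ 1 := fun e => hne1 f₁ hf₁v (fun h => by simp [h] at hf₁x) (congrArg Subtype.val e)
  have hAbot : A ≠ ⊥ := fun h => ha1 (by rwa [h, Subgroup.mem_bot] at haA)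
  obtain ⟨k, hk⟩ := IsPGroup.iff_card.1 hAp
  have hndvd : ¬ p ∣ Nat.card N := fun hd => by
    have hdvd : p ^ (k + 1) ∣ Nat.card G := by
      rw [← hcompl.card_mul, hk, pow_succ, mul_comm]
      exact Nat.mul_dvd_mul hd dvd_rfl
    have h1 := Sylow.prime_dvd_card_quotient_normalizer hdvd hk
    have h2 : A.comap (Subgroup.normalizer (A : Set G)).subtype = ⊤ :=
      eq_top_iff.2 fun x _ => hnorm x x.2 hAbot
    rw [h2] at h1
    have : Nat.card (Subgroup.normalizer (A : Set G) ⧸ (⊤ : Subgroup (Subgroup.normalizer (A : Set G)))) = 1 :=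
      Subgroup.index_top
    rw [this] at h1
    exact (Fact.out : p.Prime).not_dvd_one h1
  have hcA : (Subgroup.closure {a, b} : Subgroup G) ≤ A := by
    rw [Subgroup.closure_le]
    rintro y (rfl | rfl) <;> assumption
  have hab : Commute a b := Subtype.ext (by
    show tvec f₁ v * tvec f₂ v = tvec f₂ v * tvec f₁ v
    rw [tvec_mul_left hf₁v hf₂v, tvec_mul_left hf₂v hf₁v, add_comm])
  have hcent : ∀ c : G, c ∈ A → c ≠ 1 → N ⊓ Subgroup.centralizer {c} ≤ ⊥ := by
    rintro c hcA' hc1 n ⟨hnN, hnc⟩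
    by_cases hnA : n ∈ A
    · exact (hcompl.disjoint).le_bot ⟨hnN, hnA⟩
    · refine absurd (hmal n hnA c hcA' ?_) hc1
      rw [← Subgroup.mem_centralizer_iff.1 hnc c rfl, mul_inv_cancel_right]
      exact hcA'
  have hNbot : N ≤ ⊥ := by
    have hnor : Subgroup.normalizer (N : Set G) = ⊤ := Subgroup.normalizer_eq_top_iff.2 hN
    refine Cfsg.Agent.Coprime.le_of_centralizers_le hab (hnor ▸ Subgroup.mem_top _) (hnor ▸ Subgroup.mem_top _)
      (Fact.out : p.Prime) (by rw [hexp a haA]; exact one_mem _) (by rw [hexp b hbA]; exact one_mem _)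
      ((Fact.out : p.Prime).coprime_iff_not_dvd.2 hndvd) ?_ (hcent a haA ha1) (fun j => hcent _ (mul_mem (pow_mem haA j) hbA) ?_)
    · refine Nat.Coprime.coprime_dvd_left (Subgroup.card_dvd_of_le hcA) ?_
      rw [hk]
      exact Nat.Coprime.pow_left k ((Fact.out : p.Prime).coprime_iff_not_dvd.2 hndvd)
    · intro e
      have e' : tvec f₁ v ^ j * tvec f₂ v = 1 := congrArg Subtype.val e
      rw [hpow f₁ hf₁v, tvec_mul_left (by rw [LinearMap.smul_apply, hf₁v, smul_zero]) hf₂v] at e'
      refine hne1 ((j : F) • f₁ + f₂) (by simp [hf₁v, hf₂v]) (fun h0 => ?_) e'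
      have h1 := LinearMap.congr_fun h0 x₁
      have h2 := LinearMap.congr_fun h0 x₂
      simp only [LinearMap.add_apply, LinearMap.smul_apply, hf₁x, hf₂x₁, hf₂x, smul_eq_mul, LinearMap.zero_apply, mul_one, add_zero] at h1 h2
      rw [h1, zero_mul, zero_add] at h2
      exact one_ne_zero h2
  have hAtop : A = ⊤ := by
    have h1 := hcompl.sup_eq_top
    rwa [le_bot_iff.1 hNbot, bot_sup_eq] at h1
  have hmem : (⟨t', ht'G⟩ : G) ∈ A := hAtop ▸ Subgroup.mem_top _
  obtain ⟨f, hf, hfv, e⟩ := hA _ hmem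
  have e1 := LinearEquiv.congr_fun e (g z₀)
  rw [ht'z, inv_apply, hf₀z, one_smul, tvec_apply hfv, add_right_inj] at e1
  exact hv' v hv (Submodule.mem_span_singleton.2 ⟨_, e1.symm⟩)

end Over

end Cfsg.Agent.ClassicalMax.Subfield
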