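import Cfsg.Agent.ClassicalMax.Unitary

/-!
Singular pairing when twice the number of constraints plus two is at most the dimension.
-/

set_option autoImplicit false

namespace Cfsg.Agent.ClassicalMax.Unitary

open Cfsg.Agent.Classical Module

variable {F V : Type*} [Field F] [AddCommGroup V] [Module F V] {σ : F →+* F} {B : V →ₛₗ[σ] V →ₗ[F] F}
  [Finite F] [FiniteDimensional F V] (hB : Herm.IsHerm B)
include hB

/-- a half-dimensional subspace with a further vector orthogonal to it is not totally isotropic -/
lemma exists_aniso_of_perp (W : Submodule F V) (hW : finrank F V ≤ 2 * finrank F W) {x : V} (hx : x ∉ W)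
    (hxW : ∀ w ∈ W, B w x = 0) : ∃ w ∈ W, B w w ≠ 0 := by
  refine Herm.exists_anisotropic hB W ?_
  by_contra! hc
  let b := Module.finBasis F W
  let T : V →ₗ[F] (Fin (finrank F W) → F) := LinearMap.pi fun i => B (b i : V)
  have hker : W < LinearMap.ker T := by
    refine SetLike.lt_iff_le_and_exists.2 ⟨fun w hw => ?_, x, ?_, hx⟩
    · rw [LinearMap.mem_ker]; ext i; exact hc _ (b i).2 w hw
    · rw [LinearMap.mem_ker]; ext i; exact hxW _ (b i).2
  have hsurj : LinearMap.range T = ⊤ := by
    by_contra hne
    obtain ⟨φ, hφ, hle⟩ := (LinearMap.range T).exists_le_ker_of_lt_top (lt_top_iff_ne_top.2 hne)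
    refine hφ (LinearMap.ext fun c => ?_)
    have key : ∀ x, φ (T x) = 0 := fun x => LinearMap.mem_ker.1 (hle ⟨x, rfl⟩)
    have hz : ∑ i, σ (φ (Pi.single i 1)) • (b i : V) = 0 := hB.nondeg _ fun y => by
      have := key y
      rw [pi_eq_sum_univ' (T y), map_sum] at this
      simp only [map_smul, smul_eq_mul] at this
      simp only [map_sum, map_smulₛₗ, LinearMap.sum_apply, LinearMap.smul_apply, smul_eq_mul, hB.invol]
      rw [← this]
      exact Finset.sum_congr rfl fun i _ => mul_comm _ _
    have hli := Fintype.linearIndependent_iff.1 (b.linearIndependent.map' W.subtype W.ker_subtype) _ hz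
    rw [pi_eq_sum_univ' c, map_sum, LinearMap.zero_apply]
    refine Finset.sum_eq_zero fun i _ => ?_
    rw [map_smul, show φ (Pi.single i 1) = 0 from (map_eq_zero σ).1 (hli i), smul_zero]
  have h1 := T.finrank_range_add_finrank_ker
  have h2 := Submodule.finrank_lt_finrank_of_lt hker
  rw [hsurj, finrank_top, Module.finrank_fin_fun] at h1
  omega

lemma exists_singular_pairing_le (l : List V) (hl : 2 * l.length + 2 ≤ finrank F V) {a : V}
    (ha : a ∉ Submodule.span F {x | x ∈ l}) (c : F) : ∃ u ∈ perp B l, B u u = 0 ∧ B a u = c := by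
  obtain ⟨k, hk, hk'⟩ := exists_perp hB ha
  have hk1 : c • k ∈ perp B l := Submodule.smul_mem _ _ (mem_perp.2 fun s hs => hk s (Submodule.subset_span hs))
  have hak : B a (c • k) = c := by rw [map_smul, hk', smul_eq_mul, mul_one]
  by_cases hin : a ∈ perp B (a :: l)
  · -- the vector is isotropic and orthogonal to the list
    rcases eq_or_ne c 0 with rfl | hc
    · exact ⟨0, Submodule.zero_mem _, by simp, map_zero _⟩
    obtain ⟨τ, hτ⟩ := Herm.exists_trace hB.toIsInvol (a := -B (c • k) (c • k)) (by rw [map_neg, Herm.fix_self hB])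
    have haa : B a a = 0 := hin.2
    have hka : B (c • k) a = σ c := by rw [← hB.symm, hak]
    refine ⟨c • k + (τ / σ c) • a, Submodule.add_mem _ hk1 (Submodule.smul_mem _ _ hin.1), ?_, ?_⟩
    · generalize c • k = z at hak hka hτ ⊢
      simp only [map_add, map_smulₛₗ, LinearMap.add_apply, LinearMap.smul_apply, smul_eq_mul, RingHom.id_apply, hak, hka, haa,
        map_div₀, hB.invol]
      have hσc : σ c ≠ 0 := (map_ne_zero σ).2 hc
      field_simp
      linear_combination (c * σ c) * hτ
    · rw [map_add, hak, (B a).map_smul, haa, smul_zero, add_zero]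
  obtain ⟨y, hy, hQy⟩ := exists_aniso_of_perp hB (perp B (a :: l))
    (by have := finrank_perp (B := B) (a :: l); simp only [List.length_cons] at this; omega) (x := a) hin
    (fun w hw => (Herm.eq_zero_comm hB).1 hw.2)
  set β := B y (c • k) with hβ
  set γ := B y y with hγ
  have hγσ : σ γ = γ := Herm.fix_self hB y
  obtain ⟨s, hs⟩ := Herm.exists_norm hB.toIsInvol
    (a := β * σ β / (γ * γ) - B (c • k) (c • k) / γ) (by
      rw [map_sub, map_div₀, map_div₀, map_mul, map_mul, hB.invol, hγσ, Herm.fix_self hB, mul_comm (σ β) β])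
  refine ⟨c • k + (s - β / γ) • y, Submodule.add_mem _ hk1 (Submodule.smul_mem _ _ hy.1), ?_, ?_⟩
  · have e2 : B (c • k) y = σ β := (hB.symm _ _).symm
    have e3 : B (c • k + (s - β / γ) • y) (c • k + (s - β / γ) • y) =
        B (c • k) (c • k) + (s - β / γ) * σ β + σ (s - β / γ) * β + σ (s - β / γ) * (s - β / γ) * γ := by
      generalize s - β / γ = t
      generalize c • k = z at e2 hβ ⊢
      simp only [map_add, map_smulₛₗ, LinearMap.add_apply, LinearMap.smul_apply, smul_eq_mul, e2, ← hβ, ← hγ,
        RingHom.id_apply]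
      ring
    rw [e3, map_sub, map_div₀, hγσ]
    field_simp at hs ⊢
    linear_combination hs
  · rw [map_add, hak, (B a).map_smul, show B a y = 0 from hy.2, smul_zero, add_zero]

end Cfsg.Agent.ClassicalMax.Unitary
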