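import Cfsg.Agent.ClassicalMax.Subfield.Generic

/-!
Overgroups of subfield groups of orthogonal type: the root elements have a totally singular plane as image.

The form `h` is symmetric with respect to an involution `τ` fixing the subfield (the identity for orthogonal groups,
the unitary involution for an orthogonal group inside a unitary one), `sg` is the set of singular vectors.
-/

set_option autoImplicit false
set_option linter.unusedSectionVars false
set_option linter.style.haveILetI false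

namespace Cfsg.Agent.ClassicalMax.Subfield.Root

open Module

section Element

variable {F V : Type*} [Field F] [AddCommGroup V] [Module F V] {τ : F →+* F} (h : V →ₛₗ[τ] V →ₗ[F] F)

/-- total root element of a totally isotropic pair -/
noncomputable def rt (u v : V) (l : F) : V ≃ₗ[F] V :=
  haveI := _root_.Classical.propDecidable (h u u = 0 ∧ h v v = 0 ∧ h u v = 0 ∧ h v u = 0)
  if hc : h u u = 0 ∧ h v v = 0 ∧ h u v = 0 ∧ h v u = 0 then
    { toFun := fun x => x + (l * h v x) • u - (τ l * h u x) • v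
      invFun := fun x => x - (l * h v x) • u + (τ l * h u x) • v
      map_add' := fun x y => by simp only [map_add, mul_add, add_smul]; abel
      map_smul' := fun a x => by
        simp only [map_smul, smul_eq_mul, RingHom.id_apply, smul_add, smul_sub, smul_smul]
        ring_nf
      left_inv := fun x => by
        simp [hc.1, hc.2.1, hc.2.2.1, hc.2.2.2]
        module
      right_inv := fun x => by
        simp [hc.1, hc.2.1, hc.2.2.1, hc.2.2.2]
        module }
  else 1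

variable {h}

theorem rt_apply {u v : V} (hu : h u u = 0) (hv : h v v = 0) (huv : h u v = 0) (hvu : h v u = 0) (l : F) (x : V) :
    rt h u v l x = x + (l * h v x) • u - (τ l * h u x) • v := by
  rw [rt, dif_pos ⟨hu, hv, huv, hvu⟩]
  rfl

theorem rt_inv {u v : V} (hu : h u u = 0) (hv : h v v = 0) (huv : h u v = 0) (hvu : h v u = 0) (l : F) :
    (rt h u v l)⁻¹ = rt h u v (-l) :=
  inv_eq_of_mul_eq_one_right (LinearEquiv.ext fun x => by
    rw [LinearEquiv.mul_apply, rt_apply hu hv huv hvu, rt_apply hu hv huv hvu]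
    simp [hu, hv, huv, hvu]
    show _ = x
    module)

theorem rt_conj {g : V ≃ₗ[F] V} (hg : ∀ a b, h (g a) (g b) = h a b) {u v : V} (hu : h u u = 0) (hv : h v v = 0)
    (huv : h u v = 0) (hvu : h v u = 0) (l : F) : g * rt h u v l * g⁻¹ = rt h (g u) (g v) l :=
  LinearEquiv.ext fun x => by
    have e : ∀ z, h z (g⁻¹ x) = h (g z) x := fun z => by rw [← hg z (g⁻¹ x), apply_inv]
    rw [LinearEquiv.mul_apply, LinearEquiv.mul_apply, rt_apply hu hv huv hvu, rt_apply (by rw [hg, hu]) (by rw [hg, hv])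
      (by rw [hg, huv]) (by rw [hg, hvu]), map_sub, map_add, map_smul, map_smul, apply_inv, e, e]

theorem rt_comm (hinv : ∀ a, τ (τ a) = a) {u v : V} (hu : h u u = 0) (hv : h v v = 0) (huv : h u v = 0) (hvu : h v u = 0)
    (l : F) : rt h u v l = rt h v u (-τ l) :=
  LinearEquiv.ext fun x => by
    rw [rt_apply hu hv huv hvu, rt_apply hv hu hvu huv, map_neg, hinv]
    module

theorem rt_smul_left {u v : V} (hu : h u u = 0) (hv : h v v = 0) (huv : h u v = 0) (hvu : h v u = 0) (a l : F) :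
    rt h (a • u) v l = rt h u v (a * l) :=
  LinearEquiv.ext fun x => by
    rw [rt_apply hu hv huv hvu, rt_apply (by simp [hu]) hv (by simp [huv]) (by simp [hvu])]
    simp only [map_smulₛₗ, LinearMap.smul_apply, smul_eq_mul, smul_smul, map_mul]
    ring_nf

theorem rt_smul_right (hinv : ∀ a, τ (τ a) = a) {u v : V} (hu : h u u = 0) (hv : h v v = 0) (huv : h u v = 0)
    (hvu : h v u = 0) (a l : F) : rt h u (a • v) l = rt h u v (τ a * l) :=
  LinearEquiv.ext fun x => by
    rw [rt_apply hu hv huv hvu, rt_apply hu (by simp [hv]) (by simp [huv]) (by simp [hvu])]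
    simp only [map_smulₛₗ, LinearMap.smul_apply, smul_eq_mul, smul_smul, map_mul, hinv]
    ring_nf

theorem rt_zero_right {u : V} (hu : h u u = 0) (l : F) : rt h u 0 l = 1 :=
  LinearEquiv.ext fun x => by rw [rt_apply hu (by simp) (by simp) (by simp)]; simp

theorem rt_add_left {u w v : V} (hu : h u u = 0) (hw : h w w = 0) (hv : h v v = 0) (huv : h u v = 0) (hvu : h v u = 0)
    (hwv : h w v = 0) (hvw : h v w = 0) (huw : h u w = 0) (hwu : h w u = 0) (l : F) :
    rt h (u + w) v l = rt h u v l * rt h w v l :=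
  LinearEquiv.ext fun x => by
    rw [LinearEquiv.mul_apply, rt_apply hu hv huv hvu, rt_apply hw hv hwv hvw,
      rt_apply (by simp [hu, hw, huw, hwu]) hv (by simp [huv, hwv]) (by simp [hvu, hvw])]
    simp [huv, hvu, hwv, hvw, hv, huw]
    module

theorem rt_add_right {u v w : V} (hu : h u u = 0) (hv : h v v = 0) (hw : h w w = 0) (hvv : h (v + w) (v + w) = 0)
    (huv : h u v = 0) (hvu : h v u = 0) (huw : h u w = 0) (hwu : h w u = 0) {κ : F} (hκ : κ - τ κ = h v w) :
    rt h u (v + w) 1 = rt h u v 1 * rt h u w 1 * rt h u u κ :=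
  LinearEquiv.ext fun x => by
    rw [LinearEquiv.mul_apply, LinearEquiv.mul_apply, rt_apply hu hvv (by simp [huv, huw]) (by simp [hvu, hwu]),
      rt_apply hu hu hu hu, rt_apply hu hv huv hvu, rt_apply hu hw huw hwu]
    simp [huv, hvu, huw, hwu, hu, map_one]
    rw [← hκ]
    module

theorem rt_add_scalar {u v : V} (hu : h u u = 0) (hv : h v v = 0) (huv : h u v = 0) (hvu : h v u = 0) (a b : F) :
    rt h u v (a + b) = rt h u v a * rt h u v b :=
  LinearEquiv.ext fun x => by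
    rw [LinearEquiv.mul_apply, rt_apply hu hv huv hvu, rt_apply hu hv huv hvu, rt_apply hu hv huv hvu]
    simp [huv, hvu, hu, hv]
    module

end Element

section Frob

variable {ι : Type} [Fintype ι] [DecidableEq ι] {F : Type*} [Field F] [Fintype F] (F₀ : Subfield F)

/-- the Frobenius map over the subfield on coordinates -/
noncomputable def frob (v : ι → F) : ι → F := fun i => v i ^ Nat.card F₀

variable {F₀}

theorem frob_add (u v : ι → F) : frob F₀ (u + v) = frob F₀ u + frob F₀ v := by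
  haveI : Fintype F₀ := Fintype.ofFinite F₀
  funext i
  have := map_add (FiniteField.frobeniusAlgHom F₀ F) (u i) (v i)
  simpa [frob, Nat.card_eq_fintype_card] using this

theorem frob_smul (a : F) (v : ι → F) : frob F₀ (a • v) = a ^ Nat.card F₀ • frob F₀ v :=
  funext fun i => mul_pow a (v i) _

theorem frob_zero : frob F₀ (0 : ι → F) = 0 := funext fun _ => zero_pow Nat.card_pos.ne'

theorem rv_iff_frob {v : ι → F} : RV F₀ v ↔ frob F₀ v = v := by
  haveI : Fintype F₀ := Fintype.ofFinite F₀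
  have key : ∀ a : F, a ∈ F₀ ↔ a ^ Nat.card F₀ = a := fun a => by
    rw [Nat.card_eq_fintype_card]
    constructor
    · exact fun ha => congrArg Subtype.val (FiniteField.pow_card (⟨a, ha⟩ : F₀))
    · intro ha
      letI : Algebra F₀ F := F₀.toAlgebra
      obtain ⟨c, hc⟩ := (IsGalois.mem_range_algebraMap_iff_fixed a).2 (fun σ : Gal(F/F₀) => by
        obtain ⟨i, rfl⟩ := (FiniteField.bijective_frobeniusAlgEquivOfAlgebraic_pow F₀ F).2 σ
        show (FiniteField.frobeniusAlgEquivOfAlgebraic F₀ F ^ (i : ℕ)) a = a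
        rw [AlgEquiv.coe_pow]
        exact Function.IsFixedPt.iterate (f := ⇑(FiniteField.frobeniusAlgEquivOfAlgebraic F₀ F)) ha i)
      exact hc ▸ c.2
  exact ⟨fun hv => funext fun i => (key _).1 (hv i), fun e i => (key _).2 (congrFun e i)⟩

theorem frob_mem_span {s : Set (ι → F)} (hs : ∀ x ∈ s, RV F₀ x) {z : ι → F} (hz : z ∈ Submodule.span F s) :
    frob F₀ z ∈ Submodule.span F s := by
  induction hz using Submodule.span_induction with
  | mem x hx => rw [rv_iff_frob.1 (hs x hx)]; exact Submodule.subset_span hx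
  | zero => rw [frob_zero]; exact zero_mem _
  | add a b _ _ ha hb => rw [frob_add]; exact add_mem ha hb
  | smul c a _ ha => rw [frob_smul]; exact Submodule.smul_mem _ _ ha

theorem rv_of_decomp {sW sU : Set (ι → F)} (hsW : ∀ x ∈ sW, RV F₀ x) (hsU : ∀ x ∈ sU, RV F₀ x)
    (hdisj : ∀ z ∈ Submodule.span F sW, z ∈ Submodule.span F sU → z = 0) {x w π : ι → F} (hx : RV F₀ x)
    (hw : w ∈ Submodule.span F sW) (hπ : π ∈ Submodule.span F sU) (e : x = w + π) : RV F₀ π := by
  have h1 : frob F₀ w + frob F₀ π = w + π := by rw [← frob_add, ← e, rv_iff_frob.1 hx]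
  have h2 : frob F₀ w - w = π - frob F₀ π := by linear_combination (norm := abel_nf) h1
  have h3 := hdisj _ (sub_mem (frob_mem_span hsW hw) hw) (h2 ▸ sub_mem hπ (frob_mem_span hsU hπ))
  rw [h2, sub_eq_zero] at h3
  exact rv_iff_frob.2 h3.symm

theorem line_of_inter {s₁ s₂ : Set (ι → F)} (h₁ : ∀ x ∈ s₁, RV F₀ x) (h₂ : ∀ x ∈ s₂, RV F₀ x) {a : ι → F} (ha0 : a ≠ 0)
    (ha₁ : a ∈ Submodule.span F s₁) (ha₂ : a ∈ Submodule.span F s₂)
    (hint : ∀ z ∈ Submodule.span F s₁, z ∈ Submodule.span F s₂ → z ∈ F ∙ a) : ∃ w, RV F₀ w ∧ a ∈ F ∙ w := by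
  obtain ⟨i, hi⟩ : ∃ i, a i ≠ 0 := by by_contra! hc; exact ha0 (funext hc)
  obtain ⟨c, hc⟩ := Submodule.mem_span_singleton.1 (hint _ (frob_mem_span h₁ ha₁) (frob_mem_span h₂ ha₂))
  refine ⟨(a i)⁻¹ • a, rv_iff_frob.2 ?_, Submodule.mem_span_singleton.2 ⟨a i, by
    rw [smul_smul, mul_inv_cancel₀ hi, one_smul]⟩⟩
  have h1 : frob F₀ ((a i)⁻¹ • a) = ((a i)⁻¹ ^ Nat.card F₀ * c) • a := by rw [frob_smul, ← hc, smul_smul]
  have h2 := congrFun h1 i
  simp only [frob, Pi.smul_apply, smul_eq_mul, inv_mul_cancel₀ hi, one_pow] at h2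
  rw [h1]
  congr 1
  field_simp at h2 ⊢
  linear_combination -h2

theorem rat_inter {s t : Set (ι → F)} (hs : ∀ x ∈ s, RV F₀ x) (ht : ∀ x ∈ t, RV F₀ x) {π : ι → F}
    (h₁ : π ∈ Submodule.span F s) (h₂ : π ∈ Submodule.span F t) :
    π ∈ Submodule.span F {z | RV F₀ z ∧ z ∈ Submodule.span F s ∧ z ∈ Submodule.span F t} := by
  let ω := Module.finBasis F₀ F
  let φ : Fin (finrank F₀ F) → F → F := fun k a => ((ω.repr a k : F₀) : F)
  have hmul : ∀ (k : Fin (finrank F₀ F)) (a b : F), b ∈ F₀ → φ k (a * b) = φ k a * b := fun k a b hb => by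
    show ((ω.repr (a * b) k : F₀) : F) = _
    rw [show a * b = (⟨b, hb⟩ : F₀) • a from (mul_comm a b).trans rfl, map_smul, Finsupp.smul_apply, smul_eq_mul]
    exact mul_comm _ _
  have key : ∀ {r : Set (ι → F)}, (∀ x ∈ r, RV F₀ x) → ∀ (k : Fin (finrank F₀ F)) {z : ι → F},
      z ∈ Submodule.span F r → (fun i => φ k (z i)) ∈ Submodule.span F r := by
    intro r hr k z hz
    obtain ⟨c, hc⟩ := Finsupp.mem_span_iff_linearCombination _ _ _ |>.1 hz
    have e : (fun i => φ k (z i)) = ∑ x ∈ c.support, φ k (c x) • (x : ι → F) := by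
      funext i
      rw [← hc, Finsupp.linearCombination_apply, Finsupp.sum, Finset.sum_apply, Finset.sum_apply]
      show ((ω.repr (∑ x ∈ c.support, c x * (x : ι → F) i) k : F₀) : F) = _
      rw [map_sum, Finsupp.coe_finsetSum, Finset.sum_apply, AddSubmonoidClass.coe_finsetSum]
      exact Finset.sum_congr rfl fun x _ => hmul k (c x) _ (hr x x.2 i)
    rw [e]
    exact Submodule.sum_mem _ fun x _ => Submodule.smul_mem _ _ (Submodule.subset_span x.2)
  have e : π = ∑ k, ω k • (fun i => φ k (π i)) := funext fun i => by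
    rw [Finset.sum_apply]
    conv_lhs => rw [← ω.sum_repr (π i)]
    exact Finset.sum_congr rfl fun k _ => mul_comm _ _
  rw [e]
  exact Submodule.sum_mem _ fun k _ => Submodule.smul_mem _ _
    (Submodule.subset_span ⟨fun i => (ω.repr (π i) k : F₀).2, key hs k h₁, key ht k h₂⟩)

theorem finrank_inf_sup_le (A B C : Submodule F (ι → F)) :
    finrank F (A ⊓ (B ⊔ C) : Submodule F (ι → F)) ≤ finrank F (A ⊓ B : Submodule F (ι → F)) + finrank F C := by
  set I := A ⊓ (B ⊔ C) with hI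
  have h1 := Submodule.finrank_sup_add_finrank_inf_eq I B
  have h2 : finrank F (I ⊔ B : Submodule F (ι → F)) ≤ finrank F B + finrank F C :=
    (Submodule.finrank_mono (sup_le inf_le_right le_sup_left)).trans (Submodule.finrank_add_le_finrank_add_finrank B C)
  have h3 : I ⊓ B = A ⊓ B := by
    rw [hI, inf_assoc, inf_eq_right.2 (le_sup_left : B ≤ B ⊔ C)]
  rw [h3] at h1
  omega

theorem span_range_append {a b : ℕ} (f : Fin a → ι → F) (g : Fin b → ι → F) :
    Submodule.span F (Set.range (Fin.append f g)) = Submodule.span F (Set.range f) ⊔ Submodule.span F (Set.range g) := by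
  rw [← Submodule.span_union]
  congr 1
  ext x
  constructor
  · rintro ⟨j, rfl⟩
    refine Fin.addCases (fun i => ?_) (fun i => ?_) j
    · exact Or.inl ⟨i, (Fin.append_left f g i).symm⟩
    · exact Or.inr ⟨i, (Fin.append_right f g i).symm⟩
  · rintro (⟨i, rfl⟩ | ⟨i, rfl⟩)
    · exact ⟨_, Fin.append_left f g i⟩
    · exact ⟨_, Fin.append_right f g i⟩

end Frob

variable {ι : Type} [Fintype ι] [DecidableEq ι] {F : Type*} [Field F] [Fintype F] {τ : F →+* F}

/-- the hypotheses on the group -/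
structure OverR (F₀ : Subfield F) (h : (ι → F) →ₛₗ[τ] (ι → F) →ₗ[F] F) (sg : (ι → F) → Prop)
    (X : Subgroup ((ι → F) ≃ₗ[F] (ι → F))) : Prop where
  invol : ∀ a, τ (τ a) = a
  fix0 : ∀ a ∈ F₀, τ a = a
  symm : ∀ a b, τ (h a b) = h b a
  nd : ∀ x, (∀ y, h x y = 0) → x = 0
  form : ∀ u v : ι → F, RV F₀ u → RV F₀ v → h u v ∈ F₀
  sg_zero : sg 0
  sg_iso : ∀ v, sg v → h v v = 0
  sg_smul : ∀ v (a : F), sg v → sg (a • v)
  sg_add : ∀ u v, sg u → sg v → h u v = 0 → sg (u + v)
  sg_map : ∀ x ∈ X, ∀ v, sg v → sg (x v)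
  shift : ∀ u : ι → F, RV F₀ u → ∃ c ∈ F₀, ∀ s, RV F₀ s → sg s → h u s = c → sg (u + s)
  pairing : ∀ (k : ℕ) (p : Fin k → ι → F), (∀ i, RV F₀ (p i)) → 2 * k + 4 ≤ Fintype.card ι → ∀ x : ι → F, RV F₀ x →
    x ∉ Submodule.span F (Set.range p) → ∀ c ∈ F₀, ∃ y, RV F₀ y ∧ sg y ∧ h x y = c ∧ ∀ i, h (p i) y = 0
  card : 8 ≤ Fintype.card ι
  low : 10 ≤ Fintype.card ι ∨ ((∀ a, τ a = a) ∧
    (∀ (v k : ι → F) (β : F), RV F₀ v → RV F₀ k → sg v → h k v = 1 → sg (k + β • v) → β ∈ F₀) ∧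
    ∀ x ∈ X, Ratty F₀ x → ∀ z : ι → F, RV F₀ z → RV F₀ (x z))
  prime : ∃ r : ℕ, r.Prime ∧ Fintype.card F = Nat.card F₀ ^ r
  iso : ∀ x ∈ X, ∀ a b, h (x a) (x b) = h a b
  rat : ∀ u v : ι → F, RV F₀ u → RV F₀ v → sg u → sg v → h u v = 0 → rt h u v 1 ∈ X

namespace OverR

theorem mem_of_eq_zero {S : Submodule F (ι → F)} {z : ι → F} (e : z = 0) : z ∈ S := e ▸ S.zero_mem

variable {F₀ : Subfield F} {h : (ι → F) →ₛₗ[τ] (ι → F) →ₗ[F] F} {sg : (ι → F) → Prop}
  {X : Subgroup ((ι → F) ≃ₗ[F] (ι → F))}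

theorem swap (hO : OverR F₀ h sg X) {u v : ι → F} (e : h u v = 0) : h v u = 0 := by
  rw [← hO.symm u v, e, map_zero]

theorem swap1 (hO : OverR F₀ h sg X) {u v : ι → F} (e : h u v = 1) : h v u = 1 := by
  rw [← hO.symm u v, e, map_one]

theorem mem2 {a b x : ι → F} : x ∈ Submodule.span F (Set.range ![a, b]) ↔ ∃ s t : F, s • a + t • b = x := by
  rw [Submodule.mem_span_range_iff_exists_fun]
  constructor
  · rintro ⟨c, hc⟩
    exact ⟨c 0, c 1, by rw [← hc, Fin.sum_univ_two]; rfl⟩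
  · rintro ⟨s, t, h⟩
    exact ⟨![s, t], by rw [← h, Fin.sum_univ_two]; rfl⟩

theorem mem3 {a b c x : ι → F} :
    x ∈ Submodule.span F (Set.range ![a, b, c]) ↔ ∃ s t r : F, s • a + t • b + r • c = x := by
  rw [Submodule.mem_span_range_iff_exists_fun]
  constructor
  · rintro ⟨f, hf⟩
    exact ⟨f 0, f 1, f 2, by rw [← hf, Fin.sum_univ_three]; rfl⟩
  · rintro ⟨s, t, r, e⟩
    exact ⟨![s, t, r], by rw [← e, Fin.sum_univ_three]; rfl⟩

theorem mem1 {a x : ι → F} : x ∈ Submodule.span F (Set.range ![a]) ↔ x ∈ F ∙ a := by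
  rw [Matrix.range_cons, Matrix.range_empty, Set.union_empty]

theorem h_span_eq_zero (hO : OverR F₀ h sg X) {z : ι → F} (hz : ∀ i, h (Pi.single i 1) z = 0) : z = 0 :=
  hO.nd _ fun y => hO.swap (by
    rw [eq_sum_single y]
    simp [map_sum, LinearMap.sum_apply, hz])

theorem rv_of_forms (hO : OverR F₀ h sg X) {k : ι → F} (hk : ∀ i, h (Pi.single i 1) k ∈ F₀) : RV F₀ k := by
  haveI : Fintype F₀ := Fintype.ofFinite F₀
  let L : (ι → F₀) →ₗ[F₀] (ι → F₀) :=
    { toFun := fun y i => ⟨h (Pi.single i 1) (fun j => (y j : F)), hO.form _ _ (rv_single i) (fun j => (y j).2)⟩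
      map_add' := fun a b => funext fun i => Subtype.ext (by
        show h (Pi.single i 1) (fun j => ((a + b) j : F)) = h _ _ + h _ _
        rw [← map_add]
        rfl)
      map_smul' := fun a b => funext fun i => Subtype.ext (by
        show h (Pi.single i 1) (fun j => ((a • b) j : F)) = (a : F) * h _ _
        rw [← smul_eq_mul, ← map_smul]
        rfl) }
  have hinj : Function.Injective L := (injective_iff_map_eq_zero L).2 fun y hy => by
    have h0 : (fun j => (y j : F)) = 0 := hO.h_span_eq_zero fun i => congrArg Subtype.val (congrFun hy i)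
    exact funext fun j => Subtype.ext (congrFun h0 j)
  obtain ⟨y, hy⟩ := LinearMap.surjective_of_injective hinj (fun i => ⟨h (Pi.single i 1) k, hk i⟩)
  have : k = fun j => (y j : F) := sub_eq_zero.1 (hO.h_span_eq_zero fun i => by
    rw [map_sub, show h (Pi.single i 1) (fun j => (y j : F)) = h (Pi.single i 1) k from congrArg Subtype.val (congrFun hy i),
      sub_self])
  rw [this]
  exact fun j => (y j).2

theorem exists_sep (hO : OverR F₀ h sg X) {a b : ι → F} (hb : b ∉ F ∙ a) : ∃ z, h a z = 0 ∧ h b z = 1 := by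
  let Λ : (ι → F) →ₗ[F] (ι → F) := LinearMap.pi fun i => h (Pi.single i 1)
  have hinj : Function.Injective Λ := (injective_iff_map_eq_zero Λ).2 fun z hz =>
    hO.h_span_eq_zero fun i => congrFun hz i
  let σa : (ι → F) := fun i => τ (a i)
  let σb : (ι → F) := fun i => τ (b i)
  have hσ : σb ∉ F ∙ σa := fun hm => by
    obtain ⟨c, hc⟩ := Submodule.mem_span_singleton.1 hm
    refine hb (Submodule.mem_span_singleton.2 ⟨τ c, funext fun i => ?_⟩)
    have := congrArg τ (congrFun hc i)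
    simpa [σa, σb, hO.invol] using this
  obtain ⟨φ, hφ, hφ0⟩ := exists_dual_one _ hσ
  obtain ⟨z, hz⟩ := LinearMap.surjective_of_injective hinj (fun i => φ (Pi.single i 1))
  have hval : ∀ y : ι → F, h y z = φ fun i => τ (y i) := fun y => by
    conv_lhs => rw [eq_sum_single y, map_sum, LinearMap.sum_apply]
    rw [apply_eq_sum φ]
    refine Finset.sum_congr rfl fun i _ => ?_
    rw [map_smulₛₗ, LinearMap.smul_apply, show h (Pi.single i 1) z = φ (Pi.single i 1) from congrFun hz i, smul_eq_mul]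
  exact ⟨z, by rw [hval]; exact hφ0 _ (Submodule.mem_span_singleton_self _), by rw [hval]; exact hφ⟩

theorem exists_sg_avoid (hO : OverR F₀ h sg X) {k l : ℕ} {p : Fin k → ι → F} (hp : ∀ i, RV F₀ (p i)) {w : Fin l → ι → F}
    (hw : ∀ j, RV F₀ (w j)) (hd : k + l < Fintype.card ι) (hd' : 2 * k + 4 ≤ Fintype.card ι) :
    ∃ x, RV F₀ x ∧ sg x ∧ (∀ i, h x (p i) = 0) ∧ x ∉ Submodule.span F (Set.range w) := by
  obtain ⟨z, hz, hzw, hzp⟩ := exists_avoid (fun j => h (w j)) (fun j i => hO.form _ _ (hw j) (rv_single i)) p hp (by omega)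
  obtain ⟨y, hy, hys, hzy, hyp⟩ := hO.pairing k p hp hd' z hz hzp 1 F₀.one_mem
  refine ⟨y, hy, hys, fun i => hO.swap (hyp i), fun hm => ?_⟩
  have h0 : Submodule.span F (Set.range w) ≤ LinearMap.ker (h z) := by
    rw [Submodule.span_le]
    rintro _ ⟨j, rfl⟩
    exact hO.swap (hzw j)
  have h1 : h z y = 0 := h0 hm
  rw [hzy] at h1
  exact one_ne_zero h1

/-- a rational vector orthogonal to given ones is a difference of singular such vectors -/
theorem split (hO : OverR F₀ h sg X) {k : ℕ} {p : Fin k → ι → F} (hp : ∀ i, RV F₀ (p i)) (hk : 2 * k + 4 ≤ Fintype.card ι)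
    {u : ι → F} (hu : RV F₀ u) (hup : ∀ i, h (p i) u = 0) (hun : ¬ sg u → u ∉ Submodule.span F (Set.range p)) :
    ∃ t s, RV F₀ t ∧ RV F₀ s ∧ sg t ∧ sg s ∧ (∀ i, h (p i) t = 0) ∧ (∀ i, h (p i) s = 0) ∧ u = t - s := by
  by_cases h0 : sg u
  · exact ⟨u, 0, hu, fun _ => F₀.zero_mem, h0, hO.sg_zero, hup, fun i => map_zero _, (sub_zero u).symm⟩
  obtain ⟨c, hc, hcs⟩ := hO.shift u hu
  obtain ⟨s, hs, hss, hus, hps⟩ := hO.pairing k p hp hk u hu (hun h0) c hc
  exact ⟨u + s, s, hu.add hs, hs, hcs s hs hss hus, hss, fun i => by rw [map_add, hup, hps, add_zero], hps,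
    (add_sub_cancel_right u s).symm⟩

theorem rt_mem_rat (hO : OverR F₀ h sg X) {u v : ι → F} (hu : RV F₀ u) (hv : RV F₀ v) (hus : sg u) (hvs : sg v)
    (huv : h u v = 0) {l : F} (hl : l ∈ F₀) : rt h u v l ∈ X := by
  have := hO.rat (l • u) v (hu.smul hl) hv (hO.sg_smul _ _ hus) hvs (by simp [huv])
  rwa [rt_smul_left (hO.sg_iso _ hus) (hO.sg_iso _ hvs) huv (hO.swap huv), mul_one] at this

theorem conj_mem {g a : (ι → F) ≃ₗ[F] (ι → F)} (hg : g ∈ X) (ha : a ∈ X) : g * a * g⁻¹ ∈ X :=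
  mul_mem (mul_mem hg ha) (inv_mem hg)

/-- a rational element moving `u` by `w` and fixing `v` and every vector orthogonal to `w` inside `F w + F v` -/
theorem move₂ (hO : OverR F₀ h sg X) {u w v : ι → F} (hu : RV F₀ u) (hw : RV F₀ w) (hv : RV F₀ v)
    (hws : sg w) (hwu : h w u = 0) (hwv : h w v = 0)
    (hn : u ∉ Submodule.span F (Set.range ![w, v])) : ∃ g ∈ X, g u = u + w ∧ g v = v ∧ g w = w := by
  obtain ⟨y, hy, hys, huy, hy0⟩ := hO.pairing 2 ![w, v] (by intro j; fin_cases j <;> assumption)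
    (by have := hO.card; omega) u hu hn 1 F₀.one_mem
  have hwy : h w y = 0 := hy0 0
  have hwi := hO.sg_iso _ hws
  have hyi := hO.sg_iso _ hys
  refine ⟨rt h w y 1, hO.rt_mem_rat hw hy hws hys hwy F₀.one_mem, ?_, ?_, ?_⟩
  · rw [rt_apply hwi hyi hwy (hO.swap hwy), hO.swap1 huy, hwu]
    simp
  · rw [rt_apply hwi hyi hwy (hO.swap hwy), hwv, hO.swap (show h v y = 0 from hy0 1)]
    simp
  · rw [rt_apply hwi hyi hwy (hO.swap hwy), hwi, hO.swap hwy]
    simp

/-- a rational element moving `u` by `w` and fixing `v`, `v₂` -/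
theorem move (hO : OverR F₀ h sg X) (h10 : 10 ≤ Fintype.card ι) {u w v v₂ : ι → F} (hu : RV F₀ u) (hw : RV F₀ w)
    (hv : RV F₀ v) (hv₂ : RV F₀ v₂)
    (hws : sg w) (hwu : h w u = 0) (hwv : h w v = 0) (hwv₂ : h w v₂ = 0)
    (hn : u ∉ Submodule.span F (Set.range ![w, v, v₂])) : ∃ g ∈ X, g u = u + w ∧ g v = v ∧ g v₂ = v₂ := by
  obtain ⟨y, hy, hys, huy, hy0⟩ := hO.pairing 3 ![w, v, v₂] (by intro j; fin_cases j <;> assumption)
    (by omega) u hu hn 1 F₀.one_mem
  have hwy : h w y = 0 := hy0 0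
  have hwi := hO.sg_iso _ hws
  have hyi := hO.sg_iso _ hys
  refine ⟨rt h w y 1, hO.rt_mem_rat hw hy hws hys hwy F₀.one_mem, ?_, ?_, ?_⟩
  · rw [rt_apply hwi hyi hwy (hO.swap hwy), hO.swap1 huy, hwu]
    simp
  · rw [rt_apply hwi hyi hwy (hO.swap hwy), hwv, hO.swap (show h v y = 0 from hy0 1)]
    simp
  · rw [rt_apply hwi hyi hwy (hO.swap hwy), hwv₂, hO.swap (show h v₂ y = 0 from hy0 2)]
    simp

/-- the parameters of root elements -/
def C (_hO : OverR F₀ h sg X) : Set F :=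
  {l | ∀ u v : ι → F, RV F₀ u → RV F₀ v → sg u → sg v → h u v = 0 → rt h u v l ∈ X}

theorem rt_step (hO : OverR F₀ h sg X) {a b z : ι → F} {l : F} (ha : RV F₀ a) (hb : RV F₀ b) (hz : RV F₀ z)
    (has : sg a) (hbs : sg b) (hzs : sg z) (hab : h a b = 0) (hba : a ∉ F ∙ b) (hzb : h z b = 0)
    (he : rt h a b l ∈ X) : rt h z b l ∈ X := by
  have main : ∀ a z : ι → F, RV F₀ a → RV F₀ z → sg a → sg z → h a b = 0 → a ∉ F ∙ b → h z a = 0 → h z b = 0 →
      z ∉ Submodule.span F (Set.range ![a, b]) → rt h a b l ∈ X → rt h z b l ∈ X := by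
    intro a z ha hz has hzs hab hba hza hzb hzab he
    obtain ⟨g, hg, hga, hgb, -⟩ := hO.move₂ ha hz hb hzs hza hzb (fun hm => by
      obtain ⟨s, t, e⟩ := mem2.1 hm
      by_cases hs : s = 0
      · exact hba (Submodule.mem_span_singleton.2 ⟨t, by rw [← e, hs, zero_smul, zero_add]⟩)
      · exact hzab (mem2.2 ⟨s⁻¹, -(s⁻¹ * t), by
          rw [← e, smul_add, smul_smul, smul_smul, inv_mul_cancel₀ hs, one_smul, neg_smul, add_neg_cancel_right]⟩))
    have h1 := conj_mem hg he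
    rw [rt_conj (hO.iso g hg) (hO.sg_iso _ has) (hO.sg_iso _ hbs) hab (hO.swap hab), hga, hgb, add_comm a z,
      rt_add_left (hO.sg_iso _ hzs) (hO.sg_iso _ has) (hO.sg_iso _ hbs) hzb (hO.swap hzb) hab (hO.swap hab) hza (hO.swap hza)] at h1
    simpa using mul_mem h1 (inv_mem he)
  by_cases hdir : h z a = 0 ∧ z ∉ Submodule.span F (Set.range ![a, b])
  · exact main a z ha hz has hzs hab hba hdir.1 hzb hdir.2 he
  obtain ⟨w, hw, hws, hwa, hwb, hwz, hmem⟩ : ∃ w, RV F₀ w ∧ sg w ∧ h w a = 0 ∧ h w b = 0 ∧ h w z = 0 ∧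
      ∀ s t r : F, w ≠ s • a + t • b + r • z := by
    obtain ⟨w₁, hw₁, hw₁s, hw₁p, hw₁n⟩ := hO.exists_sg_avoid (p := ![a, b]) (w := ![a, b, z])
      (by intro j; fin_cases j <;> assumption) (by intro j; fin_cases j <;> assumption) (by have := hO.card; omega)
      (by have := hO.card; omega)
    have h1a : h w₁ a = 0 := hw₁p 0
    have h1b : h w₁ b = 0 := hw₁p 1
    by_cases hza : h z a = 0
    · obtain ⟨s, t, e⟩ := mem2.1 (not_not.1 fun hn => hdir ⟨hza, hn⟩)
      exact ⟨w₁, hw₁, hw₁s, h1a, h1b, by rw [← e]; simp [h1a, h1b], fun s t r e => hw₁n (mem3.2 ⟨s, t, r, e.symm⟩)⟩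
    set c := h w₁ z / h a z with hcd
    have hc : c ∈ F₀ := F₀.div_mem (hO.form _ _ hw₁ hz) (hO.form _ _ ha hz)
    have haz : h a z ≠ 0 := fun e => hza (hO.swap e)
    have hai := hO.sg_iso _ has
    refine ⟨w₁ + (-c) • a, hw₁.add (ha.smul (F₀.neg_mem hc)), hO.sg_add _ _ hw₁s (hO.sg_smul _ _ has) (by simp [h1a]),
      by simp [h1a, hai], by simp [h1b, hab], ?_, fun s t r e => hw₁n (mem3.2 ⟨s + c, t, r, ?_⟩)⟩
    · rw [map_add, LinearMap.add_apply, map_smulₛₗ, LinearMap.smul_apply, smul_eq_mul, map_neg, hO.fix0 c hc, hcd,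
        neg_mul, div_mul_cancel₀ _ haz, add_neg_cancel]
    · rw [eq_sub_of_add_eq e]; module
  have hw1 : rt h w b l ∈ X := main a w ha hw has hws hab hba hwa hwb (fun hm => by
    obtain ⟨s, t, e⟩ := mem2.1 hm
    exact hmem s t 0 (by rw [← e, zero_smul, add_zero])) he
  by_cases hzbm : z ∈ F ∙ b
  · obtain ⟨c, rfl⟩ := Submodule.mem_span_singleton.1 hzbm
    have hwc : h w (c • b) = 0 := by simp [hwb]
    have h2 := main a (w + c • b) ha (hw.add hz) has (hO.sg_add _ _ hws hzs hwc) hab hba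
      (by simp [hwa, hO.swap hab]) (by simp [hwb, hO.sg_iso _ hbs]) (fun hm => by
      obtain ⟨s, t, e⟩ := mem2.1 hm
      exact hmem s (t - c) 0 (by rw [zero_smul, add_zero, sub_smul, ← add_sub_assoc, e, add_sub_cancel_right])) he
    rw [rt_add_left (hO.sg_iso _ hws) (hO.sg_iso _ hzs) (hO.sg_iso _ hbs) hwb (hO.swap hwb) hzb (hO.swap hzb) hwc
      (hO.swap hwc)] at h2
    simpa using mul_mem (inv_mem hw1) h2
  · refine main w z hw hz hws hzs hwb (fun hm => ?_) (hO.swap hwz) hzb (fun hm => ?_) hw1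
    · obtain ⟨c, e⟩ := Submodule.mem_span_singleton.1 hm
      exact hmem 0 c 0 (by rw [zero_smul, zero_add, zero_smul, add_zero, e])
    · obtain ⟨s, t, e⟩ := mem2.1 hm
      by_cases hs : s = 0
      · exact hzbm (Submodule.mem_span_singleton.2 ⟨t, by rw [← e, hs, zero_smul, zero_add]⟩)
      · exact hmem 0 (-(s⁻¹ * t)) s⁻¹ (by
          rw [zero_smul, zero_add, ← e, smul_add, smul_smul, smul_smul, inv_mul_cancel₀ hs, one_smul, neg_smul,
            add_left_comm, neg_add_cancel, add_zero])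

theorem C_of_one (hO : OverR F₀ h sg X) {a b : ι → F} {l : F} (ha : RV F₀ a) (hb : RV F₀ b) (has : sg a) (hbs : sg b)
    (hab : h a b = 0) (hba : a ∉ F ∙ b) (hb0 : b ≠ 0) (he : rt h a b l ∈ X) : l ∈ hO.C := by
  intro u v hu hv hus hvs huv
  rcases eq_or_ne v 0 with rfl | hv0
  · rw [rt_zero_right (hO.sg_iso _ hus)]; exact one_mem X
  obtain ⟨w, hw, hws, hwp, hwn⟩ := hO.exists_sg_avoid (p := ![b, v]) (w := ![b, v]) (by intro j; fin_cases j <;> assumption)
    (by intro j; fin_cases j <;> assumption) (by have := hO.card; omega) (by have := hO.card; omega)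
  have hwb : h w b = 0 := hwp 0
  have hwv : h w v = 0 := hwp 1
  have hnb : w ∉ F ∙ b := fun hm => hwn (Submodule.span_mono (Set.singleton_subset_iff.2 (by exact ⟨0, rfl⟩)) hm)
  have hnv : w ∉ F ∙ v := fun hm => hwn (Submodule.span_mono (Set.singleton_subset_iff.2 (by exact ⟨1, rfl⟩)) hm)
  have hwi := hO.sg_iso _ hws
  have h1 : rt h w b l ∈ X := hO.rt_step ha hb hw has hbs hws hab hba hwb he
  rw [rt_comm hO.invol hwi (hO.sg_iso _ hbs) hwb (hO.swap hwb)] at h1
  have hbw : b ∉ F ∙ w := fun hm => by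
    obtain ⟨c, e⟩ := Submodule.mem_span_singleton.1 hm
    have hc : c ≠ 0 := by rintro rfl; exact hb0 (by rw [← e, zero_smul])
    exact hnb (Submodule.mem_span_singleton.2 ⟨c⁻¹, by rw [← e, smul_smul, inv_mul_cancel₀ hc, one_smul]⟩)
  have h2 : rt h v w (-τ l) ∈ X := hO.rt_step hb hw hv hbs hws hvs (hO.swap hwb) hbw (hO.swap hwv) h1
  rw [rt_comm hO.invol (hO.sg_iso _ hvs) hwi (hO.swap hwv) hwv, map_neg, hO.invol, neg_neg] at h2
  exact hO.rt_step hw hv hu hws hvs hus hwv hnv huv h2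

theorem C_one' (hO : OverR F₀ h sg X) {a b : ι → F} {l : F} (ha : RV F₀ a) (hb : RV F₀ b) (has : sg a) (hbs : sg b)
    (hab : h a b = 0) (hba : a ∉ F ∙ b) (hb0 : b ≠ 0) (he : rt h b a l ∈ X) : -τ l ∈ hO.C := by
  rw [rt_comm hO.invol (hO.sg_iso _ hbs) (hO.sg_iso _ has) (hO.swap hab) hab] at he
  exact hO.C_of_one ha hb has hbs hab hba hb0 he

theorem pairing_key (hO : OverR F₀ h sg X) (hC : ∀ l ∈ hO.C, l ∈ F₀) {v' a : ι → F} (hv' : RV F₀ v') (hv's : sg v')
    (hv'0 : v' ≠ 0) (has : sg a) (hav : h a v' = 0) (he : rt h v' a 1 ∈ X) {y : ι → F} (hy : RV F₀ y) (hys : sg y)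
    (hyv : h y v' = 0) : h y a ∈ F₀ := by
  have hc := hO.card
  by_cases hym : y ∈ F ∙ v'
  · obtain ⟨c, rfl⟩ := Submodule.mem_span_singleton.1 hym
    simp [hO.swap hav]
  obtain ⟨z, hz, hzs, hzp, hzn⟩ := hO.exists_sg_avoid (p := ![v', y]) (w := ![v', y]) (by intro j; fin_cases j <;> assumption)
    (by intro j; fin_cases j <;> assumption) (by omega) (by omega)
  have hzv : h z v' = 0 := hzp 0
  have hzy : h z y = 0 := hzp 1
  obtain ⟨w, hw, hws, hzw, hwp⟩ := hO.pairing 2 ![v', y] (by intro j; fin_cases j <;> assumption) (by omega) z hz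
    hzn 1 F₀.one_mem
  have hvw : h v' w = 0 := hwp 0
  have hyw : h y w = 0 := hwp 1
  have hy' : RV F₀ y := hy
  have hy's : sg y := hys
  have hy'v : h y v' = 0 := hyv
  have hy'y : h y y = 0 := hO.sg_iso _ hys
  have hy'z : h y z = 0 := hO.swap hzy
  have hy'w : h y w = 0 := hyw
  have hv'i := hO.sg_iso _ hv's
  have hai := hO.sg_iso _ has
  have hzi := hO.sg_iso _ hzs
  have hyi := hO.sg_iso _ hys
  have hy'i := hO.sg_iso _ hy's
  have hwi := hO.sg_iso _ hws
  set g := rt h z y 1 with hgd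
  have hg : g ∈ X := hO.rt_mem_rat hz hy hzs hys hzy F₀.one_mem
  set μ := h y a with hμ
  set nu := h z a with hnu
  set d := μ • z + (-nu) • y with hd
  have hds : sg d := hO.sg_add _ _ (hO.sg_smul _ _ hzs) (hO.sg_smul _ _ hys) (by simp [hzy])
  have hdi := hO.sg_iso _ hds
  have hga : g a = a + d := by
    rw [hgd, rt_apply hzi hyi hzy (hO.swap hzy), map_one, one_mul, one_mul, hd, neg_smul]
    abel
  have hgv : g v' = v' := by
    rw [hgd, rt_apply hzi hyi hzy (hO.swap hzy), hzv, hO.swap (hO.swap hyv)]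
    simp
  have hvd : h v' d = 0 := by simp [hd, hO.swap hzv, hO.swap hyv]
  have hgi : h (a + d) (a + d) = 0 := by rw [← hga, hO.iso g hg, hai]
  have hhad : h a d = μ * τ nu - τ (μ * τ nu) := by
    rw [map_mul, hO.invol, hd, hμ, hnu, hO.symm z a]
    simp [hO.symm]
    ring
  have h1 := conj_mem hg he
  rw [rt_conj (hO.iso g hg) hv'i hai (hO.swap hav) hav, hgv, hga,
    rt_add_right hv'i hai hdi hgi (hO.swap hav) hav hvd (hO.swap hvd) (κ := μ * τ nu) hhad.symm] at h1
  have hE : rt h v' d 1 * rt h v' v' (μ * τ nu) ∈ X := by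
    have := mul_mem (inv_mem he) h1
    rwa [mul_assoc (rt h v' a 1), inv_mul_cancel_left] at this
  set g' := rt h w y 1 with hg'd
  have hg' : g' ∈ X := hO.rt_mem_rat hw hy' hws hy's (hO.swap hy'w) F₀.one_mem
  have hg'v : g' v' = v' := by
    rw [hg'd, rt_apply hwi hy'i (hO.swap hy'w) hy'w, hy'v, hO.swap hvw]
    simp
  have hg'dd : g' d = d + (-μ) • y := by
    rw [hg'd, rt_apply hwi hy'i (hO.swap hy'w) hy'w, hd]
    simp [hy'z, hy'y, hO.swap1 hzw, hO.swap hyw]
    module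
  have hdy : h d ((-μ) • y) = 0 := by simp [hd, hO.swap hy'z, hO.swap hy'y]
  have hys' : sg ((-μ) • y) := hO.sg_smul _ _ hy's
  have h2 := conj_mem hg' hE
  have e : g' * (rt h v' d 1 * rt h v' v' (μ * τ nu)) * g'⁻¹ = rt h v' (g' d) 1 * rt h v' v' (μ * τ nu) := by
    conv_rhs => rw [← hg'v, ← rt_conj (hO.iso g' hg') hv'i hdi hvd (hO.swap hvd), ← rt_conj (hO.iso g' hg') hv'i hv'i hv'i hv'i]
    group
  rw [e, hg'dd, add_comm d, rt_add_right hv'i (hO.sg_iso _ hys') hdi
    (hO.sg_iso _ (hO.sg_add _ _ hys' hds (hO.swap hdy))) (by simp [hO.swap hy'v]) (by simp [hy'v]) hvd (hO.swap hvd) (κ := 0)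
    (by rw [map_zero, sub_zero, hO.swap hdy])] at h2
  have h0 : rt h v' v' (0 : F) = 1 := LinearEquiv.ext fun x => by rw [rt_apply hv'i hv'i hv'i hv'i]; simp
  rw [h0, mul_one, mul_assoc] at h2
  have h3 := mul_mem h2 (inv_mem hE)
  rw [mul_inv_cancel_right, rt_smul_right hO.invol hv'i hy'i (hO.swap hy'v) hy'v, mul_one] at h3
  have h4 := hO.C_one' hy' hv' hy's hv's hy'v hym hv'0 h3
  rw [hO.invol, neg_neg] at h4
  exact hC _ h4

theorem rv_perp_decomp (hO : OverR F₀ h sg X) {v k : ι → F} (hv : RV F₀ v) (hvs : sg v) (hv0 : v ≠ 0)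
    (hk : ∀ u, RV F₀ u → sg u → h u v = 0 → h u k ∈ F₀) : ∃ β : F, RV F₀ (k - β • v) := by
  have hall : ∀ u, RV F₀ u → h u v = 0 → h u k ∈ F₀ := fun u hu huv => by
    obtain ⟨t, s, ht, hs, hts, hss, hpt, hps, rfl⟩ := hO.split (p := ![v]) (by intro j; fin_cases j; assumption)
      (by have := hO.card; omega) hu (by intro j; fin_cases j; exact hO.swap huv) (fun h0 hm => h0 (by
        obtain ⟨c, rfl⟩ := Submodule.mem_span_singleton.1 (mem1.1 hm)
        exact hO.sg_smul _ _ hvs))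
    rw [map_sub, LinearMap.sub_apply]
    exact F₀.sub_mem (hk t ht hts (hO.swap (hpt 0))) (hk s hs hss (hO.swap (hps 0)))
  obtain ⟨y, hy, -, hvy, -⟩ := hO.pairing 0 ![] (fun j => j.elim0) (by have := hO.card; omega) v hv (by simpa using hv0)
    1 F₀.one_mem
  have hyv : h y v = 1 := hO.swap1 hvy
  refine ⟨h y k, hO.rv_of_forms fun i => ?_⟩
  set t := h (Pi.single i 1) v with ht
  have htF : t ∈ F₀ := hO.form _ _ (rv_single i) hv
  have h1 := hall (Pi.single i 1 - t • y) ((rv_single i).sub (hy.smul htF)) (by simp [hyv, ← ht, hO.fix0 t htF])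
  have e : h (Pi.single i 1) (k - h y k • v) = h (Pi.single i 1 - t • y) k := by simp [← ht, mul_comm, hO.fix0 t htF]
  rw [e]
  exact h1

/-- the images of singular rational vectors orthogonal to `v`, scaled, are rational modulo `v'` -/
theorem mod_perp (hO : OverR F₀ h sg X) (hC : ∀ l ∈ hO.C, l ∈ F₀) {x : (ι → F) ≃ₗ[F] (ι → F)} (hx : x ∈ X) {v v' : ι → F}
    (hv : RV F₀ v) (hv' : RV F₀ v') (hvs : sg v) (hv's : sg v') (hv'0 : v' ≠ 0) {b : F} (hb : b ≠ 0) (hxv : x v = b • v')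
    {u : ι → F} (hu : RV F₀ u) (hus : sg u) (huv : h u v = 0) : ∃ β : F, RV F₀ (τ b • x u - β • v') := by
  have hxi := hO.iso x hx
  have hvi := hO.sg_iso _ hvs
  have hv'i := hO.sg_iso _ hv's
  have hui := hO.sg_iso _ hus
  have hxui : h (x u) (x u) = 0 := by rw [hxi, hui]
  have huv' : h (x u) v' = 0 := by
    have h1 : h (x u) (x v) = 0 := by rw [hxi, huv]
    rw [hxv, map_smul, smul_eq_mul] at h1
    exact (mul_eq_zero.1 h1).resolve_left hb
  have hq : rt h v' (τ b • x u) 1 ∈ X := by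
    have h1 := conj_mem hx (hO.rt_mem_rat hv hu hvs hus (hO.swap huv) F₀.one_mem)
    rw [rt_conj hxi hvi hui (hO.swap huv) huv, hxv, rt_smul_left hv'i hxui (hO.swap huv') huv'] at h1
    rwa [rt_smul_right hO.invol hv'i hxui (hO.swap huv') huv', hO.invol]
  exact hO.rv_perp_decomp hv' hv's hv'0 fun y hy hys hyv => hO.pairing_key hC hv' hv's hv'0
    (hO.sg_smul _ _ (hO.sg_map x hx u hus)) (by simp [huv']) hq hy hys hyv

theorem norm_mem (hO : OverR F₀ h sg X) (hC : ∀ l ∈ hO.C, l ∈ F₀) {x : (ι → F) ≃ₗ[F] (ι → F)} (hx : x ∈ X) {v v' : ι → F}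
    (hv : RV F₀ v) (hv' : RV F₀ v') (hvs : sg v) (hv's : sg v') (hv'0 : v' ≠ 0) {b : F} (hb : b ≠ 0) (hxv : x v = b • v') :
    b * τ b ∈ F₀ := by
  have hc := hO.card
  have hxi := hO.iso x hx
  obtain ⟨h₁, hh₁, hh₁s, hh₁p, hh₁n⟩ := hO.exists_sg_avoid (p := ![v]) (w := ![v]) (by intro j; fin_cases j; assumption)
    (by intro j; fin_cases j; assumption) (by omega) (by omega)
  obtain ⟨h₂, hh₂, hh₂s, h12, hh₂p⟩ := hO.pairing 1 ![v] (by intro j; fin_cases j; assumption) (by omega) h₁ hh₁ hh₁n 1 F₀.one_mem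
  obtain ⟨β₁, hk₁⟩ := hO.mod_perp hC hx hv hv' hvs hv's hv'0 hb hxv hh₁ hh₁s (hh₁p 0)
  obtain ⟨β₂, hk₂⟩ := hO.mod_perp hC hx hv hv' hvs hv's hv'0 hb hxv hh₂ hh₂s (hO.swap (hh₂p 0))
  have h1 := hO.form _ _ hk₁ hk₂
  have e : ∀ z, h z v = 0 → h (x z) v' = 0 := fun z hz => by
    have h0 : h (x z) (x v) = 0 := by rw [hxi, hz]
    rw [hxv, map_smul, smul_eq_mul] at h0
    exact (mul_eq_zero.1 h0).resolve_left hb
  simp [hO.invol, e _ (hh₁p 0), hO.swap (e _ (hO.swap (hh₂p 0))), hO.sg_iso _ hv's, hxi, h12] at h1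
  simpa [mul_comm] using h1

theorem rat_perp (hO : OverR F₀ h sg X) (hC : ∀ l ∈ hO.C, l ∈ F₀) {x : (ι → F) ≃ₗ[F] (ι → F)} (hx : x ∈ X) {v v' : ι → F}
    (hv : RV F₀ v) (hv' : RV F₀ v') (hvs : sg v) (hv's : sg v') (hv'0 : v' ≠ 0) {b : F} (hb : b ≠ 0) (hxv : x v = b • v')
    {u : ι → F} (hu : RV F₀ u) (huv : h u v = 0) : RV F₀ (τ b • x u) := by
  have hc := hO.card
  have hxi := hO.iso x hx
  have hn := hO.norm_mem hC hx hv hv' hvs hv's hv'0 hb hxv
  have hτb : τ b ≠ 0 := (map_ne_zero τ).2 hb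
  suffices hsg : ∀ u : ι → F, RV F₀ u → sg u → h u v = 0 → RV F₀ (τ b • x u) by
    obtain ⟨t, s, ht, hs, hts, hss, hpt, hps, rfl⟩ := hO.split (p := ![v]) (by intro j; fin_cases j; assumption)
      (by omega) hu (by intro j; fin_cases j; exact hO.swap huv) (fun h0 hm => h0 (by
        obtain ⟨c, rfl⟩ := Submodule.mem_span_singleton.1 (mem1.1 hm)
        exact hO.sg_smul _ _ hvs))
    rw [map_sub, smul_sub]
    exact (hsg t ht hts (hO.swap (hpt 0))).sub (hsg s hs hss (hO.swap (hps 0)))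
  clear huv hu u
  intro u hu hus huv
  by_cases hum : u ∈ F ∙ v
  · obtain ⟨c, rfl⟩ := Submodule.mem_span_singleton.1 hum
    rcases eq_or_ne v 0 with rfl | hv0
    · simp only [smul_zero, map_zero]; exact fun _ => F₀.zero_mem
    rw [map_smul, hxv, smul_smul, smul_smul]
    refine hv'.smul ?_
    rw [show τ b * c * b = c * (b * τ b) by ring]
    exact F₀.mul_mem (rv_scalar hv hu hv0 rfl) hn
  obtain ⟨h₁, hh₁, hh₁s, hh₁p, hh₁n⟩ := hO.exists_sg_avoid (p := ![v, u]) (w := ![v, u])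
    (by intro j; fin_cases j <;> assumption) (by intro j; fin_cases j <;> assumption) (by omega) (by omega)
  have h1u : h h₁ u = 0 := hh₁p 1
  obtain ⟨β₁, hk₁⟩ := hO.mod_perp hC hx hv hv' hvs hv's hv'0 hb hxv hh₁ hh₁s (hh₁p 0)
  obtain ⟨β, hk⟩ := hO.mod_perp hC hx hv hv' hvs hv's hv'0 hb hxv hu hus huv
  set k₁ := τ b • x h₁ with hk₁d
  set k := τ b • x u with hkd
  have hxz : ∀ z, h z v = 0 → h (x z) v' = 0 := fun z hz => by
    have h0 : h (x z) (x v) = 0 := by rw [hxi, hz]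
    rw [hxv, map_smul, smul_eq_mul] at h0
    exact (mul_eq_zero.1 h0).resolve_left hb
  have hk₁v : h k₁ v' = 0 := by rw [hk₁d]; simp [hxz _ (hh₁p 0)]
  have hkv : h k v' = 0 := by rw [hkd]; simp [hxz _ huv]
  have hk₁s : sg k₁ := hO.sg_smul _ _ (hO.sg_map x hx _ hh₁s)
  have hks : sg k := hO.sg_smul _ _ (hO.sg_map x hx _ hus)
  have hkk : h k₁ k = 0 := by rw [hk₁d, hkd]; simp [hxi, h1u]
  have hE : rt h k₁ k 1 ∈ X := by
    have h1 := conj_mem hx (hO.rt_mem_rat hh₁ hu hh₁s hus h1u hn)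
    have i1 : h (x h₁) (x h₁) = 0 := by rw [hxi, hO.sg_iso _ hh₁s]
    have i2 : h (x u) (x u) = 0 := by rw [hxi, hO.sg_iso _ hus]
    have i3 : h (x h₁) (x u) = 0 := by rw [hxi, h1u]
    rw [rt_conj hxi (hO.sg_iso _ hh₁s) (hO.sg_iso _ hus) h1u (hO.swap h1u)] at h1
    rwa [hk₁d, hkd, rt_smul_left i1 (by simp [i2]) (by simp [i3]) (by simp [hO.swap i3]),
      rt_smul_right hO.invol i1 i2 i3 (hO.swap i3), hO.invol, mul_one]
  set c₁ := k₁ - β₁ • v' with hc₁
  set c := k - β • v' with hc'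
  have ek₁ : k₁ = c₁ + β₁ • v' := by rw [hc₁, sub_add_cancel]
  have ek : k = c + β • v' := by rw [hc', sub_add_cancel]
  have hv'i := hO.sg_iso _ hv's
  have hcs : sg c := by
    rw [hc', sub_eq_add_neg, ← neg_smul]
    exact hO.sg_add _ _ hks (hO.sg_smul _ _ hv's) (by simp [hkv])
  have hcv : h c v' = 0 := by rw [hc']; simp [hkv, hv'i]
  have hkn : k ∉ F ∙ v' := fun hm => by
    obtain ⟨t, e⟩ := Submodule.mem_span_singleton.1 hm
    refine hum (Submodule.mem_span_singleton.2 ⟨t / (b * τ b), x.injective ?_⟩)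
    have : x u = (τ b)⁻¹ • k := by rw [hkd, smul_smul, inv_mul_cancel₀ hτb, one_smul]
    rw [map_smul, hxv, smul_smul, this, ← e, smul_smul]
    congr 1
    field_simp
  have hz : RV F₀ c := hk
  have hzs : sg c := hcs
  have hcc₁ : h c c₁ = 0 := by rw [hc₁, hc']; simp [hO.swap hkk, hkv, hO.swap hk₁v, hv'i]
  have hzc₁ : h c c₁ = 0 := hcc₁
  have hzv : h c v' = 0 := hcv
  have hzc : h c c = 0 := hO.sg_iso _ hcs
  have hzn : c ∉ F ∙ v' := fun hm => hkn (by rw [ek]; exact add_mem hm (Submodule.smul_mem _ β (Submodule.mem_span_singleton_self v')))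
  obtain ⟨g, hg, hgc₁, hgv, hgc⟩ := hO.move₂ hk₁ hz hv' hzs hzc₁ hzv (fun hm => by
    obtain ⟨r, t, e⟩ := mem2.1 hm
    have e' : x (τ b • h₁) = x ((t + β₁ - r * β) • b⁻¹ • v + r • τ b • u) := by
      rw [map_add, map_smul, map_smul, map_smul, map_smul, hxv, map_smul, smul_smul b⁻¹, inv_mul_cancel₀ hb, one_smul, ← hkd,
        ← hk₁d, ek₁, ← e, ek]
      module
    refine hh₁n (mem2.2 ⟨(τ b)⁻¹ * ((t + β₁ - r * β) * b⁻¹), r, ?_⟩)
    have e'' := congrArg ((τ b)⁻¹ • ·) (x.injective e')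
    simp only [smul_add, smul_smul, inv_mul_cancel₀ hτb, one_smul] at e''
    rw [e'']
    congr 2
    field_simp)
  have hk₁i := hO.sg_iso _ hk₁s
  have hki := hO.sg_iso _ hks
  have hzi := hO.sg_iso _ hzs
  have hzk₁ : h c k₁ = 0 := by rw [ek₁]; simp [hzc₁, hzv]
  have hzk : h c k = 0 := by rw [ek]; simp [hzc, hzv]
  have hgk₁ : g k₁ = k₁ + c := by rw [ek₁, map_add, map_smul, hgc₁, hgv]; abel
  have hgk : g k = k := by rw [ek, map_add, map_smul, hgc, hgv]
  have h1 := conj_mem hg hE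
  rw [rt_conj (hO.iso g hg) hk₁i hki hkk (hO.swap hkk), hgk₁, hgk, add_comm k₁,
    rt_add_left hzi hk₁i hki hzk (hO.swap hzk) hkk (hO.swap hkk) hzk₁ (hO.swap hzk₁)] at h1
  have h2 : rt h c k 1 ∈ X := by simpa using mul_mem h1 (inv_mem hE)
  rw [ek, rt_add_right hzi (hO.sg_iso _ hcs) (by simp [hv'i]) (by rw [← ek]; exact hki) hzc (hO.swap hzc) (by simp [hzv])
    (by simp [hO.swap hzv]) (κ := 0) (by simp [hcv])] at h2
  have h0 : rt h c c (0 : F) = 1 := LinearEquiv.ext fun w => by rw [rt_apply hzi hzi hzi hzi]; simp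
  rw [h0, mul_one] at h2
  have h3 : rt h c (β • v') 1 ∈ X := by
    have := mul_mem (inv_mem (hO.rt_mem_rat hz hk hzs hcs hzc F₀.one_mem)) h2
    rwa [inv_mul_cancel_left] at this
  rw [rt_smul_right hO.invol hzi hv'i hzv (hO.swap hzv), mul_one] at h3
  have h4 := hC _ (hO.C_of_one hz hv' hzs hv's hzv hzn hv'0 h3)
  have hβ : β ∈ F₀ := by
    have := hO.fix0 _ h4
    rw [hO.invol] at this
    rw [this]; exact h4
  rw [ek]
  exact hk.add (hv'.smul hβ)

/-- a map carrying a rational singular vector to a multiple of a rational one is rational up to a scalar -/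
theorem ratty_of_move (hO : OverR F₀ h sg X) (hC : ∀ l ∈ hO.C, l ∈ F₀) {x : (ι → F) ≃ₗ[F] (ι → F)} (hx : x ∈ X) {v v' : ι → F}
    (hv : RV F₀ v) (hv' : RV F₀ v') (hvs : sg v) (hv's : sg v') (hv0 : v ≠ 0) (hv'0 : v' ≠ 0) {b : F}
    (hxv : x v = b • v') : Ratty F₀ x := by
  have hc := hO.card
  have hxi := hO.iso x hx
  have hb : b ≠ 0 := by
    rintro rfl
    exact hv0 (x.map_eq_zero_iff.1 (by rw [hxv, zero_smul]))
  have hτb : τ b ≠ 0 := (map_ne_zero τ).2 hb
  have hn := hO.norm_mem hC hx hv hv' hvs hv's hv'0 hb hxv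
  obtain ⟨f, hf, hfs, hvf, -⟩ := hO.pairing 0 ![] (fun j => j.elim0) (by omega) v hv (by simpa using hv0) 1 F₀.one_mem
  have hfv := hO.swap1 hvf
  suffices hkf : RV F₀ (τ b • x f) by
    refine ⟨τ b, hτb, fun i => ?_⟩
    set t := h (Pi.single i 1) v with ht
    have htF : t ∈ F₀ := hO.form _ _ (rv_single i) hv
    have h1 := hO.rat_perp hC hx hv hv' hvs hv's hv'0 hb hxv (u := Pi.single i 1 - t • f) ((rv_single i).sub (hf.smul htF))
      (by simp [hfv, ← ht, hO.fix0 t htF])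
    have h2 := h1.add (hkf.smul htF)
    rwa [map_sub, map_smul, smul_sub, smul_comm t (τ b), sub_add_cancel] at h2
  set k := τ b • x f with hk
  have hks : sg k := hO.sg_smul _ _ (hO.sg_map x hx _ hfs)
  have hkv : h k v' = 1 := by
    rw [hk, map_smulₛₗ, LinearMap.smul_apply, hO.invol, ← map_smul (h (x f)), ← hxv, hxi, hfv]
  have hxi' : x⁻¹ v' = b⁻¹ • v := by
    have := congrArg (fun z => x⁻¹ z) hxv
    simp only [map_smul, inv_apply] at this
    rw [this, smul_smul, inv_mul_cancel₀ hb, one_smul]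
  obtain ⟨β, hβ⟩ := hO.rv_perp_decomp hv' hv's hv'0 (k := k) fun u hu _ huv => by
    have h1 := hO.rat_perp hC (inv_mem hx) hv' hv hv's hvs hv0 (inv_ne_zero hb) hxi' hu huv
    have h2 : h u k = b * τ b * h (τ b⁻¹ • x⁻¹ u) f := by
      have h3 : h u (x f) = h (x⁻¹ u) f := by
        conv_lhs => rw [← apply_inv x u]
        exact hxi _ _
      rw [hk, map_smul, smul_eq_mul, map_smulₛₗ, LinearMap.smul_apply, smul_eq_mul, h3, hO.invol]
      field_simp
    rw [h2]
    exact F₀.mul_mem hn (hO.form _ _ h1 hf)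
  set k₀ := k - β • v' with hk₀
  have hkk : k = k₀ + β • v' := by rw [hk₀, sub_add_cancel]
  have hv'i := hO.sg_iso _ hv's
  have hk₀v : h k₀ v' = 1 := by rw [hk₀]; simp [hkv, hv'i]
  rcases hO.low with h10 | ⟨-, hyp, -⟩
  swap
  · rw [hkk]
    exact hβ.add (hv'.smul (hyp v' k₀ β hv' hβ hv's hk₀v (hkk ▸ hks)))
  obtain ⟨h₁, hh₁, hh₁s, hh₁p, hh₁n⟩ := hO.exists_sg_avoid (p := ![v, f]) (w := ![v]) (by intro j; fin_cases j <;> assumption)
    (by intro j; fin_cases j; assumption) (by omega) (by omega)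
  have h1v : h h₁ v = 0 := hh₁p 0
  have h1f : h h₁ f = 0 := hh₁p 1
  set j := τ b • x h₁ with hjd
  have hj : RV F₀ j := hO.rat_perp hC hx hv hv' hvs hv's hv'0 hb hxv hh₁ h1v
  have hjs : sg j := hO.sg_smul _ _ (hO.sg_map x hx _ hh₁s)
  have hjv : h j v' = 0 := by
    have h0 : h (x h₁) (x v) = 0 := by rw [hxi, h1v]
    rw [hxv, map_smul, smul_eq_mul] at h0
    rw [hjd]; simp [(mul_eq_zero.1 h0).resolve_left hb]
  have hjk : h j k = 0 := by rw [hjd, hk]; simp [hxi, h1f]
  have hjn : j ∉ F ∙ v' := fun hm => by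
    obtain ⟨c, hc'⟩ := Submodule.mem_span_singleton.1 hm
    refine hh₁n (mem1.2 (Submodule.mem_span_singleton.2 ⟨c / (b * τ b), x.injective ?_⟩))
    have : x h₁ = (τ b)⁻¹ • j := by rw [hjd, smul_smul, inv_mul_cancel₀ hτb, one_smul]
    rw [map_smul, hxv, smul_smul, this, ← hc', smul_smul]
    congr 1
    field_simp
  obtain ⟨u, hu, hus, hup, hun⟩ := hO.exists_sg_avoid (p := ![k₀, v', j]) (w := ![v', j])
    (by intro i; fin_cases i <;> assumption) (by intro i; fin_cases i <;> assumption) (by omega) (by omega)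
  have huk : h u k₀ = 0 := hup 0
  have huv : h u v' = 0 := hup 1
  have huj : h u j = 0 := hup 2
  obtain ⟨g, hg, hgv, hgk, hgj⟩ := hO.move h10 hv' hu hβ hj hus huv huk huj (fun hm => by
    obtain ⟨s, t, r, e⟩ := mem3.1 hm
    have ht : t = 0 := by
      have := congrArg (fun z => h z v') e
      simpa [huv, hk₀v, hv'i, hjv] using this
    rw [ht, zero_smul, add_zero] at e
    by_cases hs : s = 0
    · rw [hs, zero_smul, zero_add] at e
      have hr : r ≠ 0 := by rintro rfl; exact hv'0 (by rw [← e, zero_smul])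
      exact hjn (Submodule.mem_span_singleton.2 ⟨r⁻¹, by rw [← e, smul_smul, inv_mul_cancel₀ hr, one_smul]⟩)
    · exact hun (mem2.2 ⟨s⁻¹, -(s⁻¹ * r), by
        rw [← e, smul_add, smul_smul, smul_smul, inv_mul_cancel₀ hs, one_smul]; module⟩))
  have hki := hO.sg_iso _ hks
  have hji := hO.sg_iso _ hjs
  have hE : rt h k j 1 ∈ X := by
    have h1 := conj_mem hx (hO.rt_mem_rat hf hh₁ hfs hh₁s (hO.swap h1f) hn)
    have i1 : h (x f) (x f) = 0 := by rw [hxi, hO.sg_iso _ hfs]
    have i2 : h (x h₁) (x h₁) = 0 := by rw [hxi, hO.sg_iso _ hh₁s]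
    have i3 : h (x f) (x h₁) = 0 := by rw [hxi, hO.swap h1f]
    rw [rt_conj hxi (hO.sg_iso _ hfs) (hO.sg_iso _ hh₁s) (hO.swap h1f) h1f] at h1
    rwa [hk, hjd, rt_smul_left i1 (by simp [i2]) (by simp [i3]) (by simp [hO.swap i3]),
      rt_smul_right hO.invol i1 i2 i3 (hO.swap i3), hO.invol, mul_one]
  have huk' : h u k = 0 := by rw [hkk]; simp [huk, huv]
  have hgk' : g k = β • u + k := by rw [hkk, map_add, map_smul, hgk, hgv]; module
  have h1 := conj_mem hg hE
  have hui := hO.sg_iso _ hus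
  rw [rt_conj (hO.iso g hg) hki hji (hO.swap hjk) hjk, hgk', hgj, rt_add_left (by simp [hui]) hki hji (by simp [huj])
    (by simp [hO.swap huj]) (hO.swap hjk) hjk (by simp [huk']) (by simp [hO.swap huk']),
    rt_smul_left hui hji huj (hO.swap huj), mul_one] at h1
  have h2 : rt h u j β ∈ X := by simpa using mul_mem h1 (inv_mem hE)
  have hj0 : j ≠ 0 := fun e => hjn (by rw [e]; exact zero_mem _)
  have hβF : β ∈ F₀ := hC _ (hO.C_of_one hu hj hus hjs huj
    (fun hm => hun (Submodule.span_mono (Set.singleton_subset_iff.2 (by exact ⟨1, rfl⟩)) hm)) hj0 h2)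
  rw [hkk]
  exact hβ.add (hv'.smul hβF)

/-- a rational totally singular 3-space meeting a rational span trivially -/
theorem exists_ts (hO : OverR F₀ h sg X) {k : ℕ} {U : Fin k → ι → F} (hU : ∀ j, RV F₀ (U j)) (hk : k + 4 < Fintype.card ι) :
    ∃ v u w : ι → F, RV F₀ v ∧ RV F₀ u ∧ RV F₀ w ∧ sg v ∧ sg u ∧ sg w ∧ h u v = 0 ∧ h w v = 0 ∧ h w u = 0 ∧
      (∀ r s t : F, r • v + s • u + t • w ∈ Submodule.span F (Set.range U) → r = 0 ∧ s = 0 ∧ t = 0) := by
  have hc := hO.card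
  obtain ⟨v, hv, hvs, -, hvn⟩ := hO.exists_sg_avoid (p := ![]) (w := U) (fun j => j.elim0) hU (by omega) (by omega)
  obtain ⟨u, hu, hus, hup, hun⟩ := hO.exists_sg_avoid (p := ![v]) (w := Fin.cons v U)
    (by intro j; fin_cases j; assumption) (by intro j; cases j using Fin.cases <;> simp [hv, hU]) (by omega) (by omega)
  obtain ⟨w, hw, hws, hwp, hwn⟩ := hO.exists_sg_avoid (p := ![v, u]) (w := Fin.cons u (Fin.cons v U))
    (by intro j; fin_cases j <;> assumption) (by
      intro j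
      cases j using Fin.cases with
      | zero => exact hu
      | succ j => cases j using Fin.cases <;> simp [hv, hU]) (by omega) (by omega)
  refine ⟨v, u, w, hv, hu, hw, hvs, hus, hws, hup 0, hwp 0, hwp 1, fun r s t hm => ?_⟩
  have ht : t = 0 := by
    by_contra ht
    refine hwn ?_
    rw [Fin.range_cons, Fin.range_cons]
    set S := Submodule.span F (insert u (insert v (Set.range U)))
    have h1 : r • v + s • u + t • w - (r • v + s • u) ∈ S :=
      sub_mem (Submodule.span_mono (fun z hz => Or.inr (Or.inr hz)) hm)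
        (add_mem (S.smul_mem r (Submodule.subset_span (Or.inr (Or.inl rfl)))) (S.smul_mem s (Submodule.subset_span (Or.inl rfl))))
    rw [add_sub_cancel_left] at h1
    exact (S.smul_mem_iff ht).1 h1
  have hs : s = 0 := by
    by_contra hs
    refine hun ?_
    rw [Fin.range_cons]
    set S := Submodule.span F (insert v (Set.range U))
    rw [ht, zero_smul, add_zero] at hm
    have h1 : r • v + s • u - r • v ∈ S :=
      sub_mem (Submodule.span_mono (fun z hz => Or.inr hz) hm) (S.smul_mem r (Submodule.subset_span (Or.inl rfl)))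
    rw [add_sub_cancel_left] at h1
    exact (S.smul_mem_iff hs).1 h1
  refine ⟨by_contra fun hr => hvn ?_, hs, ht⟩
  rw [hs, ht, zero_smul, zero_smul, add_zero, add_zero] at hm
  exact ((Submodule.span F (Set.range U)).smul_mem_iff hr).1 hm

/-- a point whose two root planes are rational is a rational point -/
theorem line_of_planes (hO : OverR F₀ h sg X) {a b d : ι → F} (has : sg a) (hbs : sg b) (hds : sg d) (hab : h a b = 0)
    (had : h a d = 0) (ha0 : a ≠ 0) (hb : b ∉ F ∙ a) (hd : d ∉ Submodule.span F (Set.range ![a, b]))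
    (h1 : ∀ z, RV F₀ z → RV F₀ (rt h a b 1 z)) (h2 : ∀ z, RV F₀ z → RV F₀ (rt h a d 1 z)) : ∃ w, RV F₀ w ∧ a ∈ F ∙ w := by
  have hdn : d ∉ F ∙ a := fun hm => by
    obtain ⟨c, e⟩ := Submodule.mem_span_singleton.1 hm
    exact hd (mem2.2 ⟨c, 0, by rw [zero_smul, add_zero, e]⟩)
  have hai := hO.sg_iso _ has
  have key : ∀ b : ι → F, sg b → h a b = 0 → b ∉ F ∙ a →
      a ∈ Submodule.span F (Set.range fun i => rt h a b 1 (Pi.single i 1) - Pi.single i 1) ∧
      Submodule.span F (Set.range fun i => rt h a b 1 (Pi.single i 1) - Pi.single i 1) ≤ Submodule.span F (Set.range ![a, b]) := by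
    intro b hbs hab hb
    have hbi := hO.sg_iso _ hbs
    refine ⟨?_, ?_⟩
    · obtain ⟨z, hza, hzb⟩ := hO.exists_sep hb
      have e : a = ∑ i, z i • (rt h a b 1 (Pi.single i 1) - Pi.single i 1) := by
        simp only [smul_sub, Finset.sum_sub_distrib, ← map_smul, ← map_sum, ← eq_sum_single z]
        rw [rt_apply hai hbi hab (hO.swap hab), hza, hzb]
        simp
      have hmem : (∑ i, z i • (rt h a b 1 (Pi.single i 1) - Pi.single i 1)) ∈
          Submodule.span F (Set.range fun i => rt h a b 1 (Pi.single i 1) - Pi.single i 1) :=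
        sum_mem fun i _ => Submodule.smul_mem _ _ (Submodule.subset_span ⟨i, rfl⟩)
      rwa [← e] at hmem
    · rw [Submodule.span_le]
      rintro _ ⟨i, rfl⟩
      refine mem2.2 ⟨h b (Pi.single i 1), -h a (Pi.single i 1), ?_⟩
      dsimp only
      rw [rt_apply hai hbi hab (hO.swap hab), map_one, one_mul, one_mul]
      module
  obtain ⟨k1, l1⟩ := key b hbs hab hb
  obtain ⟨k2, l2⟩ := key d hds had hdn
  refine line_of_inter ?_ ?_ ha0 k1 k2 fun z hz1 hz2 => ?_
  · rintro _ ⟨i, rfl⟩; exact (h1 _ (rv_single i)).sub (rv_single i)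
  · rintro _ ⟨i, rfl⟩; exact (h2 _ (rv_single i)).sub (rv_single i)
  obtain ⟨s, t, e1⟩ := mem2.1 (l1 hz1)
  obtain ⟨s', t', e2⟩ := mem2.1 (l2 hz2)
  have ht' : t' = 0 := by
    by_contra ht'
    refine hd (mem2.2 ⟨t'⁻¹ * (s - s'), t'⁻¹ * t, ?_⟩)
    rw [mul_smul, mul_smul, ← smul_add, inv_smul_eq_iff₀ ht']
    linear_combination (norm := module) e1 - e2
  exact Submodule.mem_span_singleton.2 ⟨s', by rw [← e2, ht', zero_smul, add_zero]⟩

theorem sg_span3 (hO : OverR F₀ h sg X) {v u w : ι → F} (hvs : sg v) (hus : sg u) (hws : sg w) (huv : h u v = 0)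
    (hwv : h w v = 0) (hwu : h w u = 0) {z : ι → F} (hz : z ∈ Submodule.span F (Set.range ![v, u, w])) : sg z := by
  obtain ⟨r, s, t, rfl⟩ := mem3.1 hz
  exact hO.sg_add _ _ (hO.sg_add _ _ (hO.sg_smul _ _ hvs) (hO.sg_smul _ _ hus) (by simp [hO.swap huv]))
    (hO.sg_smul _ _ hws) (by simp [hO.swap hwv, hO.swap hwu])

/-- with a trivial involution a totally singular rational space absorbs the rational points of its sum with a plane
having no rational singular vector in its orthogonal, when the parameters are rational -/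
theorem mem_ts_of_mem_sup (hO : OverR F₀ h sg X) (hC : ∀ l ∈ hO.C, l ∈ F₀) (hid : ∀ c, τ c = c) {a b : ι → F}
    (htX : rt h a b 1 ∈ X) (has : sg a) (hbs : sg b) (hab : h a b = 0)
    (hperp : ∀ R, RV F₀ R → R ≠ 0 → sg R → h a R = 0 → h b R ≠ 0) {v u w : ι → F} (hv : RV F₀ v) (hu : RV F₀ u)
    (hw : RV F₀ w) (hvs : sg v) (hus : sg u) (hws : sg w) (huv : h u v = 0) (hwv : h w v = 0) (hwu : h w u = 0)
    (hind : ∀ r s t : F, r • v + s • u + t • w ∈ Submodule.span F (Set.range (![] : Fin 0 → ι → F)) →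
      r = 0 ∧ s = 0 ∧ t = 0) {x : ι → F} (hx : RV F₀ x)
    (hxm : x ∈ Submodule.span F (Set.range ![v, u, w]) ⊔ Submodule.span F (Set.range ![a, b])) :
    x ∈ Submodule.span F (Set.range ![v, u, w]) := by
  have hcard := hO.card
  set W := Submodule.span F (Set.range ![v, u, w]) with hW
  have hWs : ∀ z ∈ W, sg z := fun z hz => hO.sg_span3 hvs hus hws huv hwv hwu hz
  have hiso : ∀ p ∈ W, ∀ q ∈ W, h p q = 0 := fun p hp q hq => by
    obtain ⟨r, s, t, rfl⟩ := mem3.1 hp
    obtain ⟨r', s', t', rfl⟩ := mem3.1 hq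
    simp [huv, hwv, hwu, hO.swap huv, hO.swap hwv, hO.swap hwu, hO.sg_iso _ hvs, hO.sg_iso _ hus, hO.sg_iso _ hws]
  have hvW : v ∈ W := Submodule.subset_span ⟨0, rfl⟩
  have huW : u ∈ W := Submodule.subset_span ⟨1, rfl⟩
  have hwW : w ∈ W := Submodule.subset_span ⟨2, rfl⟩
  have hsym : ∀ p q : ι → F, h p q = h q p := fun p q => by rw [← hO.symm q p, hid]
  obtain ⟨p, hp, π, hπ, hxe⟩ := Submodule.mem_sup.1 hxm
  obtain ⟨α, β, hπe⟩ := mem2.1 hπ
  suffices hπW : π ∈ W by rw [← hxe]; exact W.add_mem hp hπW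
  by_cases hπ0 : π = 0
  · rw [hπ0]; exact W.zero_mem
  have hπs : sg π := by
    rw [← hπe]; exact hO.sg_add _ _ (hO.sg_smul _ _ has) (hO.sg_smul _ _ hbs) (by simp [hab])
  -- a rational plane of `W` orthogonal to `π`
  obtain ⟨e, f, he, hf, heW, hfW, hπe', hπf', hind₂⟩ : ∃ e f, RV F₀ e ∧ RV F₀ f ∧ e ∈ W ∧ f ∈ W ∧ h π e = 0 ∧
      h π f = 0 ∧ ∀ s t : F, s • e + t • f = 0 → s = 0 ∧ t = 0 := by
    have hq : ∀ q ∈ W, h π q = h x q := fun q hq => by rw [← hxe, map_add, LinearMap.add_apply, hiso p hp q hq, zero_add]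
    have hz : ∀ r s t : F, r • v + s • u + t • w = 0 → r = 0 ∧ s = 0 ∧ t = 0 := fun r s t e =>
      hind r s t (by rw [e]; exact zero_mem _)
    have mv := hO.form x v hx hv
    have mu := hO.form x u hx hu
    have mw := hO.form x w hx hw
    by_cases hcw : h x w = 0
    · by_cases hcu : h x u = 0
      · exact ⟨u, w, hu, hw, huW, hwW, by rw [hq u huW, hcu], by rw [hq w hwW, hcw], fun s t e =>
          (hz 0 s t (by rw [zero_smul, zero_add, e])).2⟩
      · refine ⟨w, h x u • v - h x v • u, hw, (hv.smul mu).sub (hu.smul mv), hwW,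
          W.sub_mem (W.smul_mem _ hvW) (W.smul_mem _ huW), by rw [hq w hwW, hcw], ?_, fun s t e => ?_⟩
        · rw [hq _ (W.sub_mem (W.smul_mem _ hvW) (W.smul_mem _ huW))]; simp [mul_comm]
        · obtain ⟨h1, -, h3⟩ := hz (t * h x u) (-(t * h x v)) s (by rw [← e]; module)
          exact ⟨h3, (mul_eq_zero.1 h1).resolve_right hcu⟩
    · refine ⟨h x w • v - h x v • w, h x w • u - h x u • w, (hv.smul mw).sub (hw.smul mv), (hu.smul mw).sub (hw.smul mu),
        W.sub_mem (W.smul_mem _ hvW) (W.smul_mem _ hwW), W.sub_mem (W.smul_mem _ huW) (W.smul_mem _ hwW), ?_, ?_,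
        fun s t e => ?_⟩
      · rw [hq _ (W.sub_mem (W.smul_mem _ hvW) (W.smul_mem _ hwW))]; simp [mul_comm]
      · rw [hq _ (W.sub_mem (W.smul_mem _ huW) (W.smul_mem _ hwW))]; simp [mul_comm]
      · obtain ⟨h1, h2, -⟩ := hz (s * h x w) (t * h x w) (-(s * h x v) - t * h x u) (by rw [← e]; module)
        exact ⟨(mul_eq_zero.1 h1).resolve_right hcw, (mul_eq_zero.1 h2).resolve_right hcw⟩
  -- the plane through `π` and `π'`
  obtain ⟨γ, δ, hdet⟩ : ∃ γ δ : F, α * δ - β * γ = 1 := by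
    by_cases hα : α = 0
    · have hβ : β ≠ 0 := fun e => hπ0 (by rw [← hπe, hα, e]; simp)
      exact ⟨-β⁻¹, 0, by rw [hα, mul_neg, mul_inv_cancel₀ hβ]; ring⟩
    · exact ⟨0, α⁻¹, by rw [mul_inv_cancel₀ hα]; ring⟩
  set π' := γ • a + δ • b with hπ'
  have hai := hO.sg_iso _ has
  have hbi := hO.sg_iso _ hbs
  have hπ's : sg π' := hO.sg_add _ _ (hO.sg_smul _ _ has) (hO.sg_smul _ _ hbs) (by simp [hab])
  have hππ' : h π π' = 0 := by rw [← hπe, hπ']; simp [hai, hbi, hab, hO.swap hab]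
  have hπi := hO.sg_iso _ hπs
  have hπ'i := hO.sg_iso _ hπ's
  have htX' : rt h π π' 1 ∈ X := by
    have e : rt h π π' 1 = rt h a b 1 := LinearEquiv.ext fun z => by
      rw [rt_apply hπi hπ'i hππ' (hO.swap hππ'), rt_apply hai hbi hab (hO.swap hab), ← hπe, hπ']
      simp only [map_add, map_smulₛₗ, hid, LinearMap.add_apply, LinearMap.smul_apply, smul_eq_mul, one_mul]
      match_scalars
      all_goals first
        | linear_combination (h b z) * hdet
        | linear_combination -(h b z) * hdet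
        | linear_combination (h a z) * hdet
        | linear_combination -(h a z) * hdet
        | ring
    rw [e]; exact htX
  have hes := hWs e heW
  have hfs := hWs f hfW
  have hef : h e f = 0 := hiso e heW f hfW
  have hei := hO.sg_iso _ hes
  have hfi := hO.sg_iso _ hfs
  set τ' := h f π' • e - h e π' • f with hτ'
  have hτ'W : τ' ∈ W := W.sub_mem (W.smul_mem _ heW) (W.smul_mem _ hfW)
  have hτ's := hWs τ' hτ'W
  have hτ'i := hO.sg_iso _ hτ's
  have hπ'τ : h π' τ' = 0 := by rw [hτ']; simp [hsym f π', hsym e π', mul_comm]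
  have hπτ : h π τ' = 0 := by rw [hτ']; simp [hπe', hπf']
  have he0 : e ≠ 0 := fun e0 => one_ne_zero (hind₂ 1 0 (by rw [e0]; simp)).1
  have hab' : ∀ R, h π R = 0 → h π' R = 0 → h a R = 0 ∧ h b R = 0 := fun R h1 h2 => by
    rw [← hπe] at h1
    rw [hπ'] at h2
    simp only [map_add, map_smulₛₗ, hid, LinearMap.add_apply, LinearMap.smul_apply, smul_eq_mul] at h1 h2
    exact ⟨by linear_combination δ * h1 - β * h2 - (h a R) * hdet, by linear_combination α * h2 - γ * h1 - (h b R) * hdet⟩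
  have hne : ∀ R, RV F₀ R → R ∈ W → R ≠ 0 → h π R = 0 → h π' R ≠ 0 := fun R hR hRW hR0 h1 h2 => by
    obtain ⟨ha', hb'⟩ := hab' R h1 h2
    exact hperp R hR hR0 (hWs R hRW) ha' hb'
  have hτ0 : τ' ≠ 0 := fun e0 => by
    rw [hτ'] at e0
    obtain ⟨-, h2⟩ := hind₂ (h f π') (-h e π') (by rw [← e0]; module)
    exact hne e he heW he0 hπe' (by rw [hsym, neg_eq_zero.1 h2])
  by_cases hπτm : π ∈ F ∙ τ'
  · obtain ⟨r, hr⟩ := Submodule.mem_span_singleton.1 hπτm
    rw [← hr]; exact W.smul_mem r hτ'W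
  -- the commutator with the root element of the plane
  have hu₁ : rt h π τ' 1 ∈ X := by
    have hs := hO.rt_mem_rat he hf hes hfs hef F₀.one_mem
    have h1 := conj_mem hs htX'
    have hsπ : rt h e f 1 π = π := by
      rw [rt_apply hei hfi hef (hO.swap hef), hO.swap hπf', hO.swap hπe']; simp
    have hsπ' : rt h e f 1 π' = π' + τ' := by
      rw [rt_apply hei hfi hef (hO.swap hef), hid, hτ', one_mul, one_mul]; abel
    rw [rt_conj (hO.iso _ hs) hπi hπ'i hππ' (hO.swap hππ'), hsπ, hsπ',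
      rt_add_right hπi hπ'i hτ'i (by simp [hπ'i, hτ'i, hπ'τ, hO.swap hπ'τ]) hππ' (hO.swap hππ') hπτ (hO.swap hπτ)
        (κ := 0) (by rw [map_zero, sub_zero, hπ'τ])] at h1
    have h0 : rt h π π (0 : F) = 1 := LinearEquiv.ext fun z => by rw [rt_apply hπi hπi hπi hπi]; simp
    rw [h0, mul_one] at h1
    have h2 := mul_mem (inv_mem htX') h1
    rwa [inv_mul_cancel_left] at h2
  -- it fixes `e`, so it is rational
  have hfix : rt h π τ' 1 e = e := by
    rw [rt_apply hπi hτ'i hπτ (hO.swap hπτ), hπe', show h τ' e = 0 from hiso τ' hτ'W e heW]; simp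
  set u₁ := rt h π τ' 1 with hu₁d
  have hrat : ∀ z, RV F₀ z → RV F₀ (u₁ z) := fun z hz => by
    refine rational_of_image (hO.ratty_of_move hC hu₁ he he hes hes he0 he0 (b := 1) (by rw [one_smul]; exact hfix))
      (P := Submodule.span F (Set.range ![π, τ'])) (fun z => mem2.2 ⟨h τ' z, -h π z, by
        rw [hu₁d, rt_apply hπi hτ'i hπτ (hO.swap hπτ), map_one, one_mul, one_mul]
        module⟩) ?_ hz
    have h1 := finrank_range_le_card (R := F) ![π, τ']
    rw [Set.finrank, Fintype.card_fin] at h1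
    omega
  set M := Submodule.span F (Set.range fun i => u₁ (Pi.single i 1) - Pi.single i 1) with hM
  have hMle : M ≤ Submodule.span F (Set.range ![π, τ']) := Submodule.span_le.2 (by
    rintro _ ⟨i, rfl⟩
    refine mem2.2 ⟨h τ' (Pi.single i 1), -h π (Pi.single i 1), ?_⟩
    show _ = u₁ (Pi.single i 1) - Pi.single i 1
    rw [hu₁d, rt_apply hπi hτ'i hπτ (hO.swap hπτ), map_one, one_mul, one_mul]
    module)
  have hτM : τ' ∈ M := by
    obtain ⟨z, hzτ, hzπ⟩ := hO.exists_sep (a := τ') (b := π) hπτm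
    have e1 : -τ' = ∑ i, z i • (u₁ (Pi.single i 1) - Pi.single i 1) := by
      simp only [smul_sub, Finset.sum_sub_distrib, ← map_smul, ← map_sum, ← eq_sum_single z]
      rw [hu₁d, rt_apply hπi hτ'i hπτ (hO.swap hπτ), hzτ, hzπ]
      simp
    have h3 : -τ' ∈ M := e1 ▸ sum_mem fun i _ => Submodule.smul_mem _ _ (Submodule.subset_span ⟨i, rfl⟩)
    simpa using h3
  have hτT : τ' ∈ Submodule.span F (Set.range ![e, f]) := mem2.2 ⟨h f π', -h e π', by rw [hτ']; module⟩
  by_contra hπW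
  obtain ⟨R, hR, hτR⟩ := line_of_inter (s₁ := Set.range fun i => u₁ (Pi.single i 1) - Pi.single i 1)
    (s₂ := Set.range ![e, f]) (by rintro _ ⟨i, rfl⟩; exact (hrat _ (rv_single i)).sub (rv_single i))
    (by rintro _ ⟨j, rfl⟩; fin_cases j <;> assumption) hτ0 hτM hτT fun z hz1 hz2 => by
      obtain ⟨r, r', hzr⟩ := mem2.1 (hMle hz1)
      obtain ⟨r₁, r₂, hze⟩ := mem2.1 hz2
      have hr : r = 0 := by_contra fun hr0 => hπW (by
        have h1 : r • π = z - r' • τ' := by rw [← hzr]; abel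
        have h2 : z ∈ W := by rw [← hze]; exact W.add_mem (W.smul_mem _ heW) (W.smul_mem _ hfW)
        exact (W.smul_mem_iff hr0).1 (h1 ▸ W.sub_mem h2 (W.smul_mem _ hτ'W)))
      exact Submodule.mem_span_singleton.2 ⟨r', by rw [← hzr, hr, zero_smul, zero_add]⟩
  obtain ⟨r, hr⟩ := Submodule.mem_span_singleton.1 hτR
  have hr0 : r ≠ 0 := fun e0 => hτ0 (by rw [← hr, e0, zero_smul])
  have hR0 : R ≠ 0 := fun e0 => hτ0 (by rw [← hr, e0, smul_zero])
  have hRW : R ∈ W := (W.smul_mem_iff hr0).1 (hr ▸ hτ'W)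
  refine hne R hR hRW hR0 ?_ ?_
  · rw [← hr, map_smul, smul_eq_mul] at hπτ
    exact (mul_eq_zero.1 hπτ).resolve_left hr0
  · rw [← hr, map_smul, smul_eq_mul] at hπ'τ
    exact (mul_eq_zero.1 hπ'τ).resolve_left hr0

/-- every conjugate of a rational root element is rational up to scalars, as long as the parameters are rational -/
theorem ratty_root (hO : OverR F₀ h sg X) (hC : ∀ l ∈ hO.C, l ∈ F₀) {g : (ι → F) ≃ₗ[F] (ι → F)} (hg : g ∈ X)
    {e₁ e₂ : ι → F} (he₁ : RV F₀ e₁) (he₂ : RV F₀ e₂) (he₁s : sg e₁) (he₂s : sg e₂) (he : h e₁ e₂ = 0) :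
    Ratty F₀ (rt h (g e₁) (g e₂) 1) := by
  have hcard := hO.card
  set a := g e₁ with ha
  set b := g e₂ with hb
  have has : sg a := hO.sg_map g hg _ he₁s
  have hbs : sg b := hO.sg_map g hg _ he₂s
  have hab : h a b = 0 := by rw [ha, hb, hO.iso g hg, he]
  have hai := hO.sg_iso _ has
  have hbi := hO.sg_iso _ hbs
  have htX : rt h a b 1 ∈ X := by
    rw [ha, hb, ← rt_conj (hO.iso g hg) (hO.sg_iso _ he₁s) (hO.sg_iso _ he₂s) he (hO.swap he)]
    exact conj_mem hg (hO.rt_mem_rat he₁ he₂ he₁s he₂s he F₀.one_mem)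
  set L : Submodule F (ι → F) := Submodule.span F (Set.range ![a, b]) with hL
  have hLp : ∀ z ∈ L, h a z = 0 ∧ h b z = 0 ∧ sg z := fun z hz => by
    obtain ⟨s, t, rfl⟩ := mem2.1 hz
    exact ⟨by simp [hai, hab], by simp [hbi, hO.swap hab],
      hO.sg_add _ _ (hO.sg_smul _ _ has) (hO.sg_smul _ _ hbs) (by simp [hab])⟩
  by_cases hR : ∃ R, RV F₀ R ∧ R ≠ 0 ∧ sg R ∧ h a R = 0 ∧ h b R = 0
  · obtain ⟨R, hR, hR0, hRs, h1, h2⟩ := hR
    refine hO.ratty_of_move hC htX hR hR hRs hRs hR0 hR0 (b := 1) ?_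
    rw [rt_apply hai hbi hab (hO.swap hab), h1, h2]
    simp
  push Not at hR
  have hperp : ∀ R, RV F₀ R → R ≠ 0 → sg R → h a R = 0 → h b R ≠ 0 := hR
  replace hR : ∀ R, RV F₀ R → R ≠ 0 → R ∉ L := fun R h1 h2 hm =>
    hperp R h1 h2 (hLp R hm).2.2 (hLp R hm).1 (hLp R hm).2.1
  -- choose the totally singular space
  obtain ⟨v, u, w, hv, hu, hw, hvs, hus, hws, huv, hwv, hwu, hPW⟩ : ∃ v u w : ι → F, RV F₀ v ∧ RV F₀ u ∧ RV F₀ w ∧ sg v ∧
      sg u ∧ sg w ∧ h u v = 0 ∧ h w v = 0 ∧ h w u = 0 ∧ (v ≠ 0 ∧ u ∉ F ∙ v ∧ w ∉ Submodule.span F (Set.range ![v, u]) ∧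
      ∀ x, RV F₀ x → x ∈ Submodule.span F (Set.range ![v, u, w]) ⊔ L → x ∈ Submodule.span F (Set.range ![v, u, w])) := by
    by_cases hid : ∀ a, τ a = a
    · obtain ⟨v, u, w, hv, hu, hw, hvs, hus, hws, huv, hwv, hwu, hind⟩ :=
        hO.exists_ts (U := ![]) (fun j => j.elim0) (by omega)
      have hv0 : v ≠ 0 := fun e => one_ne_zero (hind 1 0 0 (by simp [e])).1
      refine ⟨v, u, w, hv, hu, hw, hvs, hus, hws, huv, hwv, hwu, hv0, fun hm => ?_, fun hm => ?_, fun x hx hxm => ?_⟩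
      · obtain ⟨c, e⟩ := Submodule.mem_span_singleton.1 hm
        exact one_ne_zero (hind (-c) 1 0 (by rw [← e]; exact mem_of_eq_zero (by module))).2.1
      · obtain ⟨s, t, e⟩ := mem2.1 hm
        exact one_ne_zero (hind (-s) (-t) 1 (by rw [← e]; exact mem_of_eq_zero (by module))).2.2
      exact hO.mem_ts_of_mem_sup hC hid htX has hbs hab hperp hv hu hw hvs hus hws huv hwv hwu hind hx hxm
    by_contra hno
    have h10 : 10 ≤ Fintype.card ι := hO.low.resolve_right fun h' => hid h'.1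
    -- every totally singular rational space of dimension three meets the hull of the line
    have core : ∀ v u w : ι → F, RV F₀ v → RV F₀ u → RV F₀ w → sg v → sg u → sg w → h u v = 0 → h w v = 0 →
        h w u = 0 → v ≠ 0 → u ∉ F ∙ v → w ∉ Submodule.span F (Set.range ![v, u]) →
        ∃ x p π : ι → F, RV F₀ x ∧ p ∈ Submodule.span F (Set.range ![v, u, w]) ∧ π ∈ L ∧ π ≠ 0 ∧ x = p + π ∧
          π ∈ Submodule.span F (Set.range (Fin.append ![v, u, w] ![x])) := by
      intro v u w hv hu hw hvs hus hws huv hwv hwu hv0 hun hwn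
      obtain ⟨x, hx, hxm, hxn⟩ : ∃ x, RV F₀ x ∧ x ∈ Submodule.span F (Set.range ![v, u, w]) ⊔ L ∧
          x ∉ Submodule.span F (Set.range ![v, u, w]) := by
        by_contra! hgood
        exact hno ⟨v, u, w, hv, hu, hw, hvs, hus, hws, huv, hwv, hwu, hv0, hun, hwn, fun x hx hm => hgood x hx hm⟩
      obtain ⟨p, hp, π, hπ, e⟩ := Submodule.mem_sup.1 hxm
      refine ⟨x, p, π, hx, hp, hπ, fun h0 => hxn (by rw [← e, h0, add_zero]; exact hp), e.symm, ?_⟩
      rw [span_range_append]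
      have h1 : x ∈ Submodule.span F (Set.range ![x]) := Submodule.subset_span ⟨0, rfl⟩
      have h2 : π = x - p := by rw [← e, add_sub_cancel_left]
      rw [h2]
      exact sub_mem (Submodule.mem_sup_right h1) (Submodule.mem_sup_left hp)
    have hrv4 : ∀ {v u w x : ι → F}, RV F₀ v → RV F₀ u → RV F₀ w → RV F₀ x →
        ∀ z ∈ Set.range (Fin.append ![v, u, w] ![x]), RV F₀ z := by
      intro v u w x hv hu hw hx
      rintro _ ⟨j, rfl⟩
      refine Fin.addCases (fun i => ?_) (fun i => ?_) j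
      · rw [Fin.append_left]; fin_cases i <;> assumption
      · rw [Fin.append_right]; fin_cases i; assumption
    have bad : ∀ {k : ℕ} {U : Fin k → ι → F}, (∀ j, RV F₀ (U j)) → k + 4 < Fintype.card ι →
        ∃ S : Fin (3 + 1) → ι → F, (∀ j, RV F₀ (S j)) ∧ ∃ π ∈ L, π ≠ 0 ∧ π ∈ Submodule.span F (Set.range S) ∧
          (π ∈ Submodule.span F (Set.range U) → RV F₀ π) := by
      intro k U hU hk
      obtain ⟨v, u, w, hv, hu, hw, hvs, hus, hws, huv, hwv, hwu, hind⟩ := hO.exists_ts hU hk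
      have hv0 : v ≠ 0 := fun e => one_ne_zero (hind 1 0 0 (by simp [e])).1
      have hun : u ∉ F ∙ v := fun hm => by
        obtain ⟨c, e⟩ := Submodule.mem_span_singleton.1 hm
        exact one_ne_zero (hind (-c) 1 0 (by rw [← e]; exact mem_of_eq_zero (by module))).2.1
      have hwn : w ∉ Submodule.span F (Set.range ![v, u]) := fun hm => by
        obtain ⟨s, t, e⟩ := mem2.1 hm
        exact one_ne_zero (hind (-s) (-t) 1 (by rw [← e]; exact mem_of_eq_zero (by module))).2.2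
      obtain ⟨x, p, π, hx, hp, hπ, hπ0, e, hπS⟩ := core v u w hv hu hw hvs hus hws huv hwv hwu hv0 hun hwn
      refine ⟨_, fun j => hrv4 hv hu hw hx _ ⟨j, rfl⟩, π, hπ, hπ0, hπS, fun hπU => ?_⟩
      refine rv_of_decomp (sW := Set.range ![v, u, w]) (by rintro _ ⟨j, rfl⟩; fin_cases j <;> assumption)
        (by rintro _ ⟨j, rfl⟩; exact hU j) (fun z hz hzU => ?_) hx hp hπU e
      obtain ⟨r', s', t', rfl⟩ := mem3.1 hz
      obtain ⟨h1, h2, h3⟩ := hind r' s' t' hzU
      rw [h1, h2, h3]; simp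
    -- two proportional or spanning vectors of the line
    have two : ∀ {π π' : ι → F}, π ∈ L → π' ∈ L → π ≠ 0 → π' ∉ F ∙ π → ∀ M : Submodule F (ι → F),
        π ∈ M → π' ∈ M → L ≤ M := by
      intro π π' hπ hπ' hπ0 hind2 M hM hM'
      have hle : Submodule.span F (Set.range ![π, π']) ≤ M := Submodule.span_le.2 (by
        rintro _ ⟨j, rfl⟩
        fin_cases j <;> assumption)
      refine le_trans (le_of_eq ?_) hle
      refine (Submodule.eq_of_le_of_finrank_le (Submodule.span_le.2 (by rintro _ ⟨j, rfl⟩; fin_cases j <;> assumption)) ?_).symm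
      have hli : LinearIndependent F ![π, π'] :=
        (LinearIndependent.pair_iff' hπ0).2 fun c e => hind2 (Submodule.mem_span_singleton.2 ⟨c, e⟩)
      rw [finrank_span_eq_card hli, hL]
      exact finrank_range_le_card (R := F) ![a, b]
    -- the line is in no rational space of dimension five
    have hA : ∀ {k : ℕ} {U : Fin k → ι → F}, (∀ j, RV F₀ (U j)) → k ≤ 5 → ¬ L ≤ Submodule.span F (Set.range U) := by
      intro k U hU hk hLU
      obtain ⟨S, -, π, hπL, hπ0, -, hπU⟩ := bad hU (by omega)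
      exact hR π (hπU (hLU hπL)) hπ0 hπL
    have hext : ∀ {d : ℕ} (f : Fin d → ι → F), (∀ j, RV F₀ (f j)) → d ≤ 4 → ∀ π ∈ L, π ≠ 0 →
        π ∈ Submodule.span F (Set.range f) → ∃ H : Fin (d + (3 + 1)) → ι → F, (∀ j, RV F₀ (H j)) ∧
          L ≤ Submodule.span F (Set.range H) := by
      intro d f hf hd π hπ hπ0 hπf
      obtain ⟨S, hS, π', hπ', hπ'0, hπ'S, hπ'U⟩ := bad hf (by omega)
      refine ⟨Fin.append f S, fun j => ?_, ?_⟩
      · refine Fin.addCases (fun i => ?_) (fun i => ?_) j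
        · rw [Fin.append_left]; exact hf i
        · rw [Fin.append_right]; exact hS _
      · rw [span_range_append]
        exact two hπ hπ' hπ0 (fun hm => hR π' (hπ'U (Submodule.span_le.2 (Set.singleton_subset_iff.2 hπf) hm)) hπ'0 hπ')
          _ (Submodule.mem_sup_left hπf) (Submodule.mem_sup_right hπ'S)
    -- an eight-dimensional hull, then a seven-dimensional one
    obtain ⟨S₁, hS₁, π₁, hπ₁, hπ₁0, hπ₁S, -⟩ := bad (U := ![]) (fun j => j.elim0) (by omega)
    obtain ⟨H, hH, hLH⟩ := hext S₁ hS₁ le_rfl π₁ hπ₁ hπ₁0 hπ₁S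
    obtain ⟨v, hv, hvs, -, hvn⟩ := hO.exists_sg_avoid (p := ![]) (w := H) (fun j => j.elim0) hH (by omega) (by omega)
    obtain ⟨u, hu, hus, hup, hun⟩ := hO.exists_sg_avoid (p := ![v]) (w := ![v]) (by intro j; fin_cases j; assumption)
      (by intro j; fin_cases j; assumption) (by omega) (by omega)
    obtain ⟨w, hw, hws, hwp, hwn⟩ := hO.exists_sg_avoid (p := ![v, u]) (w := ![v, u])
      (by intro j; fin_cases j <;> assumption) (by intro j; fin_cases j <;> assumption) (by omega) (by omega)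
    have hv0 : v ≠ 0 := fun e => hvn (e ▸ Submodule.zero_mem _)
    obtain ⟨x, p, π, hx, hp, hπ, hπ0, e, hπS⟩ :=
      core v u w hv hu hw hvs hus hws (hup 0) (hwp 0) (hwp 1) hv0 (fun hm => hun (mem1.2 hm)) hwn
    obtain ⟨f, hf, hfs, -⟩ := Submodule.exists_fun_fin_finrank_span_eq F
      {z | RV F₀ z ∧ z ∈ Submodule.span F (Set.range (Fin.append ![v, u, w] ![x])) ∧ z ∈ Submodule.span F (Set.range H)}
    have hdim : ∀ {m : ℕ} {H : Fin m → ι → F} {v u w x : ι → F},
        finrank F (Submodule.span F {z | RV F₀ z ∧ z ∈ Submodule.span F (Set.range (Fin.append ![v, u, w] ![x])) ∧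
          z ∈ Submodule.span F (Set.range H)}) ≤
        finrank F (Submodule.span F (Set.range H) ⊓ Submodule.span F (Set.range ![v, u, w]) : Submodule F (ι → F)) + 1 := by
      intro m H v u w x
      refine (Submodule.finrank_mono (t := Submodule.span F (Set.range H) ⊓
        Submodule.span F (Set.range (Fin.append ![v, u, w] ![x]))) (Submodule.span_le.2 fun z hz => ⟨hz.2.2, hz.2.1⟩)).trans ?_
      rw [span_range_append]
      refine (finrank_inf_sup_le _ _ _).trans (Nat.add_le_add_left ?_ _)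
      exact finrank_range_le_card (R := F) ![x]
    have hWH : finrank F (Submodule.span F (Set.range H) ⊓ Submodule.span F (Set.range ![v, u, w]) : Submodule F (ι → F))
        ≤ 2 := by
      have h3 := finrank_range_le_card (R := F) ![v, u, w]
      rw [Set.finrank, Fintype.card_fin] at h3
      have hlt : Submodule.span F (Set.range H) ⊓ Submodule.span F (Set.range ![v, u, w]) <
          Submodule.span F (Set.range ![v, u, w]) :=
        lt_of_le_of_ne inf_le_right fun he => hvn (inf_eq_right.1 he (Submodule.subset_span ⟨0, rfl⟩))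
      have := Submodule.finrank_lt_finrank_of_lt hlt
      omega
    have hd3 := hdim (H := H) (v := v) (u := u) (w := w) (x := x)
    obtain ⟨H', hH', hLH'⟩ := hext f (fun j => (hf j).1) (by omega) π hπ hπ0 (by
      rw [hfs]
      exact rat_inter (hrv4 hv hu hw hx) (by rintro _ ⟨j, rfl⟩; exact hH j) hπS (hLH hπ))
    -- a rational plane of that hull holding all points of the line that lie in rational planes of it
    set M : Submodule F (ι → F) := Submodule.span F (Set.range H') with hM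
    obtain ⟨R₂, hR₂, hR₂M, hall⟩ : ∃ R₂ : Fin 2 → ι → F, (∀ j, RV F₀ (R₂ j)) ∧ (∀ j, R₂ j ∈ M) ∧
        ∀ (d : ℕ) (Z : Fin d → ι → F), d ≤ 2 → (∀ j, RV F₀ (Z j)) → (∀ j, Z j ∈ M) → ∀ π ∈ L, π ≠ 0 →
          π ∈ Submodule.span F (Set.range Z) → π ∈ Submodule.span F (Set.range R₂) := by
      by_cases hex : ∃ R₂ : Fin 2 → ι → F, (∀ j, RV F₀ (R₂ j)) ∧ (∀ j, R₂ j ∈ M) ∧
          ∃ π ∈ L, π ≠ 0 ∧ π ∈ Submodule.span F (Set.range R₂)
      · obtain ⟨R₂, hR₂, hR₂M, π₂, hπ₂, hπ₂0, hπ₂R⟩ := hex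
        refine ⟨R₂, hR₂, hR₂M, fun d Z hd hZ _ π hπ hπ0 hπZ => by_contra fun hn => hA (U := Fin.append R₂ Z)
          (fun j => ?_) (by omega) ?_⟩
        · refine Fin.addCases (fun i => ?_) (fun i => ?_) j
          · rw [Fin.append_left]; exact hR₂ i
          · rw [Fin.append_right]; exact hZ _
        · rw [span_range_append]
          exact two hπ₂ hπ hπ₂0 (fun hm => hn (Submodule.span_le.2 (Set.singleton_subset_iff.2 hπ₂R) hm))
            _ (Submodule.mem_sup_left hπ₂R) (Submodule.mem_sup_right hπZ)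
      · refine ⟨fun _ => 0, fun _ _ => F₀.zero_mem, fun _ => M.zero_mem, fun d Z hd hZ hZM π hπ hπ0 hπZ =>
          absurd ⟨fun j => if hj : (j : ℕ) < d then Z ⟨j, hj⟩ else 0, fun j => ?_, fun j => ?_, π, hπ, hπ0,
            Submodule.span_le.2 ?_ hπZ⟩ hex⟩
        · by_cases hj : (j : ℕ) < d
          · simp only [dif_pos hj]; exact hZ _
          · simp only [dif_neg hj]; exact fun _ => F₀.zero_mem
        · by_cases hj : (j : ℕ) < d
          · simp only [dif_pos hj]; exact hZM _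
          · simp only [dif_neg hj]; exact M.zero_mem
        · rintro _ ⟨i, rfl⟩
          refine Submodule.subset_span ⟨⟨i, by omega⟩, ?_⟩
          simp
    obtain ⟨v', hv', hv's, -, hv'n⟩ :=
      hO.exists_sg_avoid (p := ![]) (w := H') (fun j => j.elim0) hH' (by omega) (by omega)
    obtain ⟨u', hu', hu's, hu'p, hu'n⟩ := hO.exists_sg_avoid (p := ![v']) (w := Fin.cons v' H')
      (by intro j; fin_cases j; assumption) (by intro j; cases j using Fin.cases <;> simp [hv', hH']) (by omega) (by omega)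
    obtain ⟨w', hw', hw's, hw'p, hw'n⟩ := hO.exists_sg_avoid (p := ![v', u']) (w := Fin.cons u' (Fin.cons v' R₂))
      (by intro j; fin_cases j <;> assumption) (by
        intro j
        cases j using Fin.cases with
        | zero => exact hu'
        | succ j => cases j using Fin.cases <;> simp [hv', hR₂]) (by omega) (by omega)
    rw [Fin.range_cons] at hu'n
    rw [Fin.range_cons, Fin.range_cons] at hw'n
    have hvu : ∀ r s : F, r • v' + s • u' ∈ M → r = 0 ∧ s = 0 := by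
      intro r s hm
      have hs : s = 0 := by
        by_contra hs
        refine hu'n ((Submodule.smul_mem_iff _ hs).1 ?_)
        have h1 : r • v' + s • u' - r • v' ∈ Submodule.span F (insert v' (Set.range H')) :=
          sub_mem (Submodule.span_mono (fun z hz => Or.inr hz) hm)
            (Submodule.smul_mem _ r (Submodule.subset_span (Or.inl rfl)))
        rwa [add_sub_cancel_left] at h1
      refine ⟨by_contra fun hr => hv'n ?_, hs⟩
      rw [hs, zero_smul, add_zero] at hm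
      exact (M.smul_mem_iff hr).1 hm
    have hind : ∀ r s t : F, r • v' + s • u' + t • w' ∈ Submodule.span F (Set.range R₂) → r = 0 ∧ s = 0 ∧ t = 0 := by
      intro r s t hm
      have ht : t = 0 := by
        by_contra ht
        refine hw'n ((Submodule.smul_mem_iff _ ht).1 ?_)
        have h1 : r • v' + s • u' + t • w' - (r • v' + s • u') ∈ Submodule.span F (insert u' (insert v' (Set.range R₂))) :=
          sub_mem (Submodule.span_mono (fun z hz => Or.inr (Or.inr hz)) hm)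
            (add_mem (Submodule.smul_mem _ r (Submodule.subset_span (Or.inr (Or.inl rfl))))
              (Submodule.smul_mem _ s (Submodule.subset_span (Or.inl rfl))))
        rwa [add_sub_cancel_left] at h1
      rw [ht, zero_smul, add_zero] at hm
      obtain ⟨h1, h2⟩ := hvu r s (Submodule.span_le.2 (by rintro _ ⟨j, rfl⟩; exact hR₂M j) hm)
      exact ⟨h1, h2, ht⟩
    obtain ⟨x', p', π', hx', hp', hπ', hπ'0, e', hπ'S⟩ := core v' u' w' hv' hu' hw' hv's hu's hw's (hu'p 0) (hw'p 0)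
      (hw'p 1) (fun e => hv'n (e ▸ Submodule.zero_mem _)) (fun hm => hu'n (by
        obtain ⟨c, ec⟩ := Submodule.mem_span_singleton.1 hm
        rw [← ec]
        exact Submodule.smul_mem _ _ (Submodule.subset_span (Or.inl rfl)))) (fun hm => hw'n (by
        obtain ⟨s, t, ec⟩ := mem2.1 hm
        rw [← ec]
        exact add_mem (Submodule.smul_mem _ _ (Submodule.subset_span (Or.inr (Or.inl rfl))))
          (Submodule.smul_mem _ _ (Submodule.subset_span (Or.inl rfl)))))
    obtain ⟨f', hf', hfs', -⟩ := Submodule.exists_fun_fin_finrank_span_eq F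
      {z | RV F₀ z ∧ z ∈ Submodule.span F (Set.range (Fin.append ![v', u', w'] ![x'])) ∧ z ∈ M}
    have hWM : finrank F (M ⊓ Submodule.span F (Set.range ![v', u', w']) : Submodule F (ι → F)) ≤ 1 := by
      rw [show Submodule.span F (Set.range ![v', u', w']) = Submodule.span F (Set.range (Fin.append ![v', u'] ![w'])) from
        congrArg _ (congrArg Set.range (funext fun j => by fin_cases j <;> rfl)), span_range_append]
      refine (finrank_inf_sup_le _ _ _).trans ?_
      rw [show M ⊓ Submodule.span F (Set.range ![v', u']) = ⊥ by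
        refine (Submodule.eq_bot_iff _).2 fun z hz => ?_
        obtain ⟨r, s, rfl⟩ := mem2.1 hz.2
        obtain ⟨h1, h2⟩ := hvu r s hz.1
        rw [h1, h2]; simp, finrank_bot, zero_add]
      exact finrank_range_le_card (R := F) ![w']
    have hπ'R : π' ∈ Submodule.span F (Set.range R₂) := by
      refine hall _ f' ?_ (fun j => (hf' j).1) (fun j => (hf' j).2.2) π' hπ' hπ'0 ?_
      · have := hdim (H := H') (v := v') (u := u') (w := w') (x := x')
        rw [← hM] at this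
        omega
      · rw [hfs']
        exact rat_inter (hrv4 hv' hu' hw' hx') (by rintro _ ⟨j, rfl⟩; exact hH' j) hπ'S (hLH' hπ')
    refine hR π' (rv_of_decomp (sW := Set.range ![v', u', w']) (by rintro _ ⟨j, rfl⟩; fin_cases j <;> assumption)
      (by rintro _ ⟨j, rfl⟩; exact hR₂ j) (fun z hz hzR => ?_) hx' hp' hπ'R e') hπ'0 hπ'
    obtain ⟨r, s, t, rfl⟩ := mem3.1 hz
    obtain ⟨h1, h2, h3⟩ := hind r s t hzR
    rw [h1, h2, h3]; simp
  obtain ⟨hv0, hun, hwn, hPW⟩ := hPW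
  set W : Submodule F (ι → F) := Submodule.span F (Set.range ![v, u, w]) with hW
  set P : Submodule F (ι → F) := W ⊔ L with hP
  have hWP : W ≤ P := le_sup_left
  have hvW : v ∈ W := Submodule.subset_span ⟨0, rfl⟩
  have huW : u ∈ W := Submodule.subset_span ⟨1, rfl⟩
  have hwW : w ∈ W := Submodule.subset_span ⟨2, rfl⟩
  have hWs : ∀ z ∈ W, sg z := fun z hz => hO.sg_span3 hvs hus hws huv hwv hwu hz
  have hiso : ∀ p ∈ W, ∀ q ∈ W, h p q = 0 := fun p hp q hq => by
    obtain ⟨r, s, t, rfl⟩ := mem3.1 hp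
    obtain ⟨r', s', t', rfl⟩ := mem3.1 hq
    simp [huv, hwv, hwu, hO.swap huv, hO.swap hwv, hO.swap hwu, hO.sg_iso _ hvs, hO.sg_iso _ hus, hO.sg_iso _ hws]
  have hli3 : LinearIndependent F ![v, u, w] := by
    rw [Fintype.linearIndependent_iff]
    intro c hc
    rw [Fin.sum_univ_three] at hc
    have hc' : c 0 • v + c 1 • u + c 2 • w = 0 := hc
    have h2 : c 2 = 0 := by
      by_contra h
      exact hwn (mem2.2 ⟨-(c 0 / c 2), -(c 1 / c 2), by
        exact smul_right_injective _ h (by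
          show c 2 • (-(c 0 / c 2) • v + -(c 1 / c 2) • u) = c 2 • w
          rw [smul_add, smul_smul, smul_smul, mul_neg, mul_neg, mul_div_cancel₀ _ h, mul_div_cancel₀ _ h]
          linear_combination (norm := module) -(1 : F) • hc')⟩)
    rw [h2, zero_smul, add_zero] at hc'
    have h1 : c 1 = 0 := by
      by_contra h
      exact hun (Submodule.mem_span_singleton.2 ⟨-(c 0 / c 1), smul_right_injective _ h (by
        show c 1 • (-(c 0 / c 1) • v) = c 1 • u
        rw [smul_smul, mul_neg, mul_div_cancel₀ _ h]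
        linear_combination (norm := module) -(1 : F) • hc')⟩)
    rw [h1, zero_smul, add_zero] at hc'
    have h0 : c 0 = 0 := (smul_eq_zero.1 hc').resolve_right hv0
    intro i; fin_cases i <;> assumption
  have hP5 : finrank F P ≤ 5 := by
    have h1 := Submodule.finrank_add_le_finrank_add_finrank W L
    have h2 := finrank_range_le_card (R := F) ![v, u, w]
    have h3 := finrank_range_le_card (R := F) ![a, b]
    rw [Set.finrank, Fintype.card_fin, ← hW] at h2
    rw [Set.finrank, Fintype.card_fin, ← hL] at h3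
    rw [← hP] at h1
    omega
  let G : Subgroup ((ι → F) ≃ₗ[F] (ι → F)) :=
    { carrier := {x | x ∈ X ∧ ∀ z, x z - z ∈ P}
      mul_mem' := fun {x y} hx hy => ⟨mul_mem hx.1 hy.1, fun z => by
        rw [LinearEquiv.mul_apply, ← sub_add_sub_cancel (x (y z)) (y z) z]
        exact add_mem (hx.2 _) (hy.2 _)⟩
      one_mem' := ⟨one_mem X, fun z => by simp⟩
      inv_mem' := fun {x} hx => ⟨inv_mem hx.1, fun z => by
        have := hx.2 (x⁻¹ z)
        rw [apply_inv] at this
        rw [← neg_sub]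
        exact neg_mem this⟩ }
  let S : Subgroup G :=
    { carrier := {x | ∀ z ∈ W, (x : (ι → F) ≃ₗ[F] (ι → F)) z = z}
      mul_mem' := fun {x y} hx hy z hz => by
          show ((x : (ι → F) ≃ₗ[F] (ι → F)) * y) z = z
          rw [LinearEquiv.mul_apply, hy z hz, hx z hz]
      one_mem' := fun z _ => rfl
      inv_mem' := fun {x} hx z hz => by
          show ((x : (ι → F) ≃ₗ[F] (ι → F)))⁻¹ z = z
          conv_lhs => rw [← hx z hz]
          exact inv_apply _ _ }
  have hrat : ∀ x : (ι → F) ≃ₗ[F] (ι → F), x ∈ G → Ratty F₀ x →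
      (∀ z, RV F₀ z → RV F₀ (x z)) ∧ ∀ z, x z - z ∈ W := fun x hx hr => by
    have h1 : ∀ z, RV F₀ z → RV F₀ (x z) := fun z hz => by
     rcases hO.low with h10 | ⟨-, -, hscal⟩
     swap
     · exact hscal x hx.1 hr z hz
     exact rational_of_image' hr hx.2 (show 2 * finrank F P ≤ Fintype.card ι by omega) (fun ρ _ hρ1 hρP hex => by
      -- the fixed space is orthogonal to the image
      obtain ⟨K, hKdim, hKfix, hKP⟩ := hex
      have horth : ∀ k ∈ K, ∀ p ∈ P, h k p = 0 := fun k hk p hp => by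
        have h0 := hO.iso x hx.1 k p
        rw [hKfix k hk, hρP p hp, map_smul, smul_eq_mul] at h0
        exact (mul_eq_zero.1 (show (ρ - 1) * h k p = 0 by rw [sub_mul, one_mul, h0, sub_self])).resolve_left
          (sub_ne_zero.2 hρ1)
      have hWrefl : K ⊔ W ≤ ⨅ p ∈ W, LinearMap.ker (h p) := by
        refine sup_le (fun k hk => ?_) fun q hq => ?_ <;> simp only [Submodule.mem_iInf, LinearMap.mem_ker] <;> intro p hp
        · exact hO.swap (horth k hk p (hWP hp))
        · exact hiso p hp q hq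
      let T : (ι → F) →ₗ[F] (Fin 3 → F) := LinearMap.pi fun j => h (![v, u, w] j)
      have hker : (⨅ p ∈ W, LinearMap.ker (h p)) ≤ LinearMap.ker T := fun z hz => by
        simp only [Submodule.mem_iInf, LinearMap.mem_ker] at hz
        rw [LinearMap.mem_ker]; funext j
        exact hz _ (Submodule.subset_span ⟨j, rfl⟩)
      have hTs : Function.Surjective T := by
        rw [← LinearMap.range_eq_top]
        by_contra hne
        obtain ⟨φ, hφ, hle⟩ := (LinearMap.range T).exists_le_ker_of_lt_top (lt_top_iff_ne_top.2 hne)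
        refine hφ (LinearMap.ext fun c => ?_)
        have hz : ∑ j, τ (φ (Pi.single j 1)) • ![v, u, w] j = 0 := hO.nd _ fun y => by
          have := LinearMap.mem_ker.1 (hle ⟨y, rfl⟩)
          rw [pi_eq_sum_univ' (T y), map_sum] at this
          simp only [map_smul, smul_eq_mul] at this
          simp only [map_sum, map_smulₛₗ, LinearMap.sum_apply, LinearMap.smul_apply, smul_eq_mul, hO.invol]
          rw [← this]
          exact Finset.sum_congr rfl fun i _ => mul_comm _ _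
        have h0 := Fintype.linearIndependent_iff.1 hli3 _ hz
        rw [pi_eq_sum_univ' c, map_sum, LinearMap.zero_apply]
        refine Finset.sum_eq_zero fun i _ => ?_
        rw [map_smul, show φ (Pi.single i 1) = 0 from (map_eq_zero τ).1 (h0 i), smul_zero]
      have e1 := LinearMap.finrank_range_add_finrank_ker T
      rw [LinearMap.range_eq_top.2 hTs, finrank_top, Module.finrank_fin_fun, Module.finrank_fintype_fun_eq_card] at e1
      have e2 := Submodule.finrank_mono (hWrefl.trans hker)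
      have e3 := Submodule.finrank_sup_add_finrank_inf_eq K W
      have e4 : K ⊓ W = ⊥ := eq_bot_iff.2 fun z hz => by
        have := hρP z (hWP hz.2)
        rw [hKfix z hz.1] at this
        by_contra hz0
        exact hρ1 (smul_left_injective F hz0 (this.symm.trans (one_smul F z).symm))
      have e5 : finrank F W = 3 := by
        rw [hW, finrank_span_eq_card hli3]; rfl
      rw [e4, finrank_bot] at e3
      omega) hz
    refine ⟨h1, fun z => ?_⟩
    rw [eq_sum_single z, map_sum, ← Finset.sum_sub_distrib]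
    refine sum_mem fun j _ => ?_
    rw [map_smul, ← smul_sub]
    exact W.smul_mem _ (hPW _ ((h1 _ (rv_single j)).sub (rv_single j)) (hx.2 _))
  have hfix : ∀ x : (ι → F) ≃ₗ[F] (ι → F), x ∈ G → (∀ z, x z - z ∈ W) → ∀ p ∈ W, x p = p := fun x hx hxW p hp => by
    have hd := hxW p
    refine sub_eq_zero.1 (hO.nd _ fun z => hO.swap ?_)
    have h1 := hO.iso x hx.1 z p
    rw [show x z = z + (x z - z) by abel, show x p = p + (x p - p) by abel] at h1
    simp only [map_add, LinearMap.add_apply, hiso _ (hxW z) _ hp, hiso _ (hxW z) _ hd, add_zero] at h1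
    exact add_eq_left.1 h1
  have hfix1 : ∀ x : G, (∃ R, RV F₀ R ∧ R ∈ W ∧ R ≠ 0 ∧ (x : (ι → F) ≃ₗ[F] (ι → F)) R = R) →
      Ratty F₀ (x : (ι → F) ≃ₗ[F] (ι → F)) := fun x ⟨R, hR, hRW, hR0, hxR⟩ =>
    hO.ratty_of_move hC x.2.1 hR hR (hWs R hRW) (hWs R hRW) hR0 hR0 (b := 1) (by rw [one_smul]; exact hxR)
  have hS : ∀ x : G, x ∈ S → (∀ z, RV F₀ z → RV F₀ ((x : (ι → F) ≃ₗ[F] (ι → F)) z)) ∧
      ∀ z, (x : (ι → F) ≃ₗ[F] (ι → F)) z - z ∈ W := fun x hx =>
    hrat x x.2 (hfix1 x ⟨v, hv, hvW, hv0, hx v hvW⟩)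
  have hS' : ∀ x : G, Ratty F₀ (x : (ι → F) ≃ₗ[F] (ι → F)) → x ∈ S := fun x hx => hfix _ x.2 (hrat _ x.2 hx).2
  have hrtG : ∀ p q : ι → F, h p p = 0 → h q q = 0 → h p q = 0 → p ∈ P → q ∈ P → rt h p q 1 ∈ X → rt h p q 1 ∈ G :=
    fun p q hp hq hpq hpP hqP hX => ⟨hX, fun z => by
      rw [rt_apply hp hq hpq (hO.swap hpq), add_sub_assoc, add_sub_cancel_left]
      exact sub_mem (P.smul_mem _ hpP) (P.smul_mem _ hqP)⟩
  haveI : Finite ((ι → F) ≃ₗ[F] (ι → F)) := Finite.of_injective (fun g => (g : (ι → F) → (ι → F))) DFunLike.coe_injective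
  have hmal : ∀ x : G, x ∉ S → ∀ c ∈ S, x * c * x⁻¹ ∈ S → c = 1 := by
    intro x hxS c hc hxc
    by_contra hc1
    set y := (x : (ι → F) ≃ₗ[F] (ι → F)) with hy
    have hne : ∀ d : G, d ≠ 1 → ∃ j, (d : (ι → F) ≃ₗ[F] (ι → F)) (Pi.single j 1) ≠ Pi.single j 1 := fun d hd => by
      by_contra! hc
      refine hd (Subtype.ext (LinearEquiv.ext fun z => ?_))
      show (d : (ι → F) ≃ₗ[F] (ι → F)) z = z
      conv_lhs => rw [eq_sum_single z, map_sum]
      conv_rhs => rw [eq_sum_single z]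
      simp [hc]
    obtain ⟨j, hj⟩ := hne c hc1
    obtain ⟨j', hj'⟩ := hne (x * c * x⁻¹) (fun e => hc1 (by simpa using e))
    set r := (c : (ι → F) ≃ₗ[F] (ι → F)) (Pi.single j 1) - Pi.single j 1 with hr
    have hrR : RV F₀ r := ((hS c hc).1 _ (rv_single j)).sub (rv_single j)
    have hrW : r ∈ W := (hS c hc).2 _
    have hr0 : r ≠ 0 := sub_ne_zero.2 hj
    have hconj : ∀ z, ((x * c * x⁻¹ : G) : (ι → F) ≃ₗ[F] (ι → F)) (y z) - y z = y ((c : (ι → F) ≃ₗ[F] (ι → F)) z - z) := fun z => by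
      rw [Subgroup.coe_mul, Subgroup.coe_mul, Subgroup.coe_inv, LinearEquiv.mul_apply, LinearEquiv.mul_apply, ← hy, inv_apply,
        map_sub]
    have hyr : y r ∈ W := by rw [hr, ← hconj]; exact (hS _ hxc).2 _
    set r' := (c : (ι → F) ≃ₗ[F] (ι → F)) (y⁻¹ (Pi.single j' 1)) - y⁻¹ (Pi.single j' 1) with hr'
    have hr'W : r' ∈ W := (hS c hc).2 _
    set R := ((x * c * x⁻¹ : G) : (ι → F) ≃ₗ[F] (ι → F)) (Pi.single j' 1) - Pi.single j' 1 with hRd
    have hRR : RV F₀ R := ((hS _ hxc).1 _ (rv_single j')).sub (rv_single j')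
    have hRW : R ∈ W := (hS _ hxc).2 _
    have hRy : R = y r' := by
      rw [hr', ← hconj, apply_inv]
    have hR0 : R ≠ 0 := sub_ne_zero.2 hj'
    -- the space is preserved
    have hyW : ∀ p, RV F₀ p → p ∈ W → y p ∈ W := fun p hp hpW => by
      have hX : rt h (y r) (y p) 1 ∈ X := by
        rw [← rt_conj (hO.iso y x.2.1) (hO.sg_iso _ (hWs r hrW)) (hO.sg_iso _ (hWs p hpW)) (hiso _ hrW _ hpW) (hiso _ hpW _ hrW)]
        exact conj_mem x.2.1 (hO.rt_mem_rat hrR hp (hWs r hrW) (hWs p hpW) (hiso _ hrW _ hpW) F₀.one_mem)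
      have hi1 : h (y r) (y r) = 0 := hiso _ hyr _ hyr
      have hi2 : h (y p) (y p) = 0 := by rw [hO.iso y x.2.1, hiso _ hpW _ hpW]
      have hi3 : h (y r) (y p) = 0 := by rw [hO.iso y x.2.1, hiso _ hrW _ hpW]
      have hypP : y p ∈ P := by
        have := P.add_mem (x.2.2 p) (hWP hpW)
        rwa [sub_add_cancel] at this
      have hm := hrtG _ _ hi1 hi2 hi3 (hWP hyr) hypP hX
      have hfixR : rt h (y r) (y p) 1 R = R := by
        rw [rt_apply hi1 hi2 hi3 (hO.swap hi3), hiso _ hyr _ hRW, show h (y p) R = 0 by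
          rw [hRy, hO.iso y x.2.1, hiso _ hpW _ hr'W]]
        simp
      have hr2 := hfix1 ⟨_, hm⟩ ⟨R, hRR, hRW, hR0, hfixR⟩
      obtain ⟨z, hz⟩ : ∃ z, h (y r) z ≠ 0 := by
        by_contra! hc'
        exact hr0 (y.map_eq_zero_iff.1 (hO.nd _ hc'))
      have h3 := (hrat _ hm hr2).2 z
      rw [rt_apply hi1 hi2 hi3 (hO.swap hi3), add_sub_assoc, add_sub_cancel_left, map_one, one_mul, one_mul] at h3
      have h4 := sub_mem (W.smul_mem (h (y p) z) hyr) h3
      rw [sub_sub_cancel] at h4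
      exact (W.smul_mem_iff hz).1 h4
    have hyv := hyW v hv hvW
    have hyu := hyW u hu huW
    have hyw := hyW w hw hwW
    have hpl : ∀ q, RV F₀ q → q ∈ W → y q ∈ W → ∀ z, RV F₀ z → RV F₀ (rt h (y v) (y q) 1 z) := fun q hq hqW hyq => by
      have hX : rt h (y v) (y q) 1 ∈ X := by
        rw [← rt_conj (hO.iso y x.2.1) (hiso _ hvW _ hvW) (hiso _ hqW _ hqW) (hiso _ hvW _ hqW) (hiso _ hqW _ hvW)]
        exact conj_mem x.2.1 (hO.rt_mem_rat hv hq hvs (hWs q hqW) (hiso _ hvW _ hqW) F₀.one_mem)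
      have hm := hrtG _ _ (hiso _ hyv _ hyv) (hiso _ hyq _ hyq) (hiso _ hyv _ hyq) (hWP hyv) (hWP hyq) hX
      exact (hrat _ hm (hfix1 ⟨_, hm⟩ ⟨v, hv, hvW, hv0, by
        show rt h (y v) (y q) 1 v = v
        rw [rt_apply (hiso _ hyv _ hyv) (hiso _ hyq _ hyq) (hiso _ hyv _ hyq) (hiso _ hyq _ hyv), hiso _ hyv _ hvW,
          hiso _ hyq _ hvW]
        simp⟩)).1
    obtain ⟨q, hq, hyq⟩ := hO.line_of_planes (hWs _ hyv) (hWs _ hyu) (hWs _ hyw) (hiso _ hyv _ hyu) (hiso _ hyv _ hyw)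
      (fun e => hv0 (y.map_eq_zero_iff.1 e))
      (fun hm => by
        obtain ⟨s, e⟩ := Submodule.mem_span_singleton.1 hm
        exact hun (Submodule.mem_span_singleton.2 ⟨s, y.injective (by rw [map_smul, e])⟩))
      (fun hm => by
        obtain ⟨s, t, e⟩ := mem2.1 hm
        exact hwn (mem2.2 ⟨s, t, y.injective (by rw [map_add, map_smul, map_smul, e])⟩))
      (hpl u hu huW hyu) (hpl w hw hwW hyw)
    obtain ⟨s, hs⟩ := Submodule.mem_span_singleton.1 hyq
    have hq0 : q ≠ 0 := fun e => hv0 (y.map_eq_zero_iff.1 (by rw [← hs, e, smul_zero]))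
    have hs0 : s ≠ 0 := fun e => hv0 (y.map_eq_zero_iff.1 (by rw [← hs, e, zero_smul]))
    have hqs : sg q := by
      have := hO.sg_smul _ s⁻¹ (hWs _ hyv)
      rwa [← hs, smul_smul, inv_mul_cancel₀ hs0, one_smul] at this
    exact hxS (hS' x (hO.ratty_of_move hC x.2.1 hv hq hvs hqs hv0 hq0 hs.symm))
  obtain ⟨p, hp⟩ := CharP.exists F
  have hpow : ∀ c : G, c ∈ S → ∀ (n : ℕ) (z : ι → F),
      ((c ^ n : G) : (ι → F) ≃ₗ[F] (ι → F)) z = z + (n : F) • ((c : (ι → F) ≃ₗ[F] (ι → F)) z - z) := fun c hc n => by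
    induction n with
    | zero => intro z; simp
    | succ n ih =>
      intro z
      rw [pow_succ', Subgroup.coe_mul, LinearEquiv.mul_apply, ih, map_add, map_smul, hc _ ((hS c hc).2 z), Nat.cast_succ,
        add_smul, one_smul]
      abel
  have hcom : ∀ c d : G, c ∈ S → d ∈ S → Commute c d := fun c d hc hd => Subtype.ext (LinearEquiv.ext fun z => by
    show (c : (ι → F) ≃ₗ[F] (ι → F)) ((d : (ι → F) ≃ₗ[F] (ι → F)) z) = (d : (ι → F) ≃ₗ[F] (ι → F)) ((c : (ι → F) ≃ₗ[F] (ι → F)) z)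
    conv_lhs => rw [← add_sub_cancel z ((d : (ι → F) ≃ₗ[F] (ι → F)) z), map_add, hc _ ((hS d hd).2 z)]
    conv_rhs => rw [← add_sub_cancel z ((c : (ι → F) ≃ₗ[F] (ι → F)) z), map_add, hd _ ((hS c hc).2 z)]
    abel)
  have hmemW : ∀ q, RV F₀ q → q ∈ W → ∃ hm : rt h v q 1 ∈ G, (⟨_, hm⟩ : G) ∈ S := fun q hq hqW =>
    ⟨hrtG _ _ (hiso _ hvW _ hvW) (hiso _ hqW _ hqW) (hiso _ hvW _ hqW) (hWP hvW) (hWP hqW)
      (hO.rt_mem_rat hv hq hvs (hWs q hqW) (hiso _ hvW _ hqW) F₀.one_mem), fun z hz => by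
      show rt h v q 1 z = z
      rw [rt_apply (hiso _ hvW _ hvW) (hiso _ hqW _ hqW) (hiso _ hvW _ hqW) (hiso _ hqW _ hvW), hiso _ hvW _ hz, hiso _ hqW _ hz]
      simp⟩
  obtain ⟨hmu, hau⟩ := hmemW u hu huW
  obtain ⟨hmw, haw⟩ := hmemW w hw hwW
  have hvi := hO.sg_iso _ hvs
  obtain ⟨y₀, hy₀, -, hwy, hy₀p⟩ := hO.pairing 2 ![v, u] (by intro j; fin_cases j <;> assumption) (by omega) w hw hwn 1 F₀.one_mem
  have hne1 : (⟨_, hmu⟩ : G) ≠ 1 := fun e => by
    obtain ⟨z, hza, hzb⟩ := hO.exists_sep hun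
    have := LinearEquiv.congr_fun (congrArg Subtype.val e) z
    rw [show ((⟨_, hmu⟩ : G) : (ι → F) ≃ₗ[F] (ι → F)) = rt h v u 1 from rfl, rt_apply hvi (hO.sg_iso _ hus) (hO.swap huv) huv,
      hza, hzb] at this
    simp at this
    exact hv0 this
  have hStop : S = ⊤ := malnormal_top S (CharP.char_is_prime F p) hmal (fun c hc => Subtype.ext (LinearEquiv.ext fun z => by
      rw [hpow c hc, CharP.cast_eq_zero, zero_smul, add_zero]; rfl))
    hau haw (hcom _ _ hau haw) hne1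
    (fun j e => by
      have := LinearEquiv.congr_fun (congrArg Subtype.val e) y₀
      rw [Subgroup.coe_mul, LinearEquiv.mul_apply, hpow _ hau,
        show ((⟨_, hmu⟩ : G) : (ι → F) ≃ₗ[F] (ι → F)) = rt h v u 1 from rfl,
        show ((⟨_, hmw⟩ : G) : (ι → F) ≃ₗ[F] (ι → F)) = rt h v w 1 from rfl] at this
      simp [rt_apply hvi (hO.sg_iso _ hus) (hO.swap huv) huv, rt_apply hvi (hO.sg_iso _ hws) (hO.swap hwv) hwv, hwy,
        show h v y₀ = 0 from hy₀p 0, show h u y₀ = 0 from hy₀p 1, huv, hvi] at this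
      exact hv0 this)
  have haL : a ∈ L := Submodule.subset_span ⟨0, rfl⟩
  have hbL : b ∈ L := Submodule.subset_span ⟨1, rfl⟩
  have hm := hrtG a b hai hbi hab (Submodule.mem_sup_right haL) (Submodule.mem_sup_right hbL) htX
  exact hfix1 ⟨_, hm⟩ ⟨v, hv, hvW, hv0, (show (⟨_, hm⟩ : G) ∈ S from hStop ▸ Subgroup.mem_top _) v hvW⟩

/-- some root parameter is irrational -/
theorem exists_irrational (hO : OverR F₀ h sg X) (hout : ∃ g ∈ X, ¬ Ratty F₀ g) : ∃ l ∈ hO.C, l ∉ F₀ := by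
  by_contra hC
  push Not at hC
  obtain ⟨g, hg, hgr⟩ := hout
  have hc := hO.card
  obtain ⟨e₁, e₂, e₃, he₁, he₂, he₃, he₁s, he₂s, he₃s, h21, h31, h32, hind⟩ :=
    hO.exists_ts (U := ![]) (fun j => j.elim0) (by omega)
  have hne : e₁ ≠ 0 := fun e => one_ne_zero (hind 1 0 0 (by simp [e])).1
  have hrt : ∀ q, RV F₀ q → sg q → h e₁ q = 0 → ∀ z, RV F₀ z → RV F₀ (rt h (g e₁) (g q) 1 z) := fun q hq hqs hq1 z hz => by
    have i1 : h (g e₁) (g e₁) = 0 := by rw [hO.iso g hg, hO.sg_iso _ he₁s]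
    have i2 : h (g q) (g q) = 0 := by rw [hO.iso g hg, hO.sg_iso _ hqs]
    have i3 : h (g e₁) (g q) = 0 := by rw [hO.iso g hg, hq1]
    refine rational_of_image (hO.ratty_root hC hg he₁ hq he₁s hqs hq1) (P := Submodule.span F (Set.range ![g e₁, g q]))
      (fun z => mem2.2 ⟨h (g q) z, -h (g e₁) z, by
        rw [rt_apply i1 i2 i3 (hO.swap i3), map_one, one_mul, one_mul]
        module⟩) ?_ hz
    have h1 := finrank_range_le_card (R := F) ![g e₁, g q]
    rw [Set.finrank, Fintype.card_fin] at h1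
    omega
  obtain ⟨w, hw, hwm⟩ := hO.line_of_planes (hO.sg_map g hg _ he₁s) (hO.sg_map g hg _ he₂s) (hO.sg_map g hg _ he₃s)
    (by rw [hO.iso g hg, hO.swap h21]) (by rw [hO.iso g hg, hO.swap h31]) (fun e => hne (g.map_eq_zero_iff.1 e))
    (fun hm => by
      obtain ⟨c, e⟩ := Submodule.mem_span_singleton.1 hm
      have e' : c • e₁ = e₂ := g.injective (by rw [map_smul, e])
      exact one_ne_zero (hind (-c) 1 0 (by rw [← e']; exact mem_of_eq_zero (by module))).2.1)
    (fun hm => by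
      obtain ⟨s, t, e⟩ := mem2.1 hm
      have e' : s • e₁ + t • e₂ = e₃ := g.injective (by rw [map_add, map_smul, map_smul, e])
      exact one_ne_zero (hind (-s) (-t) 1 (by rw [← e']; exact mem_of_eq_zero (by module))).2.2)
    (hrt e₂ he₂ he₂s (hO.swap h21)) (hrt e₃ he₃ he₃s (hO.swap h31))
  obtain ⟨c, hc'⟩ := Submodule.mem_span_singleton.1 hwm
  have hv'0 : g e₁ ≠ 0 := fun e => hne (g.map_eq_zero_iff.1 e)
  have hw0 : w ≠ 0 := fun e => hv'0 (by rw [← hc', e, smul_zero])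
  have hc0 : c ≠ 0 := fun e => hv'0 (by rw [← hc', e, zero_smul])
  have hws : sg w := by
    have := hO.sg_smul _ c⁻¹ (hO.sg_map g hg _ he₁s)
    rwa [← hc', smul_smul, inv_mul_cancel₀ hc0, one_smul] at this
  exact hgr (hO.ratty_of_move hC hg he₁ hw he₁s hws hne hw0 hc'.symm)

theorem C_eq_univ (hO : OverR F₀ h sg X) (hout : ∃ g ∈ X, ¬ Ratty F₀ g) (c : F) : c ∈ hO.C := by
  have hC0 : ∀ a ∈ F₀, a ∈ hO.C := fun a ha u v hu hv hus hvs huv => hO.rt_mem_rat hu hv hus hvs huv ha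
  have hadd : ∀ a b, a ∈ hO.C → b ∈ hO.C → a + b ∈ hO.C := fun a b ha hb u v hu hv hus hvs huv => by
    rw [rt_add_scalar (hO.sg_iso _ hus) (hO.sg_iso _ hvs) huv (hO.swap huv)]
    exact mul_mem (ha u v hu hv hus hvs huv) (hb u v hu hv hus hvs huv)
  have hmul : ∀ a b, a ∈ hO.C → b ∈ hO.C → a * b ∈ hO.C := fun a b ha hb => by
    have hc := hO.card
    obtain ⟨u, v, w, hu, hv, hw, hus, hvs, hws, hvu, hwu, hwv, hind⟩ :=
      hO.exists_ts (U := ![]) (fun j => j.elim0) (by omega)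
    have huv := hO.swap hvu
    obtain ⟨y, hy, hys, hvy, hy0⟩ := hO.pairing 2 ![u, w] (by intro j; fin_cases j <;> assumption) (by omega) v hv (fun hm => by
      obtain ⟨s, t, e⟩ := mem2.1 hm
      exact one_ne_zero (hind (-s) 1 (-t) (by rw [← e]; exact mem_of_eq_zero (by module))).2.1) 1 F₀.one_mem
    have huy : h u y = 0 := hy0 0
    have hwy : h w y = 0 := hy0 1
    have hyu := hO.swap huy
    have hyw := hO.swap hwy
    have hui := hO.sg_iso _ hus
    have hvi := hO.sg_iso _ hvs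
    have hwi := hO.sg_iso _ hws
    have hyi := hO.sg_iso _ hys
    have hq := ha u v hu hv hus hvs huv
    have h1 := conj_mem hq (hb y w hy hw hys hws hyw)
    rw [rt_conj (hO.iso _ hq) hyi hwi hyw hwy, rt_apply hui hvi huv hvu, rt_apply hui hvi huv hvu, huy, hvy,
      hO.swap hwu, hO.swap hwv] at h1
    simp only [mul_zero, zero_smul, add_zero, sub_zero, mul_one] at h1
    rw [add_comm y, rt_add_left (by simp [hui]) hyi hwi (by simp [hO.swap hwu]) (by simp [hwu]) hyw hwy (by simp [huy])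
      (by simp [hyu]), rt_smul_left hui hwi (hO.swap hwu) hwu] at h1
    have h2 := mul_mem h1 (inv_mem (hb y w hy hw hys hws hyw))
    rw [mul_inv_cancel_right] at h2
    exact hO.C_of_one hu hw hus hws (hO.swap hwu) (fun hm => by
      obtain ⟨s, e⟩ := Submodule.mem_span_singleton.1 hm
      exact one_ne_zero (hind 1 0 (-s) (by rw [← e]; exact mem_of_eq_zero (by module))).1)
      (fun e => one_ne_zero (hind 0 0 1 (by simp [e])).2.2) h2
  have hpow : ∀ a, a ∈ hO.C → ∀ n : ℕ, a ^ n ∈ hO.C := fun a ha n => by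
    induction n with
    | zero => rw [pow_zero]; exact hC0 1 F₀.one_mem
    | succ n ih => rw [pow_succ]; exact hmul _ _ ih ha
  let S : Subfield F :=
    { carrier := hO.C, mul_mem' := fun ha hb => hmul _ _ ha hb, one_mem' := hC0 1 F₀.one_mem
      add_mem' := fun ha hb => hadd _ _ ha hb, zero_mem' := hC0 0 F₀.zero_mem
      neg_mem' := fun {a} ha => by
        rw [← neg_one_mul]
        exact hmul _ _ (hC0 _ (F₀.neg_mem F₀.one_mem)) ha
      inv_mem' := fun a ha => by
        rcases eq_or_ne a 0 with rfl | h0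
        · simpa using ha
        have : a⁻¹ = a ^ (Fintype.card F - 2) := by
          refine inv_eq_of_mul_eq_one_right ?_
          rw [← pow_succ', show Fintype.card F - 2 + 1 = Fintype.card F - 1 by
            have := Fintype.one_lt_card (α := F); omega, FiniteField.pow_card_sub_one_eq_one a h0]
        rw [this]; exact hpow a ha _ }
  obtain ⟨l, hl, hlF⟩ := hO.exists_irrational hout
  obtain ⟨r, hr, hcard⟩ := hO.prime
  have hle : F₀ ≤ S := fun a ha => hC0 a ha
  letI : Algebra F₀ S := (Subfield.inclusion hle).toAlgebra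
  haveI : IsScalarTower F₀ S F := IsScalarTower.of_algebraMap_eq fun _ => rfl
  have h0 : 1 < Nat.card F₀ := Finite.one_lt_card
  have hrk : finrank F₀ F = r := by
    have := Module.natCard_eq_pow_finrank (K := F₀) (V := F)
    rw [Nat.card_eq_fintype_card, hcard] at this
    exact (Nat.pow_right_injective h0 this).symm
  have htow := Module.finrank_mul_finrank F₀ S F
  rw [hrk] at htow
  rcases (Nat.dvd_prime hr).1 (Dvd.intro _ htow) with h1 | h1
  · exfalso
    have hS : Nat.card S = Nat.card F₀ := by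
      rw [Module.natCard_eq_pow_finrank (K := F₀) (V := S), h1, pow_one]
    have : (F₀ : Set F) = (S : Set F) := Set.eq_of_subset_of_ncard_le hle
      (by rw [← Nat.card_coe_set_eq, ← Nat.card_coe_set_eq]; exact hS.le)
    exact hlF (this.ge hl)
  · have h2 : finrank S F = 1 := by
      rw [h1] at htow
      exact Nat.eq_of_mul_eq_mul_left hr.pos (by rw [mul_one]; exact htow)
    have hSF : (S : Set F) = Set.univ := Set.eq_of_subset_of_ncard_le (Set.subset_univ _) (by
      rw [Set.ncard_univ, ← Nat.card_coe_set_eq, Module.natCard_eq_pow_finrank (K := S) (V := F), h2, pow_one]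
      exact le_rfl)
    exact Set.eq_univ_iff_forall.1 hSF c

/-- every singular vector is, up to a scalar, in the orbit of a rational one -/
theorem orbit (hO : OverR F₀ h sg X) (hout : ∃ g ∈ X, ¬ Ratty F₀ g)
    (hadj : ∀ e f : ι → F, sg e → sg f → h e f = 1 → ∀ α γ : F, γ ≠ 0 → sg (α • e + γ • f) → ∃ μ, μ - τ μ = α / γ)
    {x : ι → F} (hxs : sg x) (hx0 : x ≠ 0) :
    ∃ (g : (ι → F) ≃ₗ[F] (ι → F)) (γ : F) (f : ι → F), g ∈ X ∧ RV F₀ f ∧ sg f ∧ f ≠ 0 ∧ x = γ • g f := by
  have hC := hO.C_eq_univ hout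
  have hcard := hO.card
  obtain ⟨e, he, hes, hex⟩ : ∃ e, RV F₀ e ∧ sg e ∧ h e x ≠ 0 := by
    by_contra! hno
    refine hx0 (hO.h_span_eq_zero fun i => ?_)
    obtain ⟨t, s, ht, hs, hts, hss, -, -, e⟩ := hO.split (p := ![]) (fun j => j.elim0) (by omega) (rv_single (F₀ := F₀) i)
      (fun j => j.elim0) (fun h0 hm => by
        rw [Matrix.range_empty, Submodule.span_empty, Submodule.mem_bot] at hm
        exact h0 (by rw [hm]; exact hO.sg_zero))
    rw [e, map_sub, LinearMap.sub_apply, hno t ht hts, hno s hs hss, sub_zero]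
  have he0 : e ≠ 0 := fun h => hex (by simp [h])
  have hei := hO.sg_iso _ hes
  obtain ⟨f, hf, hfs, hef, -⟩ := hO.pairing 0 ![] (fun j => j.elim0) (by omega) e he (by simpa using he0) 1 F₀.one_mem
  have hfe := hO.swap1 hef
  have hfi := hO.sg_iso _ hfs
  set π : ι → (ι → F) := fun i => Pi.single i 1 - h f (Pi.single i 1) • e - h e (Pi.single i 1) • f with hπ
  let Q : (ι → F) → Prop := fun z => h e z = 0 ∧ ∀ (a : F) (y : ι → F), h e y ≠ 0 → ∃ g ∈ X, ∃ α : F, g y = y + a • z + α • e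
  have hQ : ∀ z ∈ Submodule.span F {z : ι → F | RV F₀ z ∧ sg z ∧ h e z = 0 ∧ h f z = 0}, Q z := by
    intro z hz
    induction hz using Submodule.span_induction with
    | mem b hb =>
      obtain ⟨hb, hbs, heb, -⟩ := hb
      refine ⟨heb, fun a y hy => ⟨rt h b e (a / h e y), hC _ b e hb he hbs hes (hO.swap heb), -(τ (a / h e y) * h b y), ?_⟩⟩
      rw [rt_apply (hO.sg_iso _ hbs) hei (hO.swap heb) heb, div_mul_cancel₀ _ hy, neg_smul, sub_eq_add_neg]
    | zero => exact ⟨map_zero _, fun a y _ => ⟨1, one_mem X, 0, by simp⟩⟩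
    | add z₁ z₂ _ _ h1 h2 =>
      refine ⟨by rw [map_add, h1.1, h2.1, add_zero], fun a y hy => ?_⟩
      obtain ⟨g₁, hg₁, α₁, e₁⟩ := h1.2 a y hy
      obtain ⟨g₂, hg₂, α₂, e₂⟩ := h2.2 a (g₁ y) (by rw [e₁]; simpa [h1.1, hei] using hy)
      exact ⟨g₂ * g₁, mul_mem hg₂ hg₁, α₁ + α₂, by rw [LinearEquiv.mul_apply, e₂, e₁]; module⟩
    | smul b z _ h1 =>
      refine ⟨by rw [map_smul, h1.1, smul_zero], fun a y hy => ?_⟩
      obtain ⟨g₁, hg₁, α₁, e₁⟩ := h1.2 (a * b) y hy
      exact ⟨g₁, hg₁, α₁, by rw [e₁, mul_smul]⟩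
  have hπmem : ∀ i, π i ∈ Submodule.span F {z : ι → F | RV F₀ z ∧ sg z ∧ h e z = 0 ∧ h f z = 0} := fun i => by
    have hR : RV F₀ (π i) := ((rv_single i).sub (he.smul (hO.form _ _ hf (rv_single i)))).sub
      (hf.smul (hO.form _ _ he (rv_single i)))
    have h1 : h e (π i) = 0 := by simp [hπ, hei, hef]
    have h2 : h f (π i) = 0 := by simp [hπ, hfi, hfe]
    obtain ⟨t, s, ht, hs, hts, hss, hpt, hps, e'⟩ := hO.split (p := ![e, f]) (by intro j; fin_cases j <;> assumption)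
      (by omega) hR (by intro j; fin_cases j <;> assumption) (fun h0 hm => h0 (by
        obtain ⟨a, b, hab⟩ := mem2.1 hm
        rw [← hab] at h1 h2
        simp [hei, hef, hfe, hfi] at h1 h2
        rw [← hab, h1, h2]
        simpa using hO.sg_zero))
    rw [e']
    exact Submodule.sub_mem _ (Submodule.subset_span ⟨ht, hts, hpt 0, hpt 1⟩) (Submodule.subset_span ⟨hs, hss, hps 0, hps 1⟩)
  set z := ∑ i, x i • π i with hzd
  obtain ⟨hez, hmove⟩ := hQ z (sum_mem fun i _ => Submodule.smul_mem _ _ (hπmem i))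
  obtain ⟨g, hg, α, hgx⟩ := hmove (-1) x hex
  have hxz : x = z + h f x • e + h e x • f := by
    have h1 : z = ∑ i, x i • (Pi.single i 1 : ι → F) - (∑ i, x i * h f (Pi.single i 1)) • e
        - (∑ i, x i * h e (Pi.single i 1)) • f := by
      rw [hzd, Finset.sum_smul, Finset.sum_smul, ← Finset.sum_sub_distrib, ← Finset.sum_sub_distrib]
      refine Finset.sum_congr rfl fun i _ => ?_
      simp [hπ, smul_sub, smul_smul]
    rw [h1, ← eq_sum_single x, ← apply_eq_sum, ← apply_eq_sum]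
    abel
  set γ := h e x with hγ
  have hgx' : g x = (α + h f x) • e + γ • f := by
    rw [hgx]
    conv_lhs => rw [hxz]
    module
  set a' := α + h f x with ha'
  obtain ⟨μ, hμ⟩ := hadj e f hes hfs hef a' γ hex (hgx' ▸ hO.sg_map g hg _ hxs)
  have hT : rt h e e μ ∈ X := hC μ e e he he hes hes hei
  have hTf : rt h e e μ f = f + (a' / γ) • e := by
    rw [rt_apply hei hei hei hei, hef, mul_one, mul_one, add_sub_assoc, ← sub_smul, hμ]
  refine ⟨g⁻¹ * rt h e e μ, γ, f, mul_mem (inv_mem hg) hT, hf, hfs, fun e' => by simp [e'] at hef, ?_⟩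
  rw [← map_smul, LinearEquiv.mul_apply, map_smul, hTf, smul_add, smul_smul, mul_div_cancel₀ _ hex, add_comm, ← hgx', inv_apply]

end OverR

end Cfsg.Agent.ClassicalMax.Subfield.Root
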