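import Cfsg.Agent.ClassicalMax.Subfield.Generic
import Cfsg.Agent.ClassicalMax.Unitary

/-!
A group of isometries of a skew-Hermitian form, rational on a subfield structure of prime index, containing the
rational transvections and an element outside the normaliser of the structure contains all transvections.
-/

set_option autoImplicit false
set_option linter.unusedSectionVars false
set_option linter.style.haveILetI false

namespace Cfsg.Agent.ClassicalMax.Subfield.Unit

open Module Cfsg.Agent.Classical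

section Cross

variable {F V : Type*} [Field F] [AddCommGroup V] [Module F V] {σ : F →+* F} (A : V →ₛₗ[σ] V →ₗ[F] F)

/-- total transvection of an isotropic vector -/
noncomputable def tt (v : V) (c : F) : V ≃ₗ[F] V :=
  haveI := _root_.Classical.propDecidable (A v v = 0)
  if h : A v v = 0 then Herm.tvU h c else 1

/-- the cross element of an isotropic orthogonal pair -/
noncomputable def cr (u v : V) (l : F) : V ≃ₗ[F] V := tt A (l • u + v) 1 * tt A (l • u) (-1) * tt A v (-1)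

variable {A}

theorem tt_apply {v : V} (h : A v v = 0) (c : F) (x : V) : tt A v c x = x + (c * A v x) • v := by
  rw [tt, dif_pos h, Herm.tvU_apply]

theorem tt_inv {v : V} (h : A v v = 0) (c : F) : (tt A v c)⁻¹ = tt A v (-c) :=
  inv_eq_of_mul_eq_one_right (LinearEquiv.ext fun x => by
    rw [LinearEquiv.mul_apply, tt_apply h, tt_apply h, map_add, map_smul, h]
    show _ = x
    module)

theorem tt_smul {v : V} (h : A v v = 0) (a c : F) : tt A (a • v) c = tt A v (c * (a * σ a)) :=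
  LinearEquiv.ext fun x => by
    rw [tt_apply (by simp [h]), tt_apply h]
    simp only [map_smulₛₗ, LinearMap.smul_apply, smul_eq_mul, smul_smul]
    ring_nf

theorem conj_tt {g : V ≃ₗ[F] V} (hg : ∀ a b, A (g a) (g b) = A a b) {v : V} (h : A v v = 0) (c : F) :
    g * tt A v c * g⁻¹ = tt A (g v) c :=
  LinearEquiv.ext fun x => by
    have e : A v (g⁻¹ x) = A (g v) x := by rw [← hg v (g⁻¹ x), apply_inv]
    rw [LinearEquiv.mul_apply, LinearEquiv.mul_apply, tt_apply h, tt_apply (by rw [hg, h]), map_add, map_smul, apply_inv, e]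

theorem tt_iso (hsk : ∀ a b, σ (A a b) = -A b a) {v : V} (h : A v v = 0) {c : F} (hc : σ c = c) (a b : V) :
    A (tt A v c a) (tt A v c b) = A a b := by
  rw [tt_apply h, tt_apply h]
  simp [h, hc, hsk]
  ring

theorem cr_apply {u v : V} (hu : A u u = 0) (hv : A v v = 0) (huv : A u v = 0) (hvu : A v u = 0) (l : F) (x : V) :
    cr A u v l x = x + (l * A v x) • u + (σ l * A u x) • v := by
  rw [cr, LinearEquiv.mul_apply, LinearEquiv.mul_apply, tt_apply (by simp [hu, hv, huv, hvu]), tt_apply (by simp [hu]),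
    tt_apply hv]
  simp [hu, hv, huv, hvu]
  module

theorem cr_conj {g : V ≃ₗ[F] V} (hg : ∀ a b, A (g a) (g b) = A a b) {u v : V} (hu : A u u = 0) (hv : A v v = 0)
    (huv : A u v = 0) (hvu : A v u = 0) (l : F) : g * cr A u v l * g⁻¹ = cr A (g u) (g v) l := by
  rw [cr, cr, ← map_smul, ← map_add, ← conj_tt hg (by simp [hu, hv, huv, hvu]), ← conj_tt hg (by simp [hu]), ← conj_tt hg hv]
  group

theorem cr_comm (hinv : ∀ a, σ (σ a) = a) {u v : V} (hu : A u u = 0) (hv : A v v = 0) (huv : A u v = 0) (hvu : A v u = 0)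
    (l : F) : cr A u v l = cr A v u (σ l) :=
  LinearEquiv.ext fun x => by
    rw [cr_apply hu hv huv hvu, cr_apply hv hu hvu huv, hinv]
    abel

theorem cr_smul_left {u v : V} (hu : A u u = 0) (hv : A v v = 0) (huv : A u v = 0) (hvu : A v u = 0) (a l : F) :
    cr A (a • u) v l = cr A u v (a * l) :=
  LinearEquiv.ext fun x => by
    rw [cr_apply hu hv huv hvu, cr_apply (by simp [hu]) hv (by simp [huv]) (by simp [hvu])]
    simp only [map_smulₛₗ, LinearMap.smul_apply, smul_eq_mul, smul_smul, map_mul]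
    ring_nf

theorem cr_smul_right (hinv : ∀ a, σ (σ a) = a) {u v : V} (hu : A u u = 0) (hv : A v v = 0) (huv : A u v = 0)
    (hvu : A v u = 0) (a l : F) : cr A u (a • v) l = cr A u v (σ a * l) :=
  LinearEquiv.ext fun x => by
    rw [cr_apply hu hv huv hvu, cr_apply hu (by simp [hv]) (by simp [huv]) (by simp [hvu])]
    simp only [map_smulₛₗ, LinearMap.smul_apply, smul_eq_mul, smul_smul, map_mul, hinv]
    ring_nf

theorem cr_zero_right {u : V} (hu : A u u = 0) (l : F) : cr A u 0 l = 1 :=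
  LinearEquiv.ext fun x => by rw [cr_apply hu (by simp) (by simp) (by simp)]; simp

theorem cr_add_left {u w v : V} (hu : A u u = 0) (hw : A w w = 0) (hv : A v v = 0) (huv : A u v = 0) (hvu : A v u = 0)
    (hwv : A w v = 0) (hvw : A v w = 0) (huw : A u w = 0) (hwu : A w u = 0) (l : F) :
    cr A (u + w) v l = cr A u v l * cr A w v l :=
  LinearEquiv.ext fun x => by
    rw [LinearEquiv.mul_apply, cr_apply hu hv huv hvu, cr_apply hw hv hwv hvw,
      cr_apply (by simp [hu, hw, huw, hwu]) hv (by simp [huv, hwv]) (by simp [hvu, hvw])]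
    simp [huv, hvu, hwv, hvw, hv, huw]
    module

theorem cr_add_scalar {u v : V} (hu : A u u = 0) (hv : A v v = 0) (huv : A u v = 0) (hvu : A v u = 0) (a b : F) :
    cr A u v (a + b) = cr A u v a * cr A u v b :=
  LinearEquiv.ext fun x => by
    rw [LinearEquiv.mul_apply, cr_apply hu hv huv hvu, cr_apply hu hv huv hvu, cr_apply hu hv huv hvu]
    simp [huv, hvu, hu, hv]
    module

theorem cr_self {v : V} (h : A v v = 0) (l : F) : cr A v v l = tt A v (l + σ l) :=
  LinearEquiv.ext fun x => by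
    rw [cr_apply h h h h, tt_apply h]
    module

theorem cr_of_fix {u v : V} (hu : A u u = 0) (hv : A v v = 0) (huv : A u v = 0) (hvu : A v u = 0) {e : F} (he : σ e = e) :
    cr A u v e = tt A (u + v) e * tt A u (-e) * tt A v (-e) :=
  LinearEquiv.ext fun x => by
    rw [cr_apply hu hv huv hvu, LinearEquiv.mul_apply, LinearEquiv.mul_apply, tt_apply (by simp [hu, hv, huv, hvu]), tt_apply hu,
      tt_apply hv, he]
    simp [hu, hv, huv, hvu]
    module

theorem tt_add_smul (hinv : ∀ a, σ (σ a) = a) {u v : V} (hu : A u u = 0) (hv : A v v = 0) (huv : A u v = 0) (hvu : A v u = 0)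
    (b : F) {c : F} (hc : σ c = c) :
    tt A (u + b • v) c = tt A u c * cr A u v (c * σ b) * tt A v (c * (b * σ b)) :=
  LinearEquiv.ext fun x => by
    rw [LinearEquiv.mul_apply, LinearEquiv.mul_apply, cr_apply hu hv huv hvu, tt_apply hu, tt_apply hv,
      tt_apply (by simp [hu, hv, huv, hvu])]
    simp [hu, hv, huv, hvu, hinv, hc]
    module

end Cross

variable {ι : Type} [Fintype ι] [DecidableEq ι] {F : Type*} [Field F] [Fintype F] {σ : F →+* F}

/-- the hypotheses on the group -/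
structure OverU (F₀ : Subfield F) (A : (ι → F) →ₛₗ[σ] (ι → F) →ₗ[F] F) (X : Subgroup ((ι → F) ≃ₗ[F] (ι → F))) : Prop where
  invol : ∀ a, σ (σ a) = a
  trace : ∀ c, σ c = c → ∃ μ, μ + σ μ = c
  stab : ∀ a ∈ F₀, σ a ∈ F₀
  skew : ∀ a b, σ (A a b) = -A b a
  nd : ∀ x, (∀ y, A x y = 0) → x = 0
  form : ∀ u v : ι → F, RV F₀ u → RV F₀ v → A u v ∈ F₀
  anti : ∀ u : ι → F, RV F₀ u → ∃ μ ∈ F₀, μ - σ μ = A u u
  pairing : ∀ (k : ℕ) (p : Fin k → ι → F), (∀ i, RV F₀ (p i)) → 2 * k + 2 ≤ Fintype.card ι → ∀ x : ι → F, RV F₀ x →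
    x ∉ Submodule.span F (Set.range p) → ∀ c ∈ F₀, ∃ y, RV F₀ y ∧ A y y = 0 ∧ A x y = c ∧ ∀ i, A (p i) y = 0
  card : 6 ≤ Fintype.card ι
  prime : ∃ r : ℕ, r.Prime ∧ Fintype.card F = Nat.card F₀ ^ r
  iso : ∀ x ∈ X, ∀ a b, A (x a) (x b) = A a b
  rat : ∀ (v : ι → F) (c : F), RV F₀ v → A v v = 0 → c ∈ F₀ → σ c = c → tt A v c ∈ X

namespace OverU

variable {F₀ : Subfield F} {A : (ι → F) →ₛₗ[σ] (ι → F) →ₗ[F] F} {X : Subgroup ((ι → F) ≃ₗ[F] (ι → F))}

theorem swap (hO : OverU F₀ A X) {u v : ι → F} (h : A u v = 0) : A v u = 0 := by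
  have h1 := hO.skew u v
  rw [h, map_zero] at h1
  exact neg_eq_zero.1 h1.symm

theorem mem2 {a b x : ι → F} : x ∈ Submodule.span F (Set.range ![a, b]) ↔ ∃ s t : F, s • a + t • b = x := by
  rw [Submodule.mem_span_range_iff_exists_fun]
  constructor
  · rintro ⟨c, hc⟩
    exact ⟨c 0, c 1, by rw [← hc, Fin.sum_univ_two]; rfl⟩
  · rintro ⟨s, t, h⟩
    exact ⟨![s, t], by rw [← h, Fin.sum_univ_two]; rfl⟩

theorem mem1 {a x : ι → F} : x ∈ Submodule.span F (Set.range ![a]) ↔ x ∈ F ∙ a := by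
  rw [Matrix.range_cons, Matrix.range_empty, Set.union_empty]

theorem rv_of_forms (hO : OverU F₀ A X) {k : ι → F} (h : ∀ i, A (Pi.single i 1) k ∈ F₀) : RV F₀ k := by
  haveI : Fintype F₀ := Fintype.ofFinite F₀
  let L : (ι → F₀) →ₗ[F₀] (ι → F₀) :=
    { toFun := fun y i => ⟨A (Pi.single i 1) (fun j => (y j : F)), hO.form _ _ (rv_single i) (fun j => (y j).2)⟩
      map_add' := fun a b => funext fun i => Subtype.ext (by
        show A (Pi.single i 1) (fun j => ((a + b) j : F)) = A _ _ + A _ _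
        rw [← map_add]
        rfl)
      map_smul' := fun a b => funext fun i => Subtype.ext (by
        show A (Pi.single i 1) (fun j => ((a • b) j : F)) = (a : F) * A _ _
        rw [← smul_eq_mul, ← map_smul]
        rfl) }
  have hker : ∀ z : ι → F, (∀ i, A (Pi.single i 1) z = 0) → z = 0 := fun z hz => hO.nd _ fun y => hO.swap (by
    rw [eq_sum_single y]
    simp [map_sum, LinearMap.sum_apply, hz])
  have hinj : Function.Injective L := (injective_iff_map_eq_zero L).2 fun y hy => by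
    have h0 : (fun j => (y j : F)) = 0 := hker _ fun i => congrArg Subtype.val (congrFun hy i)
    exact funext fun j => Subtype.ext (congrFun h0 j)
  obtain ⟨y, hy⟩ := LinearMap.surjective_of_injective hinj (fun i => ⟨A (Pi.single i 1) k, h i⟩)
  have : k = fun j => (y j : F) := sub_eq_zero.1 (hker _ fun i => by
    rw [map_sub, show A (Pi.single i 1) (fun j => (y j : F)) = A (Pi.single i 1) k from congrArg Subtype.val (congrFun hy i),
      sub_self])
  rw [this]
  exact fun j => (y j).2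

theorem exists_iso_avoid (hO : OverU F₀ A X) {k l : ℕ} {p : Fin k → ι → F} (hp : ∀ i, RV F₀ (p i)) {w : Fin l → ι → F}
    (hw : ∀ j, RV F₀ (w j)) (h : k + l < Fintype.card ι) (h' : 2 * k + 2 ≤ Fintype.card ι) :
    ∃ x, RV F₀ x ∧ A x x = 0 ∧ (∀ i, A x (p i) = 0) ∧ x ∉ Submodule.span F (Set.range w) := by
  obtain ⟨z, hz, hzw, hzp⟩ := exists_avoid (fun j => A (w j)) (fun j i => hO.form _ _ (hw j) (rv_single i)) p hp (by omega)
  obtain ⟨y, hy, hyy, hzy, hyp⟩ := hO.pairing k p hp h' z hz hzp 1 F₀.one_mem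
  refine ⟨y, hy, hyy, fun i => hO.swap (hyp i), fun hm => ?_⟩
  have h0 : Submodule.span F (Set.range w) ≤ LinearMap.ker (A z) := by
    rw [Submodule.span_le]
    rintro _ ⟨j, rfl⟩
    exact hO.swap (hzw j)
  have h1 : A z y = 0 := h0 hm
  rw [hzy] at h1
  exact one_ne_zero h1

/-- a rational vector orthogonal to given ones is a difference of isotropic such vectors -/
theorem split (hO : OverU F₀ A X) {k : ℕ} {p : Fin k → ι → F} (hp : ∀ i, RV F₀ (p i)) (hk : 2 * k + 2 ≤ Fintype.card ι)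
    {u : ι → F} (hu : RV F₀ u) (hup : ∀ i, A (p i) u = 0) (hun : A u u ≠ 0 → u ∉ Submodule.span F (Set.range p)) :
    ∃ t s, RV F₀ t ∧ RV F₀ s ∧ A t t = 0 ∧ A s s = 0 ∧ (∀ i, A (p i) t = 0) ∧ (∀ i, A (p i) s = 0) ∧ u = t - s := by
  by_cases h0 : A u u = 0
  · exact ⟨u, 0, hu, fun _ => F₀.zero_mem, h0, by simp, hup, fun i => map_zero _, (sub_zero u).symm⟩
  obtain ⟨μ, hμ, hμu⟩ := hO.anti u hu
  obtain ⟨s, hs, hss, hus, hps⟩ := hO.pairing k p hp hk u hu (hun h0) (-μ) (F₀.neg_mem hμ)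
  refine ⟨u + s, s, hu.add hs, hs, ?_, hss, fun i => by rw [map_add, hup, hps, add_zero], hps, (add_sub_cancel_right u s).symm⟩
  have hsu : A s u = σ μ := by
    have h1 := hO.skew u s
    rw [hus, map_neg] at h1
    exact (neg_inj.1 h1).symm
  simp only [map_add, LinearMap.add_apply, hus, hsu, hss]
  linear_combination -hμu

theorem cr_mem_rat (hO : OverU F₀ A X) {u v : ι → F} (hu : RV F₀ u) (hv : RV F₀ v) (huu : A u u = 0) (hvv : A v v = 0)
    (huv : A u v = 0) {l : F} (hl : l ∈ F₀) : cr A u v l ∈ X := by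
  have hvu := hO.swap huv
  refine mul_mem (mul_mem (hO.rat _ _ ((hu.smul hl).add hv) (by simp [huu, hvv, huv, hvu]) F₀.one_mem (map_one _))
    (hO.rat _ _ (hu.smul hl) (by simp [huu]) (F₀.neg_mem F₀.one_mem) (by simp)))
    (hO.rat _ _ hv hvv (F₀.neg_mem F₀.one_mem) (by simp))

theorem conj_mem {g a : (ι → F) ≃ₗ[F] (ι → F)} (hg : g ∈ X) (ha : a ∈ X) : g * a * g⁻¹ ∈ X :=
  mul_mem (mul_mem hg ha) (inv_mem hg)

/-- a rational element moving `u` by `w` and fixing `v` -/
theorem move (hO : OverU F₀ A X) {u w v : ι → F} (hu : RV F₀ u) (hw : RV F₀ w) (hv : RV F₀ v) (hww : A w w = 0)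
    (hwu : A w u = 0) (hwv : A w v = 0) (h : u ∉ Submodule.span F (Set.range ![w, v])) :
    ∃ g ∈ X, g u = u + w ∧ g v = v := by
  obtain ⟨y, hy, hyy, huy, hy0⟩ := hO.pairing 2 ![w, v] (by intro j; fin_cases j <;> assumption)
    (by have := hO.card; omega) u hu h 1 F₀.one_mem
  have hwy : A w y = 0 := hy0 0
  have hyu : A y u = -1 := by
    have h1 := hO.skew u y
    rw [huy, map_one] at h1
    exact (neg_eq_iff_eq_neg.1 h1.symm)
  refine ⟨cr A w y (-1), hO.cr_mem_rat hw hy hww hyy hwy (F₀.neg_mem F₀.one_mem), ?_, ?_⟩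
  · rw [cr_apply hww hyy hwy (hO.swap hwy), hyu, hwu]
    simp
  · rw [cr_apply hww hyy hwy (hO.swap hwy), hwv, hO.swap (show A v y = 0 from hy0 1)]
    simp

/-- the parameters of cross elements -/
def C (_hO : OverU F₀ A X) : Set F :=
  {l | ∀ u v : ι → F, RV F₀ u → RV F₀ v → A u u = 0 → A v v = 0 → A u v = 0 → cr A u v l ∈ X}

theorem C_conj (hO : OverU F₀ A X) {l : F} (h : σ l ∈ hO.C) : l ∈ hO.C := fun u v hu hv huu hvv huv => by
  rw [cr_comm hO.invol huu hvv huv (hO.swap huv)]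
  exact h v u hv hu hvv huu (hO.swap huv)

theorem cr_step (hO : OverU F₀ A X) {a b z : ι → F} {l : F} (ha : RV F₀ a) (hb : RV F₀ b) (hz : RV F₀ z)
    (haa : A a a = 0) (hbb : A b b = 0) (hzz : A z z = 0) (hab : A a b = 0) (hba : a ∉ F ∙ b) (hzb : A z b = 0)
    (h : cr A a b l ∈ X) : cr A z b l ∈ X := by
  have main : ∀ a z : ι → F, RV F₀ a → RV F₀ z → A a a = 0 → A z z = 0 → A a b = 0 → a ∉ F ∙ b → A z a = 0 → A z b = 0 →
      z ∉ Submodule.span F (Set.range ![a, b]) → cr A a b l ∈ X → cr A z b l ∈ X := by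
    intro a z ha hz haa hzz hab hba hza hzb hzab h
    obtain ⟨g, hg, hga, hgb⟩ := hO.move ha hz hb hzz hza hzb (fun hm => by
      obtain ⟨s, t, e⟩ := mem2.1 hm
      by_cases hs : s = 0
      · exact hba (Submodule.mem_span_singleton.2 ⟨t, by rw [← e, hs, zero_smul, zero_add]⟩)
      · exact hzab (mem2.2 ⟨s⁻¹, -(s⁻¹ * t), by
          rw [← e, smul_add, smul_smul, smul_smul, inv_mul_cancel₀ hs, one_smul, neg_smul, add_neg_cancel_right]⟩))
    have h1 := conj_mem hg h
    rw [cr_conj (hO.iso g hg) haa hbb hab (hO.swap hab), hga, hgb, add_comm a z,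
      cr_add_left hzz haa hbb hzb (hO.swap hzb) hab (hO.swap hab) hza (hO.swap hza)] at h1
    simpa using mul_mem h1 (inv_mem h)
  by_cases hdir : A z a = 0 ∧ z ∉ Submodule.span F (Set.range ![a, b])
  · exact main a z ha hz haa hzz hab hba hdir.1 hzb hdir.2 h
  obtain ⟨w, hw, hww, hwa, hwb, hwz, hwn⟩ : ∃ w, RV F₀ w ∧ A w w = 0 ∧ A w a = 0 ∧ A w b = 0 ∧ A w z = 0 ∧
      w ∉ Submodule.span F (Set.range ![a, b, z]) := by
    obtain ⟨y, hy, hyy, hyp, hyn⟩ := hO.exists_iso_avoid (p := ![a, b]) (w := ![a, b])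
      (by intro j; fin_cases j <;> assumption) (by intro j; fin_cases j <;> assumption) (by have := hO.card; omega)
      (by have := hO.card; omega)
    have hya : A y a = 0 := hyp 0
    have hyb : A y b = 0 := hyp 1
    have hmem3 : ∀ w, w ∈ Submodule.span F (Set.range ![a, b, z]) → ∃ s t r : F, s • a + t • b + r • z = w :=
      fun w hm => by
      obtain ⟨c, hc⟩ := (Submodule.mem_span_range_iff_exists_fun _).1 hm
      rw [Fin.sum_univ_three] at hc
      exact ⟨c 0, c 1, c 2, hc⟩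
    by_cases hzs : z ∈ Submodule.span F (Set.range ![a, b])
    · obtain ⟨s₁, t₁, rfl⟩ := mem2.1 hzs
      refine ⟨y, hy, hyy, hya, hyb, by simp [hya, hyb], fun hm => hyn ?_⟩
      obtain ⟨s, t, r, e⟩ := hmem3 _ hm
      exact mem2.2 ⟨s + r * s₁, t + r * t₁, by rw [← e]; module⟩
    · have hza : A z a ≠ 0 := fun h0 => hdir ⟨h0, hzs⟩
      have haz : A a z ≠ 0 := fun h0 => hza (hO.swap h0)
      set t := σ (A y z / A a z) with ht
      have htF : t ∈ F₀ := hO.stab _ (F₀.div_mem (hO.form _ _ hy hz) (hO.form _ _ ha hz))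
      refine ⟨y - t • a, hy.sub (ha.smul htF), by simp [hyy, hya, hO.swap hya, haa], by simp [hya, haa], by simp [hyb, hab],
        by simp [ht, hO.invol, haz], fun hm => hyn ?_⟩
      obtain ⟨s, t', r, e⟩ := hmem3 _ hm
      have h1 := congrArg (fun x => A a x) e
      simp [haa, hab, hO.swap hya] at h1
      have hr : r = 0 := h1.resolve_right haz
      exact mem2.2 ⟨s + t, t', by rw [hr, zero_smul, add_zero] at e; rw [add_smul, add_right_comm, e, sub_add_cancel]⟩
  have hmem : ∀ s t r : F, w ≠ s • a + t • b + r • z := fun s t r e => hwn (by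
    rw [Submodule.mem_span_range_iff_exists_fun]
    exact ⟨![s, t, r], by rw [e, Fin.sum_univ_three]; rfl⟩)
  have hw1 : cr A w b l ∈ X := main a w ha hw haa hww hab hba hwa hwb (fun hm => by
    obtain ⟨s, t, e⟩ := mem2.1 hm
    exact hmem s t 0 (by rw [← e, zero_smul, add_zero])) h
  by_cases hzbm : z ∈ F ∙ b
  · obtain ⟨c, rfl⟩ := Submodule.mem_span_singleton.1 hzbm
    have hwc : A w (c • b) = 0 := by simp [hwb]
    have h2 := main a (w + c • b) ha (hw.add hz) haa (by simp [hww, hbb, hwb, hO.swap hwb]) hab hba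
      (by simp [hwa, hO.swap hab]) (by simp [hwb, hbb]) (fun hm => by
      obtain ⟨s, t, e⟩ := mem2.1 hm
      exact hmem s (t - c) 0 (by rw [zero_smul, add_zero, sub_smul, ← add_sub_assoc, e, add_sub_cancel_right])) h
    rw [cr_add_left hww hzz hbb hwb (hO.swap hwb) hzb (hO.swap hzb) hwc (hO.swap hwc)] at h2
    simpa using mul_mem (inv_mem hw1) h2
  · refine main w z hw hz hww hzz hwb (fun hm => ?_) (hO.swap hwz) hzb (fun hm => ?_) hw1
    · obtain ⟨c, e⟩ := Submodule.mem_span_singleton.1 hm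
      exact hmem 0 c 0 (by rw [zero_smul, zero_add, zero_smul, add_zero, e])
    · obtain ⟨s, t, e⟩ := mem2.1 hm
      by_cases hs : s = 0
      · exact hzbm (Submodule.mem_span_singleton.2 ⟨t, by rw [← e, hs, zero_smul, zero_add]⟩)
      · exact hmem 0 (-(s⁻¹ * t)) s⁻¹ (by
          rw [zero_smul, zero_add, ← e, smul_add, smul_smul, smul_smul, inv_mul_cancel₀ hs, one_smul, neg_smul,
            add_left_comm, neg_add_cancel, add_zero])

theorem C_of_one (hO : OverU F₀ A X) {a b : ι → F} {l : F} (ha : RV F₀ a) (hb : RV F₀ b) (haa : A a a = 0) (hbb : A b b = 0)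
    (hab : A a b = 0) (hba : a ∉ F ∙ b) (hb0 : b ≠ 0) (h : cr A a b l ∈ X) : l ∈ hO.C := by
  intro u v hu hv huu hvv huv
  rcases eq_or_ne v 0 with rfl | hv0
  · rw [cr_zero_right huu]; exact one_mem X
  obtain ⟨w, hw, hww, hwp, hwn⟩ := hO.exists_iso_avoid (p := ![b, v]) (w := ![b, v]) (by intro j; fin_cases j <;> assumption)
    (by intro j; fin_cases j <;> assumption) (by have := hO.card; omega) (by have := hO.card; omega)
  have hwb : A w b = 0 := hwp 0
  have hwv : A w v = 0 := hwp 1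
  have hnb : w ∉ F ∙ b := fun hm => hwn (Submodule.span_mono (Set.singleton_subset_iff.2 (by exact ⟨0, rfl⟩)) hm)
  have hnv : w ∉ F ∙ v := fun hm => hwn (Submodule.span_mono (Set.singleton_subset_iff.2 (by exact ⟨1, rfl⟩)) hm)
  have h1 : cr A w b l ∈ X := hO.cr_step ha hb hw haa hbb hww hab hba hwb h
  rw [cr_comm hO.invol hww hbb hwb (hO.swap hwb)] at h1
  have hbw : b ∉ F ∙ w := fun hm => by
    obtain ⟨c, e⟩ := Submodule.mem_span_singleton.1 hm
    have hc : c ≠ 0 := by rintro rfl; exact hb0 (by rw [← e, zero_smul])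
    exact hnb (Submodule.mem_span_singleton.2 ⟨c⁻¹, by rw [← e, smul_smul, inv_mul_cancel₀ hc, one_smul]⟩)
  have h2 : cr A v w (σ l) ∈ X := hO.cr_step hb hw hv hbb hww hvv (hO.swap hwb) hbw (hO.swap hwv) h1
  rw [cr_comm hO.invol hvv hww (hO.swap hwv) hwv, hO.invol] at h2
  exact hO.cr_step hw hv hu hww hvv huu hwv hnv huv h2

theorem C_of_centre (hO : OverU F₀ A X) {u v : ι → F} {l : F} (hu : RV F₀ u) (hv : RV F₀ v) (huu : A u u = 0)
    (hvv : A v v = 0) (huv : A u v = 0) (hnv : u ∉ F ∙ v) (hv0 : v ≠ 0) (h : tt A (u + l • v) 1 ∈ X) : l ∈ hO.C := by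
  rw [tt_add_smul hO.invol huu hvv huv (hO.swap huv) l (map_one σ), one_mul, one_mul] at h
  have hE : cr A u v (σ l) * tt A v (l * σ l) ∈ X := by
    have := mul_mem (inv_mem (hO.rat u 1 hu huu F₀.one_mem (map_one σ))) h
    rwa [mul_assoc (tt A u 1), inv_mul_cancel_left] at this
  obtain ⟨w, hw, hww, hwp, hwn⟩ := hO.exists_iso_avoid (p := ![u, v]) (w := ![u, v]) (by intro j; fin_cases j <;> assumption)
    (by intro j; fin_cases j <;> assumption) (by have := hO.card; omega) (by have := hO.card; omega)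
  have hwu : A w u = 0 := hwp 0
  have hwv : A w v = 0 := hwp 1
  obtain ⟨g, hg, hgu, hgv⟩ := hO.move hu hw hv hww hwu hwv (fun hm => by
    obtain ⟨s, t, e⟩ := mem2.1 hm
    by_cases hs : s = 0
    · exact hnv (Submodule.mem_span_singleton.2 ⟨t, by rw [← e, hs, zero_smul, zero_add]⟩)
    · exact hwn (mem2.2 ⟨s⁻¹, -(s⁻¹ * t), by
        rw [← e, smul_add, smul_smul, smul_smul, inv_mul_cancel₀ hs, one_smul, neg_smul, add_neg_cancel_right]⟩))
  have h1 := mul_mem (conj_mem hg hE) (inv_mem hE)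
  have e : g * (cr A u v (σ l) * tt A v (l * σ l)) * g⁻¹ = cr A (g u) (g v) (σ l) * tt A (g v) (l * σ l) := by
    rw [← cr_conj (hO.iso g hg) huu hvv huv (hO.swap huv), ← conj_tt (hO.iso g hg) hvv]
    group
  rw [e, hgu, hgv, add_comm u w, cr_add_left hww huu hvv hwv (hO.swap hwv) huv (hO.swap huv) hwu (hO.swap hwu)] at h1
  refine hO.C_conj (hO.C_of_one hw hv hww hvv hwv
    (fun hm => hwn (Submodule.span_mono (Set.singleton_subset_iff.2 (by exact ⟨1, rfl⟩)) hm)) hv0 ?_)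
  simpa [mul_assoc] using h1

theorem C_of_tv (hO : OverU F₀ A X) {e : F} (he : σ e = e) {v : ι → F} (hv : RV F₀ v) (hvv : A v v = 0) (hv0 : v ≠ 0)
    (h : tt A v e ∈ X) : e ∈ hO.C := by
  have step : ∀ a z : ι → F, RV F₀ a → RV F₀ z → A a a = 0 → A z z = 0 → a ≠ 0 → A z a = 0 → z ∉ F ∙ a → tt A a e ∈ X →
      tt A z e ∈ X := by
    intro a z ha hz haa hzz ha0 hza hn h
    obtain ⟨g, hg, hga, -⟩ := hO.move (u := a) (w := z - a) (v := 0) ha (hz.sub ha) (fun _ => F₀.zero_mem)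
      (by simp [hzz, haa, hza, hO.swap hza]) (by simp [hza, haa]) (map_zero _) (fun hm => by
        obtain ⟨s, t, e⟩ := mem2.1 hm
        rw [smul_zero, add_zero, smul_sub] at e
        have hs : s ≠ 0 := by rintro rfl; rw [zero_smul, zero_smul, sub_zero] at e; exact ha0 e.symm
        exact hn (Submodule.mem_span_singleton.2 ⟨s⁻¹ * (1 + s), by
          rw [mul_smul, add_smul, one_smul]
          conv_lhs => arg 2; arg 1; rw [← e]
          rw [sub_add_cancel, smul_smul, inv_mul_cancel₀ hs, one_smul]⟩))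
    have h1 := conj_mem hg h
    rwa [conj_tt (hO.iso g hg) haa, hga, add_sub_cancel] at h1
  have hall : ∀ z : ι → F, RV F₀ z → A z z = 0 → tt A z e ∈ X := by
    intro z hz hzz
    rcases eq_or_ne z 0 with rfl | hz0
    · have : tt A (0 : ι → F) e = 1 := LinearEquiv.ext fun x => by rw [tt_apply (by simp)]; simp
      rw [this]; exact one_mem X
    obtain ⟨m, hm, hmm, hmp, hmn⟩ := hO.exists_iso_avoid (p := ![v, z]) (w := ![v, z])
      (by intro j; fin_cases j <;> assumption) (by intro j; fin_cases j <;> assumption) (by have := hO.card; omega)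
      (by have := hO.card; omega)
    have hmv : m ∉ F ∙ v := fun h' => hmn (Submodule.span_mono (Set.singleton_subset_iff.2 (by exact ⟨0, rfl⟩)) h')
    have hm0 : m ≠ 0 := fun h' => hmv (by rw [h']; exact zero_mem _)
    refine step m z hm hz hmm hzz hm0 (hO.swap (hmp 1)) (fun h' => ?_) (step v m hv hm hvv hmm hv0 (hmp 0) hmv h)
    obtain ⟨c, ec⟩ := Submodule.mem_span_singleton.1 h'
    have hc : c ≠ 0 := by rintro rfl; exact hz0 (by rw [← ec, zero_smul])
    exact hmn (mem2.2 ⟨0, c⁻¹, by rw [← ec, zero_smul, zero_add, smul_smul, inv_mul_cancel₀ hc, one_smul]⟩)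
  intro u w hu hw huu hww huw
  have hn : ∀ z : ι → F, RV F₀ z → A z z = 0 → tt A z (-e) ∈ X := fun z hz hzz => by
    rw [← tt_inv hzz]; exact inv_mem (hall z hz hzz)
  rw [cr_of_fix huu hww huw (hO.swap huw) he]
  exact mul_mem (mul_mem (hall _ (hu.add hw) (by simp [huu, hww, huw, hO.swap huw])) (hn u hu huu)) (hn w hw hww)

theorem rv_perp_decomp (hO : OverU F₀ A X) {v k : ι → F} (hv : RV F₀ v) (hvv : A v v = 0) (hv0 : v ≠ 0)
    (h : ∀ u, RV F₀ u → A u u = 0 → A u v = 0 → A u k ∈ F₀) : ∃ β : F, RV F₀ (k - β • v) := by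
  have hall : ∀ u, RV F₀ u → A u v = 0 → A u k ∈ F₀ := fun u hu huv => by
    obtain ⟨t, s, ht, hs, htt, hss, hpt, hps, rfl⟩ := hO.split (p := ![v]) (by intro j; fin_cases j; assumption)
      (by have := hO.card; omega) hu (by intro j; fin_cases j; exact hO.swap huv) (fun h0 hm => h0 (by
        obtain ⟨c, rfl⟩ := Submodule.mem_span_singleton.1 (mem1.1 hm)
        simp [hvv]))
    rw [map_sub, LinearMap.sub_apply]
    exact F₀.sub_mem (h t ht htt (hO.swap (hpt 0))) (h s hs hss (hO.swap (hps 0)))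
  obtain ⟨y, hy, -, hvy, -⟩ := hO.pairing 0 ![] (fun j => j.elim0) (by have := hO.card; omega) v hv (by simpa using hv0)
    (-1) (F₀.neg_mem F₀.one_mem)
  have hyv : A y v = 1 := by
    have h1 := hO.skew v y
    rw [hvy, map_neg, map_one] at h1
    exact (neg_inj.1 h1).symm
  refine ⟨A y k, hO.rv_of_forms fun i => ?_⟩
  set t := σ (A (Pi.single i 1) v) with ht
  have htF : t ∈ F₀ := hO.stab _ (hO.form _ _ (rv_single i) hv)
  have h1 := hall (Pi.single i 1 - t • y) ((rv_single i).sub (hy.smul htF)) (by simp [hyv, ht, hO.invol])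
  have e : A (Pi.single i 1) (k - A y k • v) = A (Pi.single i 1 - t • y) k := by simp [ht, hO.invol, mul_comm]
  rw [e]
  exact h1

theorem rat_perp (hO : OverU F₀ A X) (hC : ∀ l ∈ hO.C, l ∈ F₀) {x : (ι → F) ≃ₗ[F] (ι → F)} (hx : x ∈ X) {v v' : ι → F}
    (hv : RV F₀ v) (hv' : RV F₀ v') (hvv : A v v = 0) (hv'v' : A v' v' = 0) (hv0 : v ≠ 0) (hv'0 : v' ≠ 0) {b : F}
    (hxv : x v = b • v') {h : ι → F} (hh : RV F₀ h) (hhv : A h v = 0) : RV F₀ (σ b • x h) := by
  have hxi := hO.iso x hx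
  have hb : b ≠ 0 := by
    rintro rfl
    exact hv0 (x.map_eq_zero_iff.1 (by rw [hxv, zero_smul]))
  have hσb : σ b ≠ 0 := (map_ne_zero σ).2 hb
  have hnfix : σ (b * σ b) = b * σ b := by rw [map_mul, hO.invol, mul_comm]
  have hb2 : b * σ b ∈ F₀ := by
    have h1 := conj_mem hx (hO.rat v 1 hv hvv F₀.one_mem (map_one σ))
    rw [conj_tt hxi hvv, hxv, tt_smul hv'v', one_mul] at h1
    exact hC _ (hO.C_of_tv hnfix hv' hv'v' hv'0 h1)
  suffices hiso : ∀ h : ι → F, RV F₀ h → A h h = 0 → A h v = 0 → RV F₀ (σ b • x h) by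
    obtain ⟨t, s, ht, hs, htt, hss, hpt, hps, rfl⟩ := hO.split (p := ![v]) (by intro j; fin_cases j; assumption)
      (by have := hO.card; omega) hh (by intro j; fin_cases j; exact hO.swap hhv) (fun h0 hm => h0 (by
        obtain ⟨c, rfl⟩ := Submodule.mem_span_singleton.1 (mem1.1 hm)
        simp [hvv]))
    rw [map_sub, smul_sub]
    exact (hiso t ht htt (hO.swap (hpt 0))).sub (hiso s hs hss (hO.swap (hps 0)))
  clear hhv hh h
  intro h hh hhh hhv
  set k := σ b • x h with hk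
  have hhv' : A (x h) v' = 0 := by
    have h1 : A (x h) (x v) = 0 := by rw [hxi, hhv]
    rw [hxv, map_smul, smul_eq_mul] at h1
    exact (mul_eq_zero.1 h1).resolve_left hb
  have hxhh : A (x h) (x h) = 0 := by rw [hxi, hhh]
  have hkk0 : A k k = 0 := by rw [hk]; simp [hxhh]
  have hkv : A k v' = 0 := by rw [hk]; simp [hhv']
  have hq : cr A v' k 1 ∈ X := by
    have h1 := conj_mem hx (hO.cr_mem_rat hv hh hvv hhh (hO.swap hhv) F₀.one_mem)
    rw [cr_conj hxi hvv hhh (hO.swap hhv) hhv, hxv, cr_smul_left hv'v' hxhh (hO.swap hhv') hhv'] at h1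
    rwa [hk, cr_smul_right hO.invol hv'v' hxhh (hO.swap hhv') hhv', hO.invol]
  obtain ⟨β, hβ⟩ := hO.rv_perp_decomp hv' hv'v' hv'0 (k := k) fun u hu huu huv => by
    by_cases hum : u ∈ F ∙ v'
    · obtain ⟨c, rfl⟩ := Submodule.mem_span_singleton.1 hum
      simp [hO.swap hkv]
    have h1 := conj_mem hq (hO.rat u 1 hu huu F₀.one_mem (map_one σ))
    rw [conj_tt (hO.iso _ hq) huu, cr_apply hv'v' hkk0 (hO.swap hkv) hkv, hO.swap huv, mul_zero, zero_smul, add_zero,
      one_mul] at h1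
    have h2 := hC _ (hO.C_of_centre hu hv' huu hv'v' huv hum hv'0 h1)
    have h3 := hO.skew k u
    rw [← neg_neg (A u k), ← h3]
    exact F₀.neg_mem (hO.stab _ h2)
  set k₀ := k - β • v' with hk₀
  have hkk : k = k₀ + β • v' := by rw [hk₀, sub_add_cancel]
  by_cases hk₀m : k₀ ∈ F ∙ v'
  · obtain ⟨c, hc⟩ := Submodule.mem_span_singleton.1 hk₀m
    have hkc : k = (c + β) • v' := by rw [hkk, ← hc, add_smul]
    have hhc : ((c + β) / (b * σ b)) • v = h := x.injective (by
      have : x h = (σ b)⁻¹ • k := by rw [hk, smul_smul, inv_mul_cancel₀ hσb, one_smul]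
      rw [map_smul, hxv, smul_smul, this, hkc, smul_smul]
      congr 1
      field_simp)
    have := F₀.mul_mem (rv_scalar hv hh hv0 hhc) hb2
    rw [div_mul_cancel₀ _ (mul_ne_zero hb hσb)] at this
    rw [hkc]
    exact hv'.smul this
  · have h1 := conj_mem hx (hO.rat h (b * σ b) hh hhh hb2 hnfix)
    rw [conj_tt hxi hhh, show tt A (x h) (b * σ b) = tt A k 1 by rw [hk, tt_smul hxhh, hO.invol, one_mul, mul_comm], hkk] at h1
    have hk₀v : A k₀ v' = 0 := by rw [hk₀]; simp [hkv, hv'v']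
    have hk₀k₀ : A k₀ k₀ = 0 := by rw [hk₀]; simp [hkv, hO.swap hkv, hv'v', hkk0]
    rw [hkk]
    exact hβ.add (hv'.smul (hC _ (hO.C_of_centre hβ hv' hk₀k₀ hv'v' hk₀v hk₀m hv'0 h1)))

/-- a map carrying a rational isotropic vector to a multiple of a rational one is rational up to a scalar -/
theorem ratty_of_move (hO : OverU F₀ A X) (hC : ∀ l ∈ hO.C, l ∈ F₀) {x : (ι → F) ≃ₗ[F] (ι → F)} (hx : x ∈ X) {v v' : ι → F}
    (hv : RV F₀ v) (hv' : RV F₀ v') (hvv : A v v = 0) (hv'v' : A v' v' = 0) (hv0 : v ≠ 0) (hv'0 : v' ≠ 0) {b : F}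
    (hxv : x v = b • v') : Ratty F₀ x := by
  have hxi := hO.iso x hx
  have hb : b ≠ 0 := by
    rintro rfl
    exact hv0 (x.map_eq_zero_iff.1 (by rw [hxv, zero_smul]))
  have hσb : σ b ≠ 0 := (map_ne_zero σ).2 hb
  have hnfix : σ (b * σ b) = b * σ b := by rw [map_mul, hO.invol, mul_comm]
  have hb2 : b * σ b ∈ F₀ := by
    have h1 := conj_mem hx (hO.rat v 1 hv hvv F₀.one_mem (map_one σ))
    rw [conj_tt hxi hvv, hxv, tt_smul hv'v', one_mul] at h1
    exact hC _ (hO.C_of_tv hnfix hv' hv'v' hv'0 h1)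
  obtain ⟨f, hf, hff, hvf, -⟩ := hO.pairing 0 ![] (fun j => j.elim0) (by have := hO.card; omega) v hv (by simpa using hv0)
    (-1) (F₀.neg_mem F₀.one_mem)
  have hfv : A f v = 1 := by
    have h1 := hO.skew v f
    rw [hvf, map_neg, map_one] at h1
    exact (neg_inj.1 h1).symm
  suffices hkf : RV F₀ (σ b • x f) by
    refine ⟨σ b, hσb, fun i => ?_⟩
    set t := σ (A (Pi.single i 1) v) with ht
    have htF : t ∈ F₀ := hO.stab _ (hO.form _ _ (rv_single i) hv)
    have h1 := hO.rat_perp hC hx hv hv' hvv hv'v' hv0 hv'0 hxv (h := Pi.single i 1 - t • f) ((rv_single i).sub (hf.smul htF))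
      (by simp [hfv, ht, hO.invol])
    have h2 := h1.add (hkf.smul htF)
    rwa [map_sub, map_smul, smul_sub, smul_comm t (σ b), sub_add_cancel] at h2
  set k := σ b • x f with hk
  have hkk0 : A k k = 0 := by rw [hk]; simp [hxi, hff]
  have hkv : A k v' = 1 := by
    rw [hk, map_smulₛₗ, LinearMap.smul_apply, hO.invol, ← map_smul (A (x f)), ← hxv, hxi, hfv]
  have hxi' : x⁻¹ v' = b⁻¹ • v := by
    have := congrArg (fun z => x⁻¹ z) hxv
    simp only [map_smul, inv_apply] at this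
    rw [this, smul_smul, inv_mul_cancel₀ hb, one_smul]
  obtain ⟨β, hβ⟩ := hO.rv_perp_decomp hv' hv'v' hv'0 (k := k) fun u hu _ huv => by
    have h1 := hO.rat_perp hC (inv_mem hx) hv' hv hv'v' hvv hv'0 hv0 hxi' hu huv
    have h2 : A u k = b * σ b * A (σ b⁻¹ • x⁻¹ u) f := by
      have h3 : A u (x f) = A (x⁻¹ u) f := by
        conv_lhs => rw [← apply_inv x u]
        exact hxi _ _
      rw [hk, map_smul, smul_eq_mul, map_smulₛₗ, LinearMap.smul_apply, smul_eq_mul, h3, hO.invol]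
      field_simp
    rw [h2]
    exact F₀.mul_mem hb2 (hO.form _ _ h1 hf)
  set k₀ := k - β • v' with hk₀
  have hkk : k = k₀ + β • v' := by rw [hk₀, sub_add_cancel]
  have hk₀v : A k₀ v' = 1 := by rw [hk₀]; simp [hkv, hv'v']
  obtain ⟨u, hu, huu, hup, hun⟩ := hO.exists_iso_avoid (p := ![k₀, v']) (w := ![v'])
    (by intro j; fin_cases j <;> assumption) (by intro j; fin_cases j; assumption) (by have := hO.card; omega)
    (by have := hO.card; omega)
  have huk : A u k₀ = 0 := hup 0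
  have huv : A u v' = 0 := hup 1
  have hunv : u ∉ F ∙ v' := fun h => hun (mem1.2 h)
  obtain ⟨g, hg, hgv, hgk⟩ := hO.move hv' hu hβ huu huv huk (fun hm => by
    obtain ⟨s, t, e⟩ := mem2.1 hm
    have ht : t = 0 := by
      have := congrArg (fun z => A z v') e
      simpa [huv, hk₀v, hv'v'] using this
    have hs : s ≠ 0 := by rintro rfl; exact hv'0 (by rw [← e, ht, zero_smul, zero_smul, add_zero])
    exact hunv (Submodule.mem_span_singleton.2 ⟨s⁻¹, by rw [← e, ht, zero_smul, add_zero, smul_smul, inv_mul_cancel₀ hs, one_smul]⟩))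
  have htk : tt A k 1 ∈ X := by
    have h1 := conj_mem hx (hO.rat f (b * σ b) hf hff hb2 hnfix)
    rwa [conj_tt hxi hff, show tt A (x f) (b * σ b) = tt A k 1 by
      rw [hk, tt_smul (by rw [hxi, hff]), hO.invol, one_mul, mul_comm]] at h1
  have hgk' : g k = k + β • u := by rw [hkk, map_add, map_smul, hgk, hgv, smul_add, add_assoc]
  have htk' : tt A (k + β • u) 1 ∈ X := by
    have h1 := conj_mem hg htk
    rwa [conj_tt (hO.iso g hg) hkk0, hgk'] at h1
  have hDX : tt A (k + β • u) 1 * (tt A k 1)⁻¹ ∈ X := mul_mem htk' (inv_mem htk)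
  have huk' : A u k = 0 := by rw [hkk]; simp [huk, huv]
  have hkuk : A (k + β • u) (k + β • u) = 0 := by simp [hkk0, huk', hO.swap huk', huu]
  have hu0 : u ≠ 0 := fun e => hunv (by rw [e]; exact zero_mem _)
  have h1 := hO.rat_perp hC hDX hu hu huu huu hu0 hu0 (b := 1) (by
    rw [LinearEquiv.mul_apply, tt_inv hkk0, tt_apply hkk0, tt_apply hkuk]
    simp [hO.swap huk', huu]) hv' (hO.swap huv)
  have e : (tt A (k + β • u) 1 * (tt A k 1)⁻¹) v' = v' + β • u := by
    rw [LinearEquiv.mul_apply, tt_inv hkk0, tt_apply hkk0, tt_apply hkuk]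
    simp [hkv, hkk0, huk', huv]
  rw [map_one, one_smul, e] at h1
  have hβF : β ∈ F₀ := rv_scalar hu (h1.sub hv') hu0 (by rw [add_sub_cancel_left])
  rw [hkk]
  exact hβ.add (hv'.smul hβF)

theorem exists_plane (hO : OverU F₀ A X) {v' : ι → F} (h : ∀ w, RV F₀ w → v' ∉ F ∙ w) :
    ∃ v u : ι → F, RV F₀ v ∧ RV F₀ u ∧ A v v = 0 ∧ A u u = 0 ∧ A u v = 0 ∧ v ≠ 0 ∧ u ∉ F ∙ v ∧
      ∀ x, RV F₀ x → v' ∉ Submodule.span F (Set.range ![v, u, x]) := by
  have hc := hO.card
  by_contra hno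
  push Not at hno
  obtain ⟨v₁, hv₁, hv₁v₁, -, hv₁n⟩ := hO.exists_iso_avoid (p := ![]) (w := ![]) (fun j => j.elim0) (fun j => j.elim0)
    (by omega) (by omega)
  have hne : v₁ ≠ 0 := fun e => hv₁n (by rw [e]; exact zero_mem _)
  obtain ⟨u₁, hu₁, hu₁u₁, hu₁p, hu₁n⟩ := hO.exists_iso_avoid (p := ![v₁]) (w := ![v₁])
    (by intro j; fin_cases j; assumption) (by intro j; fin_cases j; assumption) (by omega) (by omega)
  obtain ⟨x₁, hx₁, hm₁⟩ := hno v₁ u₁ hv₁ hu₁ hv₁v₁ hu₁u₁ (hu₁p 0) hne (fun h => hu₁n (mem1.2 h))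
  set S : Fin 3 → ι → F := ![v₁, u₁, x₁] with hS
  have hSr : ∀ j, RV F₀ (S j) := by intro j; fin_cases j; exacts [hv₁, hu₁, hx₁]
  obtain ⟨v₂, hv₂, hv₂v₂, -, hv₂n⟩ := hO.exists_iso_avoid (p := ![]) (w := S) (fun j => j.elim0) hSr (by omega) (by omega)
  obtain ⟨u₂, hu₂, hu₂u₂, hu₂p, hu₂n⟩ := hO.exists_iso_avoid (p := ![v₂]) (w := ![S 0, S 1, S 2, v₂])
    (by intro j; fin_cases j; assumption) (by intro j; fin_cases j; exacts [hSr 0, hSr 1, hSr 2, hv₂]) (by omega) (by omega)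
  have hv₂0 : v₂ ≠ 0 := fun e => hv₂n (by rw [e]; exact zero_mem _)
  have hu₂v : u₂ ∉ F ∙ v₂ := fun h => hu₂n (Submodule.span_mono (Set.singleton_subset_iff.2 (by exact ⟨3, rfl⟩)) h)
  obtain ⟨x₂, hx₂, hm₂⟩ := hno v₂ u₂ hv₂ hu₂ hv₂v₂ hu₂u₂ (hu₂p 0) hv₂0 hu₂v
  obtain ⟨f₂, hf₂, hf₂u, hf₂S⟩ := exists_rf_sep (w := ![S 0, S 1, S 2, v₂])
    (by intro j; fin_cases j; exacts [hSr 0, hSr 1, hSr 2, hv₂]) hu₂ hu₂n
  obtain ⟨f₁, hf₁, hf₁v, hf₁S⟩ := exists_rf_sep (w := ![S 0, S 1, S 2, u₂])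
    (by intro j; fin_cases j; exacts [hSr 0, hSr 1, hSr 2, hu₂]) hv₂ (fun hm => by
      obtain ⟨c, hc'⟩ := (Submodule.mem_span_range_iff_exists_fun _).1 hm
      have hc3 : c 3 = 0 := by
        have := congrArg f₂ hc'
        simp only [map_sum, map_smul] at this
        simpa [Fin.sum_univ_four, show f₂ (S 0) = 0 from hf₂S 0, show f₂ (S 1) = 0 from hf₂S 1,
          show f₂ (S 2) = 0 from hf₂S 2, show f₂ v₂ = 0 from hf₂S 3, hf₂u] using this
      refine hv₂n ((Submodule.mem_span_range_iff_exists_fun _).2 ⟨![c 0, c 1, c 2], ?_⟩)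
      rw [← hc', Fin.sum_univ_three, Fin.sum_univ_four, hc3]
      simp)
  obtain ⟨s, hs⟩ := (Submodule.mem_span_range_iff_exists_fun _).1 hm₁
  obtain ⟨c, hc'⟩ := (Submodule.mem_span_range_iff_exists_fun _).1 hm₂
  rw [Fin.sum_univ_three] at hs hc'
  replace hs : s 0 • S 0 + s 1 • S 1 + s 2 • S 2 = v' := hs
  replace hc' : c 0 • v₂ + c 1 • u₂ + c 2 • x₂ = v' := hc'
  have e1 := congrArg f₁ (hs.trans hc'.symm)
  have e2 := congrArg f₂ (hs.trans hc'.symm)
  simp [show f₁ (S 0) = 0 from hf₁S 0, show f₁ (S 1) = 0 from hf₁S 1, show f₁ (S 2) = 0 from hf₁S 2,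
    show f₁ u₂ = 0 from hf₁S 3, hf₁v] at e1
  simp [show f₂ (S 0) = 0 from hf₂S 0, show f₂ (S 1) = 0 from hf₂S 1, show f₂ (S 2) = 0 from hf₂S 2,
    show f₂ v₂ = 0 from hf₂S 3, hf₂u] at e2
  refine h (x₂ - f₁ x₂ • v₂ - f₂ x₂ • u₂) ((hx₂.sub (hv₂.smul (hf₁.apply hx₂))).sub (hu₂.smul (hf₂.apply hx₂)))
    (Submodule.mem_span_singleton.2 ⟨c 2, ?_⟩)
  rw [← hc', show c 0 = -(c 2 * f₁ x₂) by linear_combination -e1, show c 1 = -(c 2 * f₂ x₂) by linear_combination -e2]
  module

/-- a rational map up to scalar whose displacements lie in a given space is rational -/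
theorem rational_of_perp (hO : OverU F₀ A X) {v u v' : ι → F} (hv : RV F₀ v) (hu : RV F₀ u) (hun : u ∉ F ∙ v)
    (hv0 : v ≠ 0) {x : (ι → F) ≃ₗ[F] (ι → F)} (hxX : x ∈ X) (hr : Ratty F₀ x)
    (himg : ∀ z, x z - z ∈ Submodule.span F (Set.range ![v, u, v'])) {z : ι → F} (hz : RV F₀ z) : RV F₀ (x z) := by
  obtain ⟨c, hc, hcx⟩ := hr
  suffices hcF : c ∈ F₀ by
    refine RV.map (L := x.toLinearMap) (fun i => ?_) hz
    have := (hcx i).smul (F₀.inv_mem hcF)
    rwa [smul_smul, inv_mul_cancel₀ hc, one_smul] at this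
  by_contra hcF
  letI : Algebra F₀ F := F₀.toAlgebra
  obtain ⟨π, hπ⟩ : ∃ π : Gal(F/F₀), π c ≠ c := by
    by_contra! hc'
    obtain ⟨c', hc''⟩ := (IsGalois.mem_range_algebraMap_iff_fixed c).2 hc'
    exact hcF (hc'' ▸ c'.2)
  have hπ0 : ∀ a ∈ F₀, π a = a := fun a ha => π.commutes ⟨a, ha⟩
  let Sg : (ι → F) →+ (ι → F) :=
    { toFun := fun z i => π (z i), map_zero' := funext fun i => map_zero π, map_add' := fun a b => funext fun i => map_add π _ _ }
  have hSrat : ∀ p : ι → F, RV F₀ p → ∀ y, A p (Sg y) = π (A p y) := fun p hp y => by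
    rw [apply_eq_sum (A p) (Sg y), apply_eq_sum (A p) y, map_sum]
    refine Finset.sum_congr rfl fun i _ => ?_
    rw [map_mul, hπ0 _ (hO.form _ _ hp (rv_single i))]
    rfl
  set L : (ι → F) →ₗ[F] (Fin 3 → F) := LinearMap.pi fun j => A (![v, u, v'] j) with hL
  set U := LinearMap.ker L with hU
  have hUm : ∀ w ∈ U, A v w = 0 ∧ A u w = 0 ∧ A v' w = 0 := fun w hw =>
    ⟨congrFun (LinearMap.mem_ker.1 hw) 0, congrFun (LinearMap.mem_ker.1 hw) 1, congrFun (LinearMap.mem_ker.1 hw) 2⟩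
  have hfixU : ∀ w ∈ U, x w = w := fun w hw => by
    obtain ⟨e1, e2, e3⟩ := hUm w hw
    refine sub_eq_zero.1 (hO.nd _ fun y => hO.swap ?_)
    obtain ⟨cc, hcc⟩ := (Submodule.mem_span_range_iff_exists_fun _).1 (himg (x⁻¹ y))
    have h0 : A (x (x⁻¹ y) - x⁻¹ y) w = 0 := by
      rw [← hcc, Fin.sum_univ_three]
      simp [e1, e2, e3]
    rw [apply_inv, map_sub, LinearMap.sub_apply, ← hO.iso x hxX (x⁻¹ y) w, apply_inv, sub_eq_zero] at h0
    rw [map_sub, h0, sub_self]
  obtain ⟨y₁, -, -, hy₁u, hy₁v⟩ := hO.pairing 1 ![v] (by intro j; fin_cases j; exact hv) (by have := hO.card; omega) u hu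
    (fun h => hun (mem1.1 h)) 1 F₀.one_mem
  obtain ⟨y₂, -, -, hy₂v, hy₂u⟩ := hO.pairing 1 ![u] (by intro j; fin_cases j; exact hu) (by have := hO.card; omega) v hv
    (fun h => by
      obtain ⟨s, hs⟩ := Submodule.mem_span_singleton.1 (mem1.1 h)
      rcases eq_or_ne s 0 with rfl | hs0
      · exact hv0 (by rw [← hs, zero_smul])
      · exact hun (Submodule.mem_span_singleton.2 ⟨s⁻¹, by rw [← hs, smul_smul, inv_mul_cancel₀ hs0, one_smul]⟩)) 1 F₀.one_mem
  let Φ : (U × U) × F × F → (ι → F) := fun p => (p.1.1 : ι → F) - Sg p.1.2 + p.2.1 • y₁ + p.2.2 • y₂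
  have hΦ : Function.Injective Φ := by
    rintro ⟨⟨a, b⟩, s, t⟩ ⟨⟨a', b'⟩, s', t'⟩ h
    have hd : ((a : ι → F) - a') - Sg ((b : ι → F) - b') + (s - s') • y₁ + (t - t') • y₂ = 0 := by
      rw [map_sub, ← sub_eq_zero.2 h]
      simp only [Φ]
      module
    obtain ⟨hav, hau, -⟩ := hUm _ (U.sub_mem a.2 a'.2)
    obtain ⟨hbv, hbu, -⟩ := hUm _ (U.sub_mem b.2 b'.2)
    have k1 := congrArg (A v) hd
    have k2 := congrArg (A u) hd
    rw [map_add, map_add, map_sub, map_smul, map_smul, map_zero, hav, hSrat v hv, hbv, map_zero, sub_zero, zero_add,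
      show A v y₁ = 0 from hy₁v 0, smul_zero, zero_add, hy₂v, smul_eq_mul, mul_one, sub_eq_zero] at k1
    rw [map_add, map_add, map_sub, map_smul, map_smul, map_zero, hau, hSrat u hu, hbu, map_zero, sub_zero, zero_add,
      show A u y₂ = 0 from hy₂u 0, smul_zero, add_zero, hy₁u, smul_eq_mul, mul_one, sub_eq_zero] at k2
    rw [k1, k2, sub_self, sub_self, zero_smul, zero_smul, add_zero, add_zero, sub_eq_zero] at hd
    have hb0 : (b : ι → F) - b' = 0 := by
      by_contra hb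
      set w := (b : ι → F) - b' with hw
      have e1 : x w = w := hfixU _ (U.sub_mem b.2 b'.2)
      have e2 : x (Sg w) = Sg w := hfixU _ (hd ▸ U.sub_mem a.2 a'.2)
      have e3 : Sg (c • x w) = c • x (Sg w) := by
        funext k
        show π (c * (LinearMap.proj k ∘ₗ x.toLinearMap) w) = c * (LinearMap.proj k ∘ₗ x.toLinearMap) (Sg w)
        rw [apply_eq_sum (LinearMap.proj k ∘ₗ x.toLinearMap) w, apply_eq_sum (LinearMap.proj k ∘ₗ x.toLinearMap) (Sg w),
          Finset.mul_sum, Finset.mul_sum, map_sum]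
        refine Finset.sum_congr rfl fun i _ => ?_
        show π (c * (w i * x (Pi.single i 1) k)) = c * (π (w i) * x (Pi.single i 1) k)
        rw [mul_left_comm, map_mul, hπ0 _ (show c * x (Pi.single i 1) k ∈ F₀ from hcx i k), mul_left_comm]
      rw [e1, e2] at e3
      obtain ⟨k, hk⟩ := Function.ne_iff.1 hb
      have e4 : π (c * w k) = c * π (w k) := congrFun e3 k
      rw [map_mul] at e4
      exact hπ (mul_right_cancel₀ (fun h0 => hk (π.injective (h0.trans (map_zero π).symm))) e4)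
    rw [hb0, map_zero, sub_eq_zero] at hd
    rw [Subtype.ext hd, Subtype.ext (sub_eq_zero.1 hb0), k1, k2]
  have h1 := Nat.card_le_card_of_injective Φ hΦ
  have h2 := LinearMap.finrank_range_add_finrank_ker L
  have h3 := Submodule.finrank_le (LinearMap.range L)
  rw [Module.finrank_fintype_fun_eq_card, ← hU] at h2
  rw [Module.finrank_fintype_fun_eq_card, Fintype.card_fin] at h3
  rw [Nat.card_prod, Nat.card_prod, Nat.card_prod, Module.natCard_eq_pow_finrank (K := F) (V := U),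
    Module.natCard_eq_pow_finrank (K := F) (V := ι → F), Module.finrank_fintype_fun_eq_card, ← sq (Nat.card F),
    ← pow_add, ← pow_add] at h1
  have h4 := (Nat.pow_le_pow_iff_right (Finite.one_lt_card (α := F))).1 h1
  have := hO.card
  omega

/-- some cross parameter is irrational -/
theorem exists_irrational (hO : OverU F₀ A X) (hout : ∃ g ∈ X, ¬ Ratty F₀ g) : ∃ l ∈ hO.C, l ∉ F₀ := by
  by_contra hC
  push Not at hC
  obtain ⟨g, hg, hgr⟩ := hout
  obtain ⟨e₀, he₀, he₀e₀, -, he₀n⟩ := hO.exists_iso_avoid (p := ![]) (w := ![]) (fun j => j.elim0) (fun j => j.elim0)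
    (by have := hO.card; omega) (by have := hO.card; omega)
  have hne : e₀ ≠ 0 := fun e => he₀n (by rw [e]; exact zero_mem _)
  set v' := g e₀ with hv'
  have hv'0 : v' ≠ 0 := fun e => hne (g.map_eq_zero_iff.1 e)
  have hv'i : A v' v' = 0 := by rw [hv', hO.iso g hg, he₀e₀]
  have hv'n : ∀ w, RV F₀ w → v' ∉ F ∙ w := fun w hw hm => by
    obtain ⟨b, hb⟩ := Submodule.mem_span_singleton.1 hm
    have hw0 : w ≠ 0 := fun e => hv'0 (by rw [← hb, e, smul_zero])
    have hb0 : b ≠ 0 := fun e => hv'0 (by rw [← hb, e, zero_smul])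
    have hww : A w w = 0 := by
      rw [← hb] at hv'i
      simpa [hb0] using hv'i
    exact hgr (hO.ratty_of_move hC hg he₀ hw he₀e₀ hww hne hw0 hb.symm)
  obtain ⟨v, u, hv, hu, hvv, huu, huv, hv0, hun, hplane⟩ := hO.exists_plane hv'n
  set W : Submodule F (ι → F) := Submodule.span F (Set.range ![v, u]) with hW
  set P : Submodule F (ι → F) := Submodule.span F (Set.range ![v, u, v']) with hP
  have hWP : W ≤ P := Submodule.span_le.2 (by
    rintro _ ⟨j, rfl⟩
    fin_cases j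
    · exact Submodule.subset_span ⟨0, rfl⟩
    · exact Submodule.subset_span ⟨1, rfl⟩)
  have hvW : v ∈ W := Submodule.subset_span ⟨0, rfl⟩
  have huW : u ∈ W := Submodule.subset_span ⟨1, rfl⟩
  have hiso : ∀ a ∈ W, ∀ b ∈ W, A a b = 0 := fun a ha b hb => by
    obtain ⟨s, t, rfl⟩ := mem2.1 ha
    obtain ⟨s', t', rfl⟩ := mem2.1 hb
    simp [huv, hO.swap huv, hvv, huu]
  have hPW : ∀ x, RV F₀ x → x ∈ P → x ∈ W := fun x hx hm => by
    obtain ⟨c, hc⟩ := (Submodule.mem_span_range_iff_exists_fun _).1 hm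
    rw [Fin.sum_univ_three] at hc
    replace hc : c 0 • v + c 1 • u + c 2 • v' = x := hc
    by_cases h2 : c 2 = 0
    · exact mem2.2 ⟨c 0, c 1, by rw [← hc, h2, zero_smul, add_zero]⟩
    · refine absurd ?_ (hplane x hx)
      refine (Submodule.mem_span_range_iff_exists_fun _).2 ⟨![-((c 2)⁻¹ * c 0), -((c 2)⁻¹ * c 1), (c 2)⁻¹], ?_⟩
      rw [Fin.sum_univ_three]
      show -((c 2)⁻¹ * c 0) • v + -((c 2)⁻¹ * c 1) • u + (c 2)⁻¹ • x = v'
      rw [← hc, smul_add, smul_add, smul_smul, smul_smul, smul_smul, inv_mul_cancel₀ h2]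
      module
  let G : Subgroup ((ι → F) ≃ₗ[F] (ι → F)) :=
    { carrier := {x | x ∈ X ∧ ∀ z, x z - z ∈ P}
      mul_mem' := fun {x y} hx hy => ⟨mul_mem hx.1 hy.1, fun z => by
        rw [LinearEquiv.mul_apply, ← sub_add_sub_cancel (x (y z)) (y z) z]
        exact add_mem (hx.2 _) (hy.2 _)⟩
      one_mem' := ⟨one_mem X, fun z => by simp⟩
      inv_mem' := fun {x} hx => ⟨inv_mem hx.1, fun z => by
        have := hx.2 (x⁻¹ z)
        rw [apply_inv] at this
        rw [← neg_sub]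
        exact neg_mem this⟩ }
  let S : Subgroup G :=
    { carrier := {x | (x : (ι → F) ≃ₗ[F] (ι → F)) v = v ∧ (x : (ι → F) ≃ₗ[F] (ι → F)) u = u}
      mul_mem' := fun {x y} hx hy => ⟨by
          show ((x : (ι → F) ≃ₗ[F] (ι → F)) * y) v = v
          rw [LinearEquiv.mul_apply, hy.1, hx.1], by
          show ((x : (ι → F) ≃ₗ[F] (ι → F)) * y) u = u
          rw [LinearEquiv.mul_apply, hy.2, hx.2]⟩
      one_mem' := ⟨rfl, rfl⟩
      inv_mem' := fun {x} hx => ⟨by
          show ((x : (ι → F) ≃ₗ[F] (ι → F)))⁻¹ v = v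
          conv_lhs => rw [← hx.1]
          exact inv_apply _ _, by
          show ((x : (ι → F) ≃ₗ[F] (ι → F)))⁻¹ u = u
          conv_lhs => rw [← hx.2]
          exact inv_apply _ _⟩ }
  have hrat : ∀ x : (ι → F) ≃ₗ[F] (ι → F), x ∈ G → Ratty F₀ x →
      (∀ z, RV F₀ z → RV F₀ (x z)) ∧ ∀ z, x z - z ∈ W := fun x hx hr => by
    have h1 : ∀ z, RV F₀ z → RV F₀ (x z) := fun z hz => hO.rational_of_perp hv hu hun hv0 hx.1 hr hx.2 hz
    refine ⟨h1, fun z => ?_⟩
    rw [eq_sum_single z, map_sum, ← Finset.sum_sub_distrib]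
    refine sum_mem fun j _ => ?_
    rw [map_smul, ← smul_sub]
    exact W.smul_mem _ (hPW _ ((h1 _ (rv_single j)).sub (rv_single j)) (hx.2 _))
  have hfix : ∀ x : (ι → F) ≃ₗ[F] (ι → F), x ∈ G → (∀ z, x z - z ∈ W) → ∀ w ∈ W, x w = w := fun x hx hxW w hw => by
    have hd := hxW w
    refine sub_eq_zero.1 (hO.nd _ fun z => hO.swap ?_)
    have h1 := hO.iso x hx.1 z w
    rw [show x z = z + (x z - z) by abel, show x w = w + (x w - w) by abel] at h1
    simp only [map_add, LinearMap.add_apply, hiso _ (hxW z) _ hw, hiso _ (hxW z) _ hd, add_zero] at h1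
    exact add_eq_left.1 h1
  have hS : ∀ x : G, x ∈ S → (∀ z, RV F₀ z → RV F₀ ((x : (ι → F) ≃ₗ[F] (ι → F)) z)) ∧
      ∀ z, (x : (ι → F) ≃ₗ[F] (ι → F)) z - z ∈ W := fun x hx =>
    hrat x x.2 (hO.ratty_of_move hC x.2.1 hv hv hvv hvv hv0 hv0 (b := 1) (by rw [one_smul]; exact hx.1))
  have hS' : ∀ x : G, Ratty F₀ (x : (ι → F) ≃ₗ[F] (ι → F)) → x ∈ S := fun x hx =>
    ⟨hfix _ x.2 (hrat _ x.2 hx).2 v hvW, hfix _ x.2 (hrat _ x.2 hx).2 u huW⟩
  have htvW : ∀ w ∈ W, ∀ c : F, tt A w c ∈ X → ∃ hm : tt A w c ∈ G, (⟨_, hm⟩ : G) ∈ S :=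
    fun w hw c hX => ⟨⟨hX, fun z => by rw [tt_apply (hiso w hw w hw), add_sub_cancel_left]; exact P.smul_mem _ (hWP hw)⟩,
      by
        show tt A w c v = v
        rw [tt_apply (hiso w hw w hw), hiso w hw v hvW, mul_zero, zero_smul, add_zero],
      by
        show tt A w c u = u
        rw [tt_apply (hiso w hw w hw), hiso w hw u huW, mul_zero, zero_smul, add_zero]⟩
  have hexk : ∀ z : ι → F, z ≠ 0 → ∃ k, A z (Pi.single k 1) ≠ 0 := fun z hz => by
    by_contra! hc
    refine hz (hO.nd _ fun y => ?_)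
    rw [eq_sum_single y, map_sum]
    simp [hc]
  haveI : Finite ((ι → F) ≃ₗ[F] (ι → F)) := Finite.of_injective (fun g => (g : (ι → F) → (ι → F))) DFunLike.coe_injective
  have hmal : ∀ x : G, x ∉ S → ∀ a ∈ S, x * a * x⁻¹ ∈ S → a = 1 := by
    intro x hxS a ha hxa
    by_contra ha1
    obtain ⟨j, hj⟩ : ∃ j, (a : (ι → F) ≃ₗ[F] (ι → F)) (Pi.single j 1) ≠ Pi.single j 1 := by
      by_contra! hc
      refine ha1 (Subtype.ext (LinearEquiv.ext fun z => ?_))
      show (a : (ι → F) ≃ₗ[F] (ι → F)) z = z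
      conv_lhs => rw [eq_sum_single z, map_sum]
      conv_rhs => rw [eq_sum_single z]
      simp [hc]
    set r := (a : (ι → F) ≃ₗ[F] (ι → F)) (Pi.single j 1) - Pi.single j 1 with hr
    have hrR : RV F₀ r := ((hS a ha).1 _ (rv_single j)).sub (rv_single j)
    have hrW : r ∈ W := (hS a ha).2 _
    have hrr : A r r = 0 := hiso r hrW r hrW
    have hr0 : r ≠ 0 := sub_ne_zero.2 hj
    set y := (x : (ι → F) ≃ₗ[F] (ι → F)) with hy
    have hxr : y r ∈ W := by
      have h1 := (hS _ hxa).2 (y (Pi.single j 1))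
      rw [Subgroup.coe_mul, Subgroup.coe_mul, Subgroup.coe_inv, LinearEquiv.mul_apply, LinearEquiv.mul_apply, ← hy, inv_apply,
        ← map_sub] at h1
      exact h1
    have hyr0 : y r ≠ 0 := fun e => hr0 (y.map_eq_zero_iff.1 e)
    have hyrr := hiso _ hxr _ hxr
    have htX : tt A (y r) 1 ∈ X := by
      rw [← conj_tt (hO.iso y x.2.1) hrr]
      exact conj_mem x.2.1 (hO.rat r 1 hrR hrr F₀.one_mem (map_one σ))
    obtain ⟨hm, hmS⟩ := htvW _ hxr 1 htX
    obtain ⟨k, hk⟩ := hexk _ hyr0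
    have h2 := ((hS _ hmS).1 _ (rv_single k)).sub (rv_single (F₀ := F₀) k)
    rw [show ((⟨_, hm⟩ : G) : (ι → F) ≃ₗ[F] (ι → F)) = tt A (y r) 1 from rfl, tt_apply hyrr, add_sub_cancel_left, one_mul] at h2
    refine hxS (hS' x (hO.ratty_of_move hC x.2.1 hrR h2 hrr (by simp [hyrr]) hr0 (smul_ne_zero hk hyr0)
      (b := (A (y r) (Pi.single k 1))⁻¹) ?_))
    rw [smul_smul, inv_mul_cancel₀ hk, one_smul]
  obtain ⟨p, hp⟩ := CharP.exists F
  have hfixd : ∀ a : G, a ∈ S → ∀ w ∈ W, (a : (ι → F) ≃ₗ[F] (ι → F)) w = w := fun a ha => hfix _ a.2 (hS a ha).2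
  have hpow : ∀ a : G, a ∈ S → ∀ (n : ℕ) (z : ι → F),
      ((a ^ n : G) : (ι → F) ≃ₗ[F] (ι → F)) z = z + (n : F) • ((a : (ι → F) ≃ₗ[F] (ι → F)) z - z) := fun a ha n => by
    induction n with
    | zero => intro z; simp
    | succ n ih =>
      intro z
      rw [pow_succ', Subgroup.coe_mul, LinearEquiv.mul_apply, ih, map_add, map_smul, hfixd a ha _ ((hS a ha).2 z), Nat.cast_succ,
        add_smul, one_smul]
      abel
  obtain ⟨y₀, hy₀, hy₀y₀, hy₀u, hy₀v⟩ := hO.pairing 1 ![v] (by intro j; fin_cases j; assumption) (by have := hO.card; omega)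
    u hu (fun h => hun (mem1.1 h)) 1 F₀.one_mem
  obtain ⟨hmv, hav⟩ := htvW v hvW 1 (hO.rat v 1 hv hvv F₀.one_mem (map_one σ))
  obtain ⟨hmu, hau⟩ := htvW u huW 1 (hO.rat u 1 hu huu F₀.one_mem (map_one σ))
  have hne1 : ∀ w : ι → F, A w w = 0 → w ≠ 0 → tt A w 1 ≠ 1 := fun w hww hw e => by
    obtain ⟨k, hk⟩ := hexk w hw
    have := LinearEquiv.congr_fun e (Pi.single k 1)
    rw [tt_apply hww, one_mul] at this
    exact hk ((smul_eq_zero.1 (add_eq_left.1 this)).resolve_right hw)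
  have hStop : S = ⊤ := malnormal_top S (CharP.char_is_prime F p) hmal (fun a ha => Subtype.ext (LinearEquiv.ext fun z => by
      rw [hpow a ha, CharP.cast_eq_zero, zero_smul, add_zero]; rfl))
    hav hau (Subtype.ext (LinearEquiv.ext fun z => by
      show tt A v 1 (tt A u 1 z) = tt A u 1 (tt A v 1 z)
      simp [tt_apply hvv, tt_apply huu, huv, hO.swap huv]
      abel))
    (fun e => hne1 v hvv hv0 (congrArg Subtype.val e))
    (fun j e => by
      have := LinearEquiv.congr_fun (congrArg Subtype.val e) y₀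
      rw [Subgroup.coe_mul, LinearEquiv.mul_apply, hpow _ hav] at this
      simp [tt_apply hvv, tt_apply huu, hy₀u, show A v y₀ = 0 from hy₀v 0, hO.swap huv] at this
      exact hun (by rw [this]; exact zero_mem _))
  have ht : tt A v' 1 ∈ X := by
    rw [hv', ← conj_tt (hO.iso g hg) he₀e₀]
    exact conj_mem hg (hO.rat _ 1 he₀ he₀e₀ F₀.one_mem (map_one σ))
  have htG : tt A v' 1 ∈ G := ⟨ht, fun z => by
    rw [tt_apply hv'i, add_sub_cancel_left]; exact P.smul_mem _ (Submodule.subset_span ⟨2, rfl⟩)⟩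
  obtain ⟨k, hk⟩ := hexk v' hv'0
  have hmemW := (hS ⟨_, htG⟩ (hStop ▸ Subgroup.mem_top _)).2 (Pi.single k 1)
  rw [show ((⟨_, htG⟩ : G) : (ι → F) ≃ₗ[F] (ι → F)) = tt A v' 1 from rfl, tt_apply hv'i, add_sub_cancel_left, one_mul] at hmemW
  have hv'W : v' ∈ W := by
    have := W.smul_mem (A v' (Pi.single k 1))⁻¹ hmemW
    rwa [smul_smul, inv_mul_cancel₀ hk, one_smul] at this
  exact hplane v hv (Submodule.span_mono (by rintro _ ⟨j, rfl⟩; fin_cases j; exacts [⟨0, rfl⟩, ⟨1, rfl⟩]) hv'W)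

theorem C_eq_univ (hO : OverU F₀ A X) (hout : ∃ g ∈ X, ¬ Ratty F₀ g) (c : F) : c ∈ hO.C := by
  have hC0 : ∀ a ∈ F₀, a ∈ hO.C := fun a ha u v hu hv huu hvv huv => hO.cr_mem_rat hu hv huu hvv huv ha
  have hadd : ∀ a b, a ∈ hO.C → b ∈ hO.C → a + b ∈ hO.C := fun a b ha hb u v hu hv huu hvv huv => by
    rw [cr_add_scalar huu hvv huv (hO.swap huv)]
    exact mul_mem (ha u v hu hv huu hvv huv) (hb u v hu hv huu hvv huv)
  have hmul : ∀ a b, a ∈ hO.C → b ∈ hO.C → a * b ∈ hO.C := fun a b ha hb => by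
    have hc := hO.card
    obtain ⟨v, hv, hvv, -, hvn⟩ := hO.exists_iso_avoid (p := ![]) (w := ![]) (fun j => j.elim0) (fun j => j.elim0)
      (by omega) (by omega)
    have hv0 : v ≠ 0 := fun e => hvn (by rw [e]; exact zero_mem _)
    obtain ⟨u, hu, huu, hup, hun⟩ := hO.exists_iso_avoid (p := ![v]) (w := ![v]) (by intro j; fin_cases j; assumption)
      (by intro j; fin_cases j; assumption) (by omega) (by omega)
    obtain ⟨w, hw, hww, hwp, hwn⟩ := hO.exists_iso_avoid (p := ![u, v]) (w := ![u, v]) (by intro j; fin_cases j <;> assumption)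
      (by intro j; fin_cases j <;> assumption) (by omega) (by omega)
    have huv : A u v = 0 := hup 0
    have hwu : A w u = 0 := hwp 0
    have hwv : A w v = 0 := hwp 1
    obtain ⟨y, hy, hyy, hvy, hy0⟩ := hO.pairing 2 ![u, w] (by intro j; fin_cases j <;> assumption) (by omega) v hv (fun hm => by
      obtain ⟨s, t, e⟩ := mem2.1 hm
      by_cases ht : t = 0
      · by_cases hs : s = 0
        · exact hv0 (by rw [← e, hs, ht, zero_smul, zero_smul, add_zero])
        · exact hun (mem1.2 (Submodule.mem_span_singleton.2 ⟨s⁻¹, by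
            rw [← e, ht, zero_smul, add_zero, smul_smul, inv_mul_cancel₀ hs, one_smul]⟩))
      · exact hwn (mem2.2 ⟨-(t⁻¹ * s), t⁻¹, by
          rw [← e, smul_add, smul_smul, smul_smul, inv_mul_cancel₀ ht, one_smul, neg_smul, ← add_assoc, neg_add_cancel,
            zero_add]⟩)) 1 F₀.one_mem
    have huy : A u y = 0 := hy0 0
    have hwy : A w y = 0 := hy0 1
    have hyu := hO.swap huy
    have hyw := hO.swap hwy
    have h1 := conj_mem (ha u v hu hv huu hvv huv) (hb y w hy hw hyy hww hyw)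
    rw [cr_conj (hO.iso _ (ha u v hu hv huu hvv huv)) hyy hww hyw hwy, cr_apply huu hvv huv (hO.swap huv),
      cr_apply huu hvv huv (hO.swap huv), huy, hvy, hO.swap hwu, hO.swap hwv] at h1
    simp only [mul_zero, zero_smul, add_zero, mul_one] at h1
    rw [add_comm y, cr_add_left (by simp [huu]) hyy hww (by simp [hO.swap hwu]) (by simp [hwu]) hyw hwy (by simp [huy])
      (by simp [hyu]), cr_smul_left huu hww (hO.swap hwu) hwu] at h1
    have h2 := mul_mem h1 (inv_mem (hb y w hy hw hyy hww hyw))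
    rw [mul_inv_cancel_right] at h2
    exact hO.C_of_one hu hw huu hww (hO.swap hwu) (fun hm => by
      obtain ⟨s, e⟩ := Submodule.mem_span_singleton.1 hm
      by_cases hs : s = 0
      · exact hun (by rw [← e, hs, zero_smul]; exact zero_mem _)
      · exact hwn (mem2.2 ⟨s⁻¹, 0, by rw [← e, zero_smul, add_zero, smul_smul, inv_mul_cancel₀ hs, one_smul]⟩))
      (fun e => hwn (by rw [e]; exact zero_mem _)) h2
  have hpow : ∀ a, a ∈ hO.C → ∀ n : ℕ, a ^ n ∈ hO.C := fun a ha n => by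
    induction n with
    | zero => rw [pow_zero]; exact hC0 1 F₀.one_mem
    | succ n ih => rw [pow_succ]; exact hmul _ _ ih ha
  let S : Subfield F :=
    { carrier := hO.C, mul_mem' := fun ha hb => hmul _ _ ha hb, one_mem' := hC0 1 F₀.one_mem
      add_mem' := fun ha hb => hadd _ _ ha hb, zero_mem' := hC0 0 F₀.zero_mem
      neg_mem' := fun {a} ha => by
        rw [← neg_one_mul]
        exact hmul _ _ (hC0 _ (F₀.neg_mem F₀.one_mem)) ha
      inv_mem' := fun a ha => by
        rcases eq_or_ne a 0 with rfl | h0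
        · simpa using ha
        have : a⁻¹ = a ^ (Fintype.card F - 2) := by
          refine inv_eq_of_mul_eq_one_right ?_
          rw [← pow_succ', show Fintype.card F - 2 + 1 = Fintype.card F - 1 by
            have := Fintype.one_lt_card (α := F); omega, FiniteField.pow_card_sub_one_eq_one a h0]
        rw [this]; exact hpow a ha _ }
  obtain ⟨l, hl, hlF⟩ := hO.exists_irrational hout
  obtain ⟨r, hr, hcard⟩ := hO.prime
  have hle : F₀ ≤ S := fun a ha => hC0 a ha
  letI : Algebra F₀ S := (Subfield.inclusion hle).toAlgebra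
  haveI : IsScalarTower F₀ S F := IsScalarTower.of_algebraMap_eq fun _ => rfl
  have h0 : 1 < Nat.card F₀ := Finite.one_lt_card
  have hrk : finrank F₀ F = r := by
    have := Module.natCard_eq_pow_finrank (K := F₀) (V := F)
    rw [Nat.card_eq_fintype_card, hcard] at this
    exact (Nat.pow_right_injective h0 this).symm
  have htow := Module.finrank_mul_finrank F₀ S F
  rw [hrk] at htow
  rcases (Nat.dvd_prime hr).1 (Dvd.intro _ htow) with h1 | h1
  · exfalso
    have hS : Nat.card S = Nat.card F₀ := by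
      rw [Module.natCard_eq_pow_finrank (K := F₀) (V := S), h1, pow_one]
    have : (F₀ : Set F) = (S : Set F) := Set.eq_of_subset_of_ncard_le hle
      (by rw [← Nat.card_coe_set_eq, ← Nat.card_coe_set_eq]; exact hS.le)
    exact hlF (this.ge hl)
  · have h2 : finrank S F = 1 := by
      rw [h1] at htow
      exact Nat.eq_of_mul_eq_mul_left hr.pos (by rw [mul_one]; exact htow)
    have hSF : (S : Set F) = Set.univ := Set.eq_of_subset_of_ncard_le (Set.subset_univ _) (by
      rw [Set.ncard_univ, ← Nat.card_coe_set_eq, Module.natCard_eq_pow_finrank (K := S) (V := F), h2, pow_one]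
      exact le_rfl)
    exact Set.eq_univ_iff_forall.1 hSF c

theorem all_tt (hO : OverU F₀ A X) (hout : ∃ g ∈ X, ¬ Ratty F₀ g) {x : ι → F} (hxx : A x x = 0) {c : F} (hc : σ c = c) :
    tt A x c ∈ X := by
  have hC := hO.C_eq_univ hout
  have hrv : ∀ v, RV F₀ v → A v v = 0 → ∀ c, σ c = c → tt A v c ∈ X := fun v hv hvv c hc => by
    obtain ⟨μ, hμ⟩ := hO.trace c hc
    have := hC μ v v hv hv hvv hvv hvv
    rwa [cr_self hvv, hμ] at this
  -- membership of all multiples of a centre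
  have hscale : ∀ (g : (ι → F) ≃ₗ[F] (ι → F)), g ∈ X → ∀ (v : ι → F), A v v = 0 → (∀ c, σ c = c → tt A v c ∈ X) →
      ∀ (a : F) (c : F), σ c = c → tt A (a • g v) c ∈ X := fun g hg v hvv hv a c hc => by
    rw [← map_smul, ← conj_tt (hO.iso g hg) (by simp [hvv]), tt_smul hvv]
    refine conj_mem hg (hv _ ?_)
    rw [map_mul, map_mul, hO.invol, hc]
    ring
  rcases eq_or_ne x 0 with rfl | hx0
  · have : tt A (0 : ι → F) c = 1 := LinearEquiv.ext fun z => by rw [tt_apply (by simp)]; simp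
    rw [this]; exact one_mem X
  have hcard := hO.card
  obtain ⟨e, he, hee, hex⟩ : ∃ e, RV F₀ e ∧ A e e = 0 ∧ A e x ≠ 0 := by
    by_contra! hno
    refine hx0 (hO.nd _ fun y => hO.swap ?_)
    have hall : ∀ i, A (Pi.single i (1 : F)) x = 0 := fun i => by
      obtain ⟨t, s, ht, hs, htt, hss, -, -, e⟩ := hO.split (p := ![]) (fun j => j.elim0) (by omega) (rv_single (F₀ := F₀) i)
        (fun j => j.elim0) (fun h0 hm => by
          rw [Matrix.range_empty, Submodule.span_empty, Submodule.mem_bot] at hm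
          exact h0 (by rw [hm]; simp))
      rw [e, map_sub, LinearMap.sub_apply, hno t ht htt, hno s hs hss, sub_zero]
    rw [eq_sum_single y]
    simp [map_sum, LinearMap.sum_apply, hall]
  have he0 : e ≠ 0 := fun h => hex (by simp [h])
  obtain ⟨f, hf, hff, hef, -⟩ := hO.pairing 0 ![] (fun j => j.elim0) (by omega) e he (by simpa using he0) 1 F₀.one_mem
  have hfe : A f e = -1 := by
    have h1 := hO.skew e f
    rw [hef, map_one] at h1
    exact neg_eq_iff_eq_neg.1 h1.symm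
  set π : ι → (ι → F) := fun i => Pi.single i 1 + A f (Pi.single i 1) • e - A e (Pi.single i 1) • f with hπ
  let Q : (ι → F) → Prop := fun z => A e z = 0 ∧ ∀ (a : F) (y : ι → F), A e y ≠ 0 → ∃ h ∈ X, ∃ α : F, h y = y + a • z + α • e
  have hQ : ∀ z ∈ Submodule.span F {z : ι → F | RV F₀ z ∧ A z z = 0 ∧ A e z = 0 ∧ A f z = 0}, Q z := by
    intro z hz
    induction hz using Submodule.span_induction with
    | mem b hb =>
      obtain ⟨hb, hbb, heb, -⟩ := hb
      refine ⟨heb, fun a y hy => ⟨cr A b e (a / A e y), hC _ b e hb he hbb hee (hO.swap heb), σ (a / A e y) * A b y, ?_⟩⟩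
      rw [cr_apply hbb hee (hO.swap heb) heb, div_mul_cancel₀ _ hy]
    | zero => exact ⟨map_zero _, fun a y _ => ⟨1, one_mem X, 0, by simp⟩⟩
    | add z₁ z₂ _ _ h1 h2 =>
      refine ⟨by rw [map_add, h1.1, h2.1, add_zero], fun a y hy => ?_⟩
      obtain ⟨g₁, hg₁, α₁, e₁⟩ := h1.2 a y hy
      obtain ⟨g₂, hg₂, α₂, e₂⟩ := h2.2 a (g₁ y) (by rw [e₁]; simpa [h1.1, hee] using hy)
      exact ⟨g₂ * g₁, mul_mem hg₂ hg₁, α₁ + α₂, by rw [LinearEquiv.mul_apply, e₂, e₁]; module⟩
    | smul b z _ h1 =>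
      refine ⟨by rw [map_smul, h1.1, smul_zero], fun a y hy => ?_⟩
      obtain ⟨g₁, hg₁, α₁, e₁⟩ := h1.2 (a * b) y hy
      exact ⟨g₁, hg₁, α₁, by rw [e₁, mul_smul]⟩
  have hπmem : ∀ i, π i ∈ Submodule.span F {z : ι → F | RV F₀ z ∧ A z z = 0 ∧ A e z = 0 ∧ A f z = 0} := fun i => by
    have hR : RV F₀ (π i) := ((rv_single i).add (he.smul (hO.form _ _ hf (rv_single i)))).sub
      (hf.smul (hO.form _ _ he (rv_single i)))
    have h1 : A e (π i) = 0 := by simp [hπ, hee, hef]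
    have h2 : A f (π i) = 0 := by simp [hπ, hff, hfe]
    obtain ⟨t, s, ht, hs, htt, hss, hpt, hps, e'⟩ := hO.split (p := ![e, f]) (by intro j; fin_cases j <;> assumption)
      (by omega) hR (by intro j; fin_cases j <;> assumption) (fun h0 hm => h0 (by
        obtain ⟨a, b, hab⟩ := mem2.1 hm
        rw [← hab] at h1 h2
        simp [hee, hef, hfe, hff] at h1 h2
        rw [← hab, h1, h2]
        simp))
    rw [e']
    exact Submodule.sub_mem _ (Submodule.subset_span ⟨ht, htt, hpt 0, hpt 1⟩) (Submodule.subset_span ⟨hs, hss, hps 0, hps 1⟩)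
  set z := ∑ i, x i • π i with hzd
  obtain ⟨hez, hmove⟩ := hQ z (sum_mem fun i _ => Submodule.smul_mem _ _ (hπmem i))
  obtain ⟨g, hg, α, hgx⟩ := hmove (-1) x hex
  have hxz : x = z - A f x • e + A e x • f := by
    have h1 : z = ∑ i, x i • (Pi.single i 1 : ι → F) + (∑ i, x i * A f (Pi.single i 1)) • e
        - (∑ i, x i * A e (Pi.single i 1)) • f := by
      rw [hzd, Finset.sum_smul, Finset.sum_smul, ← Finset.sum_add_distrib, ← Finset.sum_sub_distrib]
      refine Finset.sum_congr rfl fun i _ => ?_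
      simp [hπ, smul_sub, smul_add, smul_smul]
    rw [h1, ← eq_sum_single x, ← apply_eq_sum, ← apply_eq_sum]
    abel
  set γ := A e x with hγ
  have hgx' : g x = (α - A f x) • e + γ • f := by
    rw [hgx]
    conv_lhs => rw [hxz]
    module
  set a' := α - A f x with ha'
  have hgg : A (g x) (g x) = 0 := by rw [hO.iso g hg, hxx]
  rw [hgx'] at hgg
  simp [hee, hff, hef, hfe] at hgg
  have hfix : σ (a' / γ) = a' / γ := by
    rw [map_div₀, div_eq_div_iff ((map_ne_zero σ).2 hex) hex]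
    linear_combination hgg
  have hgx2 : x = γ • (g⁻¹ * tt A e (a' / γ)) f := by
    rw [← map_smul, LinearEquiv.mul_apply, map_smul, tt_apply hee, hef, mul_one, smul_add, smul_smul, mul_div_cancel₀ _ hex,
      add_comm, ← hgx', inv_apply]
  rw [hgx2]
  exact hscale _ (mul_mem (inv_mem hg) (hrv e he hee _ hfix)) f hff (hrv f hf hff) γ c hc

end OverU

end Cfsg.Agent.ClassicalMax.Subfield.Unit
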