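import Cfsg.Agent.ClassicalMax.Subfield.Unit

/-!
Subfield groups inside the special unitary group of the standard Hermitian form: reduction of maximality to the
theorem on overgroups, for a scalar making the form skew-Hermitian and rational.
-/

set_option autoImplicit false
set_option linter.unusedSectionVars false
set_option linter.style.haveILetI false

namespace Cfsg.Agent.ClassicalMax.Subfield.Unit

open Module Cfsg.Agent.ClassicalMax Cfsg.Agent.Classical

variable {F : Type*} [Field F] [Fintype F] {n : ℕ} {σ : F →+* F}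

/-- the scaled pull-back of the standard Hermitian form along a matrix -/
noncomputable def formP (σ : F →+* F) (k : F) (P : Matrix.GeneralLinearGroup (Fin n) F) :
    (Fin n → F) →ₛₗ[σ] (Fin n → F) →ₗ[F] F :=
  LinearMap.mk₂'ₛₗ σ (RingHom.id F) (fun x y => k * hermB n σ (glEquiv (Fin n) F P x) (glEquiv (Fin n) F P y))
    (fun a b c => by simp [mul_add])
    (fun c a b => by simp [mul_left_comm])
    (fun a b c => by simp [mul_add])
    (fun c a b => by simp [mul_left_comm])

theorem formP_apply (k : F) (P : Matrix.GeneralLinearGroup (Fin n) F) (x y : Fin n → F) :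
    formP σ k P x y = k * hermB n σ (glEquiv (Fin n) F P x) (glEquiv (Fin n) F P y) := rfl

/-- the isometries of a form -/
def isoA {V : Type*} [AddCommGroup V] [Module F V] (A : V →ₛₗ[σ] V →ₗ[F] F) : Subgroup (V ≃ₗ[F] V) where
  carrier := {g | ∀ x y, A (g x) (g y) = A x y}
  mul_mem' {a b} ha hb := fun x y => by rw [LinearEquiv.mul_apply, LinearEquiv.mul_apply, ha, hb]
  one_mem' := fun x y => rfl
  inv_mem' {a} ha := fun x y => by rw [← ha (a⁻¹ x) (a⁻¹ y), apply_inv, apply_inv]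

theorem formP_skew (hσ : Herm.IsInvol σ) {k : F} (hk : σ k = -k) (P : Matrix.GeneralLinearGroup (Fin n) F) (x y : Fin n → F) :
    σ (formP σ k P x y) = -formP σ k P y x := by
  rw [formP_apply, formP_apply, map_mul, hk, (hermB_isHerm hσ n).symm, neg_mul]

theorem formP_nd (hσ : Herm.IsInvol σ) {k : F} (hk : k ≠ 0) (P : Matrix.GeneralLinearGroup (Fin n) F) (x : Fin n → F)
    (hx : ∀ y, formP σ k P x y = 0) : x = 0 :=
  (glEquiv (Fin n) F P).map_eq_zero_iff.1 ((hermB_isHerm hσ n).nondeg _ fun y => by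
    have := hx ((glEquiv (Fin n) F P)⁻¹ y)
    rw [formP_apply, apply_inv] at this
    exact (mul_eq_zero.1 this).resolve_left hk)

/-- maximality of a subfield subgroup of the special unitary group -/
theorem isMaximalIn_subfield {q : ℕ} (hσ : Herm.IsInvol σ) (hσq : ∀ x, σ x = x ^ q) (hn : 6 ≤ n) (F₀ : Subfield F) {r : ℕ}
    (hr : r.Prime) (hcard : Fintype.card F = Nat.card F₀ ^ r) (P : Matrix.GeneralLinearGroup (Fin n) F) {k : F} (hk0 : k ≠ 0)
    (hk : σ k = -k) (hstab : ∀ a ∈ F₀, σ a ∈ F₀)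
    (hform : ∀ u v : Fin n → F, RV F₀ u → RV F₀ v → formP σ k P u v ∈ F₀)
    (hanti : ∀ u : Fin n → F, RV F₀ u → ∃ μ ∈ F₀, μ - σ μ = formP σ k P u u)
    (hpair : ∀ (j : ℕ) (p : Fin j → Fin n → F), (∀ i, RV F₀ (p i)) → 2 * j + 2 ≤ Fintype.card (Fin n) → ∀ x : Fin n → F,
      RV F₀ x → x ∉ Submodule.span F (Set.range p) → ∀ c ∈ F₀,
      ∃ y, RV F₀ y ∧ formP σ k P y y = 0 ∧ formP σ k P x y = c ∧ ∀ i, formP σ k P (p i) y = 0) :
    Cfsg.Geo.IsMaximalIn (Cfsg.GU n F q ⊓ Cfsg.Geo.specialLinear (Fin n) F)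
      (Cfsg.Geo.subfieldSubgroup F₀ P ⊓ (Cfsg.GU n F q ⊓ Cfsg.Geo.specialLinear (Fin n) F)) := by
  classical
  set A := formP σ k P with hAd
  set e : (Fin n → F) ≃ₗ[F] (Fin n → F) := glEquiv (Fin n) F P with he
  have hB := hermB_isHerm (n := n) hσ
  have hA : ∀ x y, A x y = k * hermB n σ (e x) (e y) := fun x y => rfl
  have hsk := formP_skew (n := n) hσ hk P
  have hK : ∀ g, g ∈ Cfsg.Geo.subfieldSubgroup F₀ P ↔ Ratty F₀ (e⁻¹ * glEquiv (Fin n) F g * e) := fun g => by
    rw [he, ← map_inv, ← map_mul, ← map_mul, ← mem_ratScalar_iff, Cfsg.Geo.subfieldSubgroup, Subgroup.mem_map]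
    constructor
    · rintro ⟨y, hy, rfl⟩
      simpa [MulAut.conj_apply, mul_assoc] using hy
    · intro h
      exact ⟨_, h, by simp [MulAut.conj_apply, mul_assoc]⟩
  have hiso : ∀ x, x ∈ isoA A ↔ ∀ u v, hermB n σ ((e * x * e⁻¹) u) ((e * x * e⁻¹) v) = hermB n σ u v := fun x => by
    constructor
    · intro h u v
      have h1 := h (e⁻¹ u) (e⁻¹ v)
      rw [hA, hA, apply_inv, apply_inv] at h1
      exact mul_left_cancel₀ hk0 h1
    · intro h u v
      have h1 := h (e u) (e v)
      simp only [LinearEquiv.mul_apply, inv_apply] at h1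
      rw [hA, hA, h1]
  have hiso0 : ∀ {v}, A v v = 0 → hermB n σ (e v) (e v) = 0 := fun {v} hv => by
    rw [hA] at hv
    exact (mul_eq_zero.1 hv).resolve_left hk0
  have htt : ∀ (v) (hv : A v v = 0) (c : F), e * tt A v c * e⁻¹ = Herm.tvU (hiso0 hv) (c * k) := fun v hv c =>
    LinearEquiv.ext fun x => by
      rw [LinearEquiv.mul_apply, LinearEquiv.mul_apply, tt_apply hv, Herm.tvU_apply, hA, map_add, map_smul, apply_inv]
      ring_nf
  have hsum : ∀ c, σ c = c → c * k + σ (c * k) = 0 := fun c hc => by rw [map_mul, hc, hk]; ring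
  have hratt : ∀ v c, RV F₀ v → A v v = 0 → c ∈ F₀ → Ratty F₀ (tt A v c) := fun v c hv hvv hc =>
    ⟨1, one_ne_zero, fun i => by
      rw [one_smul, tt_apply hvv]
      exact (rv_single i).add (hv.smul (F₀.mul_mem hc (hform _ _ hv (rv_single i))))⟩
  have hOX : ∀ X : Subgroup ((Fin n → F) ≃ₗ[F] (Fin n → F)), X ≤ isoA A →
      (∀ v c, RV F₀ v → A v v = 0 → c ∈ F₀ → σ c = c → tt A v c ∈ X) → OverU F₀ A X := fun X hX hrat =>
    ⟨hσ.invol, fun c hc => Herm.exists_trace hσ hc, hstab, hsk, formP_nd hσ hk0 P, hform, hanti, hpair,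
      by rw [Fintype.card_fin]; exact hn, ⟨r, hr, hcard⟩, fun x hx => hX hx, hrat⟩
  refine Unitary.isMaximalIn_suGL hσ hσq (by omega) _ ?_ ?_
  · -- a transvection with an irrational centre
    have hO := hOX (isoA A) le_rfl fun v c _ hvv _ hc => tt_iso hsk hvv hc
    obtain ⟨l, hl⟩ : ∃ l, l ∉ F₀ := by
      by_contra! hc
      have h1 : Nat.card F₀ = Nat.card F := Nat.card_congr (Equiv.subtypeUnivEquiv hc)
      have h0 : 1 < Nat.card F₀ := Finite.one_lt_card
      rw [Nat.card_eq_fintype_card (α := F), hcard] at h1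
      exact hr.ne_one (Nat.pow_right_injective h0 ((pow_one _).trans h1)).symm
    obtain ⟨v, hv, hvv, -, hvn⟩ := hO.exists_iso_avoid (p := ![]) (w := ![]) (fun j => j.elim0) (fun j => j.elim0)
      (by rw [Fintype.card_fin]; omega) (by rw [Fintype.card_fin]; omega)
    have hv0 : v ≠ 0 := fun e => hvn (by rw [e]; exact zero_mem _)
    obtain ⟨u, hu, huu, hup, hun⟩ := hO.exists_iso_avoid (p := ![v]) (w := ![v]) (by intro j; fin_cases j; assumption)
      (by intro j; fin_cases j; assumption) (by rw [Fintype.card_fin]; omega) (by rw [Fintype.card_fin]; omega)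
    have huv : A u v = 0 := hup 0
    have hzz : A (u + l • v) (u + l • v) = 0 := by simp [huu, hvv, huv, hO.swap huv]
    refine ⟨e (u + l • v), hiso0 hzz, 1 * k, hsum 1 (map_one σ), fun h => ?_⟩
    rw [hK, MulEquiv.apply_symm_apply, ← htt _ hzz, show e⁻¹ * (e * tt A (u + l • v) 1 * e⁻¹) * e = tt A (u + l • v) 1 by group] at h
    have hz0 : u + l • v ≠ 0 := fun e' => hun (OverU.mem1.2 (Submodule.mem_span_singleton.2 ⟨-l, by
      rw [neg_smul]; exact neg_eq_of_add_eq_zero_left e'⟩))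
    obtain ⟨j, hj⟩ : ∃ j, A (u + l • v) (Pi.single j 1) ≠ 0 := by
      by_contra! hc
      refine hz0 (hO.nd _ fun y => ?_)
      rw [eq_sum_single y, map_sum]
      exact Finset.sum_eq_zero fun x _ => by rw [map_smul, hc, smul_zero]
    have h2 := (rational_of_image h (P := F ∙ (u + l • v)) (fun z => by
      rw [tt_apply hzz, add_sub_cancel_left]; exact Submodule.smul_mem _ _ (Submodule.mem_span_singleton_self _))
      (by rw [finrank_span_singleton hz0, Fintype.card_fin]; omega) (rv_single j)).sub (rv_single (F₀ := F₀) j)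
    rw [tt_apply hzz, add_sub_cancel_left, one_mul] at h2
    set a := A (u + l • v) (Pi.single j 1) with ha
    obtain ⟨f₁, hf₁, hf₁u, hf₁v⟩ := exists_rf_sep (w := ![v]) (by intro j; fin_cases j; exact hv) hu hun
    obtain ⟨f₂, hf₂, hf₂v, hf₂u⟩ := exists_rf_sep (w := ![u]) (by intro j; fin_cases j; exact hu) hv (fun hm => by
      obtain ⟨c, hc⟩ := Submodule.mem_span_singleton.1 (OverU.mem1.1 hm)
      have := congrArg f₁ hc
      rw [map_smul, hf₁u, show f₁ v = 0 from hf₁v 0, smul_eq_mul, mul_one] at this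
      exact hv0 (by rw [← hc, this, zero_smul]))
    have e1 := hf₁.apply h2
    have e2 := hf₂.apply h2
    rw [map_smul, map_add, map_smul, hf₁u, show f₁ v = 0 from hf₁v 0, smul_zero, add_zero, smul_eq_mul, mul_one] at e1
    rw [map_smul, map_add, map_smul, hf₂v, show f₂ u = 0 from hf₂u 0, zero_add, smul_eq_mul, smul_eq_mul, mul_one] at e2
    exact hl (by simpa [hj] using F₀.div_mem e2 e1)
  · intro M hM hout
    let X : Subgroup ((Fin n → F) ≃ₗ[F] (Fin n → F)) := M.comap (MulAut.conj e).toMonoidHom ⊓ isoA A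
    have hO : OverU F₀ A X := hOX X inf_le_right fun v c hv hvv hc hcfix => ⟨by
      show e * tt A v c * e⁻¹ ∈ M
      have hmem := Herm.tvU_mem hB (hiso0 hvv) (hsum c hcfix)
      rw [htt v hvv c]
      refine hM _ hmem.1 (by simpa [Units.ext_iff] using hmem.2) ?_
      rw [hK, MulEquiv.apply_symm_apply, ← htt v hvv c, show e⁻¹ * (e * tt A v c * e⁻¹) * e = tt A v c by group]
      exact hratt v c hv hvv hc, tt_iso hsk hvv hcfix⟩
    obtain ⟨g, hg, hgi, hgK⟩ := hout
    have hg' : ∃ x ∈ X, ¬ Ratty F₀ x := ⟨e⁻¹ * g * e, ⟨by show e * (e⁻¹ * g * e) * e⁻¹ ∈ M; simpa [mul_assoc] using hg,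
      (hiso _).2 (by simpa [mul_assoc, apply_inv] using hgi)⟩, fun h => hgK ((hK _).2 (by rwa [MulEquiv.apply_symm_apply]))⟩
    intro w hw
    refine ⟨hw, fun hw' c hc => ?_⟩
    have hv : A (e⁻¹ w) (e⁻¹ w) = 0 := by rw [hA, apply_inv, hw, mul_zero]
    have hck : σ (c / k) = c / k := by
      rw [map_div₀, hk, show σ c = -c from eq_neg_of_add_eq_zero_right hc, neg_div_neg_eq]
    have h1 : e * tt A (e⁻¹ w) (c / k) * e⁻¹ ∈ M := (hO.all_tt hg' hv hck).1
    have h2 : e * tt A (e⁻¹ w) (c / k) * e⁻¹ = Herm.tvU hw' c := LinearEquiv.ext fun x => by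
      rw [htt _ hv, Herm.tvU_apply, Herm.tvU_apply, div_mul_cancel₀ _ hk0, apply_inv]
    rwa [h2] at h1

end Cfsg.Agent.ClassicalMax.Subfield.Unit
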