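import Cfsg.Agent.ClassicalMax.Subfield.UnitBridge
import Cfsg.Agent.ClassicalMax.Subfield.Root
import Cfsg.Agent.Classical.UnitElem.Basic

/-!
Subfield groups of orthogonal type inside special unitary groups of even dimension at least six or of dimension at least nine: a group containing the
rational isometries and an element outside the normaliser of the real structure contains all transvections.
-/

set_option autoImplicit false
set_option linter.unusedSectionVars false
set_option linter.unusedSimpArgs false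
set_option linter.style.haveILetI false

namespace Cfsg.Agent.ClassicalMax.Subfield.UnitOrth

open Module Cfsg.Agent.Classical Cfsg.Agent.ClassicalMax

variable {n : ℕ} {F : Type*} [Field F] [Fintype F] {σ : F →+* F}

/-- the hypotheses on the group -/
structure OU (F₀ : Subfield F) (A : (Fin n → F) →ₛₗ[σ] (Fin n → F) →ₗ[F] F)
    (X : Subgroup ((Fin n → F) ≃ₗ[F] (Fin n → F))) : Prop where
  herm : Herm.IsHerm A
  fixed : ∀ a, a ∈ F₀ ↔ σ a = a
  two : (2 : F) ≠ 0
  form : ∀ u v : Fin n → F, RV F₀ u → RV F₀ v → A u v ∈ F₀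
  card : 6 ≤ n
  shape : Even n ∨ 9 ≤ n
  iso : ∀ x ∈ X, ∀ a b, A (x a) (x b) = A a b
  rat : ∀ s : (Fin n → F) ≃ₗ[F] (Fin n → F), (∀ a b, A (s a) (s b) = A a b) → LinearMap.det s.toLinearMap = 1 →
    (∀ z, RV F₀ z → RV F₀ (s z)) → s ∈ X

/-- coordinatewise conjugate -/
def cj (σ : F →+* F) (z : Fin n → F) : Fin n → F := fun i => σ (z i)

/-- projection off an orthogonal list of anisotropic vectors -/
noncomputable def prs (A : (Fin n → F) →ₛₗ[σ] (Fin n → F) →ₗ[F] F) : List (Fin n → F) → (Fin n → F) → (Fin n → F)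
  | [], z => z
  | a :: l, z => prs A l z - (A a (prs A l z) / A a a) • a

/-- orthogonal lists of rational anisotropic vectors -/
def OL (F₀ : Subfield F) (A : (Fin n → F) →ₛₗ[σ] (Fin n → F) →ₗ[F] F) : List (Fin n → F) → Prop
  | [] => True
  | a :: l => RV F₀ a ∧ A a a ≠ 0 ∧ (∀ b ∈ l, A a b = 0) ∧ OL F₀ A l

/-- reflection -/
noncomputable def refl (A : (Fin n → F) →ₛₗ[σ] (Fin n → F) →ₗ[F] F) (c : Fin n → F) (x : Fin n → F) : Fin n → F :=
  x - (2 * A c x / A c c) • c

namespace OU

variable {F₀ : Subfield F} {A : (Fin n → F) →ₛₗ[σ] (Fin n → F) →ₗ[F] F} {X : Subgroup ((Fin n → F) ≃ₗ[F] (Fin n → F))}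

section Basics

variable (hO : OU F₀ A X)
include hO

theorem invol (a : F) : σ (σ a) = a := hO.herm.invol a

theorem symm' (a b : Fin n → F) : σ (A a b) = A b a := hO.herm.symm _ _

theorem swap {a b : Fin n → F} (h : A a b = 0) : A b a = 0 := (Herm.eq_zero_comm hO.herm).1 h

theorem fix {a : F} (ha : a ∈ F₀) : σ a = a := (hO.fixed a).1 ha

theorem two_mem : (2 : F) ∈ F₀ := by rw [← one_add_one_eq_two]; exact F₀.add_mem F₀.one_mem F₀.one_mem

theorem self_mem (a : Fin n → F) : A a a ∈ F₀ := (hO.fixed _).2 (Herm.fix_self hO.herm a)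

theorem comm {a b : Fin n → F} (ha : RV F₀ a) (hb : RV F₀ b) : A a b = A b a := by
  rw [← hO.symm' a b, hO.fix (hO.form _ _ ha hb)]

theorem rv_iff {z : Fin n → F} : RV F₀ z ↔ cj σ z = z :=
  ⟨fun h => funext fun i => hO.fix (h i), fun h i => (hO.fixed _).2 (congrFun h i)⟩

theorem cj_cj (z : Fin n → F) : cj σ (cj σ z) = z := funext fun i => hO.invol (z i)

theorem cj_right {w : Fin n → F} (hw : RV F₀ w) (z : Fin n → F) : A w (cj σ z) = σ (A w z) := by
  rw [apply_eq_sum (A w) (cj σ z), apply_eq_sum (A w) z, map_sum]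
  refine Finset.sum_congr rfl fun i _ => ?_
  rw [map_mul, hO.fix (hO.form _ _ hw (rv_single i))]
  rfl

theorem cj_left (v z : Fin n → F) : A (cj σ v) z = σ (A v (cj σ z)) := by
  conv_lhs => rw [eq_sum_single (cj σ v)]
  conv_rhs => rw [eq_sum_single v]
  rw [map_sum, map_sum, LinearMap.sum_apply, LinearMap.sum_apply, map_sum]
  refine Finset.sum_congr rfl fun i _ => ?_
  rw [map_smulₛₗ, map_smulₛₗ, LinearMap.smul_apply, LinearMap.smul_apply, smul_eq_mul, smul_eq_mul, map_mul,
    hO.cj_right (rv_single i), hO.invol (A _ z)]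
  rfl

theorem cj_symm (v w : Fin n → F) : A (cj σ v) w = A (cj σ w) v := by
  rw [hO.cj_left v w, hO.symm']

theorem eq_of_rat {x y : Fin n → F} (h : ∀ z, RV F₀ z → A z x = A z y) : x = y := by
  refine sub_eq_zero.1 (hO.herm.nondeg _ fun w => hO.swap ?_)
  rw [eq_sum_single w, map_sum, LinearMap.sum_apply]
  refine Finset.sum_eq_zero fun i _ => ?_
  rw [map_smulₛₗ, LinearMap.smul_apply, map_sub, h _ (rv_single i), sub_self, smul_zero]

theorem rv_of_real {x : Fin n → F} (h : ∀ z, RV F₀ z → σ (A z x) = A z x) : RV F₀ x :=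
  hO.rv_iff.2 (hO.eq_of_rat fun z hz => by rw [hO.cj_right hz, h z hz])

/-- orthogonal projection and its properties -/
theorem prs_spec : ∀ {l : List (Fin n → F)}, OL F₀ A l → ∀ z : Fin n → F,
    (∀ b ∈ l, A b (prs A l z) = 0) ∧ z - prs A l z ∈ Submodule.span F {x | x ∈ l} ∧ (RV F₀ z → RV F₀ (prs A l z))
  | [], _, z => ⟨by simp, by simp [prs], id⟩
  | a :: l, ⟨ha, haa, hal, hl⟩, z => by
    obtain ⟨h1, h2, h3⟩ := prs_spec hl z
    refine ⟨fun b hb => ?_, ?_, fun hz => ?_⟩
    · simp only [prs, map_sub, map_smul, smul_eq_mul]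
      rcases List.mem_cons.1 hb with rfl | hb
      · rw [div_mul_cancel₀ _ haa, sub_self]
      · rw [h1 b hb, hO.swap (hal b hb), mul_zero, sub_zero]
    · simp only [prs, sub_sub_eq_add_sub]
      rw [show z + (A a (prs A l z) / A a a) • a - prs A l z = (z - prs A l z) + (A a (prs A l z) / A a a) • a by abel]
      exact add_mem (Submodule.span_mono (fun x hx => List.mem_cons_of_mem _ hx) h2)
        (Submodule.smul_mem _ _ (Submodule.subset_span (by simp)))
    · exact (h3 hz).sub (ha.smul (F₀.div_mem (hO.form _ _ ha (h3 hz)) (hO.self_mem a)))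

theorem perp_prs {l : List (Fin n → F)} (hl : OL F₀ A l) (z : Fin n → F) {w : Fin n → F} (hw : ∀ b ∈ l, A b w = 0) :
    A w (prs A l z) = A w z := by
  have h : ∀ y ∈ Submodule.span F {x | x ∈ l}, A w y = 0 := fun y hy => by
    induction hy using Submodule.span_induction with
    | mem x hx => exact hO.swap (hw x hx)
    | zero => exact map_zero _
    | add a b _ _ h1 h2 => rw [map_add, h1, h2, add_zero]
    | smul a x _ h1 => rw [map_smul, h1, smul_zero]
  have := h _ (hO.prs_spec hl z).2.1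
  rwa [map_sub, sub_eq_zero, eq_comm] at this

theorem exists_aniso {l : List (Fin n → F)} (hl : OL F₀ A l) (hlen : l.length < n) :
    ∃ v, RV F₀ v ∧ (∀ b ∈ l, A b v = 0) ∧ A v v ≠ 0 := by
  classical
  by_contra! hno
  have h0 : ∀ z, RV F₀ z → prs A l z = 0 := fun z hz => hO.eq_of_rat fun w hw => by
    obtain ⟨hz1, -, hz3⟩ := hO.prs_spec hl z
    obtain ⟨hw1, hw2, hw3⟩ := hO.prs_spec hl w
    have e : A (prs A l w) (prs A l z) = 0 := by
      have h1 := hno (prs A l w + prs A l z) ((hw3 hw).add (hz3 hz)) fun b hb => by rw [map_add, hw1 b hb, hz1 b hb, add_zero]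
      simp only [map_add, LinearMap.add_apply, hno _ (hw3 hw) hw1, hno _ (hz3 hz) hz1,
        hO.comm (hz3 hz) (hw3 hw)] at h1
      exact (mul_eq_zero.1 (show 2 * A (prs A l w) (prs A l z) = 0 by linear_combination h1)).resolve_left hO.two
    have e2 := hO.perp_prs hl w hz1
    have e3 : A (prs A l z) (prs A l w) = 0 := hO.swap e
    rw [map_zero, hO.swap (e2 ▸ e3)]
  have htop : (⊤ : Submodule F (Fin n → F)) ≤ Submodule.span F {x | x ∈ l} := fun y _ => by
    rw [eq_sum_single y]
    refine sum_mem fun i _ => Submodule.smul_mem _ _ ?_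
    have h1 := (hO.prs_spec hl (Pi.single i 1)).2.1
    have h2 := h0 _ (rv_single (F₀ := F₀) i)
    rwa [h2, sub_zero] at h1
  have h1 := Submodule.finrank_mono htop
  have h3 : finrank F (Submodule.span F {x | x ∈ l}) ≤ l.length := by
    rw [show {x : Fin n → F | x ∈ l} = (l.toFinset : Set (Fin n → F)) by ext; simp]
    exact (finrank_span_finset_le_card _).trans l.toFinset_card_le
  rw [finrank_top, Module.finrank_fin_fun] at h1
  omega

theorem exists_value {l : List (Fin n → F)} (hl : OL F₀ A l) (hlen : l.length + 1 < n) {c : F} (hc : c ∈ F₀)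
    (hc0 : c ≠ 0) : ∃ v, RV F₀ v ∧ (∀ b ∈ l, A b v = 0) ∧ A v v = c := by
  haveI : Fintype F₀ := Fintype.ofFinite F₀
  obtain ⟨a, ha, hal, haa⟩ := hO.exists_aniso hl (by omega)
  obtain ⟨b, hb, hbl, hbb⟩ := hO.exists_aniso (l := a :: l) ⟨ha, haa, fun b hb => hO.swap (hal b hb), hl⟩ (by simpa using hlen)
  have hab : A a b = 0 := hbl a (by simp)
  let P : F₀ := ⟨A a a, hO.self_mem a⟩
  let R : F₀ := ⟨A b b, hO.self_mem b⟩
  have hP : P ≠ 0 := fun h => haa (congrArg Subtype.val h)
  have hR : R ≠ 0 := fun h => hbb (congrArg Subtype.val h)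
  have hodd : Fintype.card F₀ % 2 = 1 := by
    by_contra h
    have : ringChar F₀ = 2 := FiniteField.even_card_iff_char_two.2 (by omega)
    haveI := ringChar.of_eq this
    exact hO.two (congrArg Subtype.val (CharTwo.two_eq_zero (R := F₀)))
  obtain ⟨x, y, hxy⟩ := FiniteField.exists_root_sum_quadratic
    (f := Polynomial.C P * Polynomial.X ^ 2 + Polynomial.C (-⟨c, hc⟩ : F₀))
    (g := Polynomial.C R * Polynomial.X ^ 2)
    (by rw [Polynomial.degree_add_eq_left_of_degree_lt (lt_of_le_of_lt Polynomial.degree_C_le (by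
          rw [Polynomial.degree_C_mul_X_pow 2 hP]; norm_num)), Polynomial.degree_C_mul_X_pow 2 hP]
        rfl)
    (Polynomial.degree_C_mul_X_pow 2 hR) hodd
  simp only [Polynomial.eval_add, Polynomial.eval_mul, Polynomial.eval_C, Polynomial.eval_pow, Polynomial.eval_X] at hxy
  have hxy' : A a a * (x : F) ^ 2 + -c + A b b * (y : F) ^ 2 = 0 := congrArg Subtype.val hxy
  refine ⟨(x : F) • a + (y : F) • b, (ha.smul x.2).add (hb.smul y.2), fun d hd => ?_, ?_⟩
  · rw [map_add, map_smul, map_smul, hal d hd, hbl d (List.mem_cons_of_mem _ hd)]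
    simp
  · simp only [map_add, map_smul, map_smulₛₗ, LinearMap.add_apply, LinearMap.smul_apply, smul_eq_mul, hab, hO.swap hab,
      hO.fix x.2, hO.fix y.2]
    linear_combination hxy'

theorem exists_sing {l : List (Fin n → F)} (hl : OL F₀ A l) (hlen : l.length + 2 < n) :
    ∃ v, RV F₀ v ∧ (∀ b ∈ l, A b v = 0) ∧ A v v = 0 ∧ v ≠ 0 := by
  obtain ⟨a, ha, hal, haa⟩ := hO.exists_aniso hl (by omega)
  obtain ⟨b, hb, hbl, hbb⟩ := hO.exists_value (l := a :: l) ⟨ha, haa, fun b hb => hO.swap (hal b hb), hl⟩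
    (by simpa using hlen) (F₀.neg_mem (hO.self_mem a)) (neg_ne_zero.2 haa)
  have hab : A a b = 0 := hbl a (by simp)
  refine ⟨a + b, ha.add hb, fun d hd => ?_, ?_, fun h => haa ?_⟩
  · rw [map_add, hal d hd, hbl d (List.mem_cons_of_mem _ hd), add_zero]
  · simp [hab, hO.swap hab, hbb]
  · have := congrArg (A a) h
    rwa [map_add, hab, add_zero, map_zero] at this

theorem exists_partner {e : Fin n → F} (he : RV F₀ e) (hee : A e e = 0) (he0 : e ≠ 0) {l : List (Fin n → F)}
    (hl : OL F₀ A l) (hel : ∀ b ∈ l, A b e = 0) :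
    ∃ f, RV F₀ f ∧ A f f = 0 ∧ A e f = 1 ∧ ∀ b ∈ l, A b f = 0 := by
  obtain ⟨z, hz, hez⟩ : ∃ z, RV F₀ z ∧ A e z ≠ 0 := by
    by_contra! h
    exact he0 (hO.eq_of_rat fun z hz => by rw [map_zero, hO.swap (h z hz)])
  obtain ⟨h1, -, h3⟩ := hO.prs_spec hl z
  set w := (A e z)⁻¹ • prs A l z with hw
  have hwR : RV F₀ w := (h3 hz).smul (F₀.inv_mem (hO.form _ _ he hz))
  have hew : A e w = 1 := by rw [hw, map_smul, hO.perp_prs hl z hel, smul_eq_mul, inv_mul_cancel₀ hez]
  have hwe : A w e = 1 := by rw [← hO.comm he hwR, hew]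
  clear_value w
  refine ⟨w - (A w w / 2) • e, hwR.sub (he.smul (F₀.div_mem (hO.self_mem w) hO.two_mem)), ?_, ?_, fun b hb => ?_⟩
  · have hh : σ (A w w / 2) = A w w / 2 := hO.fix (F₀.div_mem (hO.self_mem w) hO.two_mem)
    simp only [map_sub, map_smul, map_smulₛₗ, LinearMap.sub_apply, LinearMap.smul_apply, smul_eq_mul, hh, hew, hwe, hee]
    field_simp [hO.two]
    ring
  · rw [map_sub, map_smul, hew, hee, smul_zero, sub_zero]
  · rw [map_sub, map_smul, hel b hb, smul_zero, sub_zero, hw, map_smul, h1 b hb, smul_zero]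

/-- the pair of anisotropic vectors of a hyperbolic pair -/
theorem ol_pair {e f : Fin n → F} (he : RV F₀ e) (hf : RV F₀ f) (hee : A e e = 0) (hff : A f f = 0) (hef : A e f = 1)
    {l : List (Fin n → F)} (hl : OL F₀ A l) (hel : ∀ b ∈ l, A b e = 0) (hfl : ∀ b ∈ l, A b f = 0) :
    OL F₀ A ((e + f) :: (e - f) :: l) := by
  have hfe : A f e = 1 := by rw [← hO.comm he hf, hef]
  have h2 : (-2 : F) ≠ 0 := neg_ne_zero.2 hO.two
  refine ⟨he.add hf, ?_, ?_, he.sub hf, ?_, ?_, hl⟩
  · simp [hee, hff, hef, hfe, one_add_one_eq_two, hO.two]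
  · intro b hb
    rcases List.mem_cons.1 hb with rfl | hb
    · simp [hee, hff, hef, hfe]
    · simp [hO.swap (hel b hb), hO.swap (hfl b hb)]
  · simp only [map_sub, LinearMap.sub_apply, hee, hff, hef, hfe]
    intro h; exact h2 (by linear_combination h)
  · intro b hb
    simp [hO.swap (hel b hb), hO.swap (hfl b hb)]

theorem ol_perp {e f z : Fin n → F} {l : List (Fin n → F)} (h : ∀ b ∈ (e + f) :: (e - f) :: l, A b z = 0) :
    A e z = 0 ∧ A f z = 0 ∧ ∀ b ∈ l, A b z = 0 := by
  have h1 : A (e + f) z = 0 := h _ (by simp)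
  have h2 : A (e - f) z = 0 := h _ (by simp)
  rw [map_add, LinearMap.add_apply] at h1
  rw [map_sub, LinearMap.sub_apply] at h2
  have e1 : A e z = 0 := (mul_eq_zero.1 (show 2 * A e z = 0 by linear_combination h1 + h2)).resolve_left hO.two
  exact ⟨e1, by rwa [e1, zero_add] at h1, fun b hb => h b (by simp [hb])⟩

/-- rational vectors orthogonal to a short list are combinations of singular ones -/
theorem mem_span_sing {l : List (Fin n → F)} (hl : OL F₀ A l) (hlen : l.length + 2 < n) {z : Fin n → F} (hz : RV F₀ z)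
    (hzl : ∀ b ∈ l, A b z = 0) :
    z ∈ Submodule.span F {x | RV F₀ x ∧ A x x = 0 ∧ ∀ b ∈ l, A b x = 0} := by
  obtain ⟨e, he, hel, hee, he0⟩ := hO.exists_sing hl hlen
  obtain ⟨f, hf, hff, hef, hfl⟩ := hO.exists_partner he hee he0 hl hel
  have hfe : A f e = 1 := by rw [← hO.comm he hf, hef]
  set S := Submodule.span F {x | RV F₀ x ∧ A x x = 0 ∧ ∀ b ∈ l, A b x = 0}
  have heS : e ∈ S := Submodule.subset_span ⟨he, hee, hel⟩
  have hfS : f ∈ S := Submodule.subset_span ⟨hf, hff, hfl⟩
  set w := z - A f z • e - A e z • f with hw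
  have hwR : RV F₀ w := (hz.sub (he.smul (hO.form _ _ hf hz))).sub (hf.smul (hO.form _ _ he hz))
  have hew : A e w = 0 := by simp [hw, hee, hef]
  have hfw : A f w = 0 := by simp [hw, hff, hfe]
  set t := A w w / 2 with ht
  have htF : t ∈ F₀ := F₀.div_mem (hO.self_mem w) hO.two_mem
  have hs : w + e - t • f ∈ S := Submodule.subset_span ⟨(hwR.add he).sub (hf.smul htF), by
      simp only [map_add, map_sub, map_smul, map_smulₛₗ, LinearMap.add_apply, LinearMap.sub_apply, LinearMap.smul_apply,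
        smul_eq_mul, hO.fix htF, hew, hfw, hO.swap hew, hO.swap hfw, hee, hff, hef, hfe]
      rw [ht]; field_simp [hO.two]; ring,
    fun b hb => by simp [hw, hzl b hb, hel b hb, hfl b hb]⟩
  rw [show z = (w + e - t • f) - e + t • f + A f z • e + A e z • f by rw [hw]; abel]
  exact add_mem (add_mem (add_mem (sub_mem hs heS) (S.smul_mem _ hfS)) (S.smul_mem _ heS)) (S.smul_mem _ hfS)

theorem exists_refl2 {c d : Fin n → F} (hc : RV F₀ c) (hd : RV F₀ d) (hcc : A c c ≠ 0) (hdd : A d d ≠ 0) :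
    ∃ s ∈ X, (∀ x, s x = refl A c (refl A d x)) ∧ ∀ a b, A (s a) (s b) = A a b := by
  have hm : (-1 : F) * σ (-1) = 1 := by simp
  obtain ⟨r₁, h1i, h1d, h1⟩ := Unitary.exists_preflection hO.herm hcc hm
  obtain ⟨r₂, h2i, h2d, h2⟩ := Unitary.exists_preflection hO.herm hdd hm
  have e1 : ∀ x, r₁ x = refl A c x := fun x => by rw [h1, refl]; module
  have e2 : ∀ x, r₂ x = refl A d x := fun x => by rw [h2, refl]; module
  have hr : ∀ {a : Fin n → F}, RV F₀ a → ∀ z, RV F₀ z → RV F₀ (refl A a z) := fun {a} ha z hz =>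
    hz.sub (ha.smul (F₀.div_mem (F₀.mul_mem hO.two_mem (hO.form _ _ ha hz)) (hO.self_mem a)))
  have hi : ∀ a b, A ((r₁ * r₂) a) ((r₁ * r₂) b) = A a b := fun a b => by
    rw [LinearEquiv.mul_apply, LinearEquiv.mul_apply, h1i, h2i]
  refine ⟨r₁ * r₂, hO.rat _ hi ?_ fun z hz => ?_, fun x => by rw [LinearEquiv.mul_apply, e1, e2], hi⟩
  · rw [show (r₁ * r₂).toLinearMap = r₁.toLinearMap ∘ₗ r₂.toLinearMap from rfl, LinearMap.det_comp, h1d, h2d]
    ring
  · rw [LinearEquiv.mul_apply, e1, e2]
    exact hr hc _ (hr hd _ hz)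

theorem refl_fix {c x : Fin n → F} (h : A c x = 0) : refl A c x = x := by simp [refl, h]

theorem rt_iso {u v : Fin n → F} (hu : A u u = 0) (hv : A v v = 0) (huv : A u v = 0) (l : F) (a b : Fin n → F) :
    A (Root.rt A u v l a) (Root.rt A u v l b) = A a b := by
  have hvu := hO.swap huv
  simp only [Root.rt_apply hu hv huv hvu, map_add, map_sub, map_smul, map_smulₛₗ, LinearMap.add_apply, LinearMap.sub_apply,
    LinearMap.smul_apply, RingHom.id_apply, smul_eq_mul, map_mul, hO.invol, hO.symm', hu, hv, huv, hvu]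
  ring

theorem rt_det {u v : Fin n → F} (hu : A u u = 0) (hv : A v v = 0) (huv : A u v = 0) (l : F) :
    LinearMap.det (Root.rt A u v l).toLinearMap = 1 := by
  have hvu := hO.swap huv
  have e1 : (l • A v : Dual F _) u = 0 := by simp [hvu]
  have e2 : (-(σ l • A u) : Dual F _) v = 0 := by simp [huv]
  have : Root.rt A u v l = tvec (l • A v) u * tvec (-(σ l • A u)) v := LinearEquiv.ext fun z => by
    rw [Root.rt_apply hu hv huv hvu, LinearEquiv.mul_apply, tvec_apply e1, tvec_apply e2]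
    simp [hv, hvu]
    module
  rw [this, show (tvec (l • A v) u * tvec (-(σ l • A u)) v).toLinearMap =
    (tvec (l • A v) u).toLinearMap ∘ₗ (tvec (-(σ l • A u)) v).toLinearMap from rfl,
    LinearMap.det_comp, det_tvec, det_tvec, one_mul]

theorem rt_mem {u v : Fin n → F} (hu : RV F₀ u) (hv : RV F₀ v) (huu : A u u = 0) (hvv : A v v = 0) (huv : A u v = 0)
    {l : F} (hl : l ∈ F₀) : Root.rt A u v l ∈ X :=
  hO.rat _ (hO.rt_iso huu hvv huv l) (hO.rt_det huu hvv huv l) fun z hz => by
    rw [Root.rt_apply huu hvv huv (hO.swap huv), hO.fix hl]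
    exact (hz.add (hu.smul (F₀.mul_mem hl (hO.form _ _ hv hz)))).sub (hv.smul (F₀.mul_mem hl (hO.form _ _ hu hz)))

/-- a rational isometry of determinant minus one to the dimension fixing the given vectors -/
theorem exists_turn {a₁ a₂ b : Fin n → F} (ha₁ : RV F₀ a₁) (ha₂ : RV F₀ a₂) :
    ∃ r : (Fin n → F) ≃ₗ[F] (Fin n → F), (∀ x y, A (r x) (r y) = A x y) ∧ LinearMap.det r.toLinearMap = (-1) ^ n ∧
      (∀ z, RV F₀ z → RV F₀ (r z)) ∧ r a₁ = a₁ ∧ r a₂ = a₂ ∧ r b = b := by
  rcases hO.shape with hev | h9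
  · exact ⟨1, fun _ _ => rfl, by rw [hev.neg_one_pow]; exact LinearMap.det_id, fun _ hz => hz, rfl, rfl, rfl⟩
  by_cases hev : Even n
  · exact ⟨1, fun _ _ => rfl, by rw [hev.neg_one_pow]; exact LinearMap.det_id, fun _ hz => hz, rfl, rfl, rfl⟩
  obtain ⟨e, he, hee, he1, he2, heb⟩ : ∃ e, RV F₀ e ∧ A e e ≠ 0 ∧ A e a₁ = 0 ∧ A e a₂ = 0 ∧ A e b = 0 := by
    by_contra! hall
    let φ : (Fin n → F) →ₗ[F] (Fin 4 → F) := LinearMap.pi ![A a₁, A a₂, A b, A (cj σ b)]
    have hφ : ∀ z, z ∈ LinearMap.ker φ ↔ A a₁ z = 0 ∧ A a₂ z = 0 ∧ A b z = 0 ∧ A (cj σ b) z = 0 := fun z => by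
      simp [φ, funext_iff, Fin.forall_fin_succ]
    set N := LinearMap.ker φ with hN
    have hsing : ∀ z ∈ N, RV F₀ z → A z z = 0 := fun z hz hr => by
      obtain ⟨h1, h2, h3, -⟩ := (hφ z).1 hz
      by_contra h0
      exact hall z hr h0 (hO.swap h1) (hO.swap h2) (hO.swap h3)
    have hcj : ∀ z ∈ N, cj σ z ∈ N := fun z hz => by
      obtain ⟨h1, h2, h3, h4⟩ := (hφ z).1 hz
      refine (hφ _).2 ⟨?_, ?_, ?_, ?_⟩
      · rw [hO.cj_right ha₁, h1, map_zero]
      · rw [hO.cj_right ha₂, h2, map_zero]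
      · have := hO.cj_left b z
        rw [h4] at this
        exact (map_eq_zero σ).1 this.symm
      · rw [hO.cj_left, hO.cj_cj, h3, map_zero]
    -- every vector is a combination of two rational ones
    obtain ⟨ζ, hζ0, hζ⟩ := Herm.exists_skew hO.herm.toIsInvol
    have hsplit : ∀ z ∈ N, ∃ x y, x ∈ N ∧ y ∈ N ∧ RV F₀ x ∧ RV F₀ y ∧ z = x + ζ • y := fun z hz =>
      ⟨(2 : F)⁻¹ • (z + cj σ z), ((2 : F) * ζ)⁻¹ • (z - cj σ z), N.smul_mem _ (N.add_mem hz (hcj z hz)),
        N.smul_mem _ (N.sub_mem hz (hcj z hz)),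
        hO.rv_iff.2 (funext fun i => by simp [cj, hO.fix hO.two_mem, hO.invol, add_comm]),
        hO.rv_iff.2 (funext fun i => by simp [cj, hO.fix hO.two_mem, hO.invol, hζ]; ring),
        funext fun i => by simp [cj]; field_simp [hO.two]; ring⟩
    have horth : ∀ x ∈ N, RV F₀ x → ∀ y ∈ N, RV F₀ y → A x y = 0 := fun x hx hxr y hy hyr => by
      have h := hsing _ (N.add_mem hx hy) (hxr.add hyr)
      simp only [map_add, LinearMap.add_apply, hsing x hx hxr, hsing y hy hyr, hO.comm hyr hxr, zero_add, add_zero] at h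
      exact (mul_eq_zero.1 (show 2 * A x y = 0 by linear_combination h)).resolve_left hO.two
    have hti : UnitElem.TI A N := fun u hu z hz => by
      obtain ⟨x, y, hx, hy, hxr, hyr, rfl⟩ := hsplit z hz
      obtain ⟨x', y', hx', hy', hxr', hyr', rfl⟩ := hsplit u hu
      simp [horth x' hx' hxr' x hx hxr, horth x' hx' hxr' y hy hyr, horth y' hy' hyr' x hx hxr,
        horth y' hy' hyr' y hy hyr]
    have h2 := UnitElem.two_mul_le_of_ti hO.herm (UnitElem.ndon_top hO.herm) le_top hti
    have h3 := LinearMap.finrank_range_add_finrank_ker φ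
    have h4 := Submodule.finrank_le (LinearMap.range φ)
    rw [finrank_top, Module.finrank_fin_fun] at h2
    rw [Module.finrank_fin_fun] at h3 h4
    rw [← hN] at h3
    omega
  obtain ⟨r, hri, hrd, hr⟩ := Unitary.exists_preflection hO.herm hee (show (-1 : F) * σ (-1) = 1 by simp)
  have hfix : ∀ x, A e x = 0 → r x = x := fun x hx => by simp [hr, hx]
  refine ⟨r, hri, by rw [hrd, (Nat.not_even_iff_odd.1 hev).neg_one_pow], fun z hz => ?_, hfix _ he1, hfix _ he2, hfix _ heb⟩
  rw [show r z = refl A e z by rw [hr, refl]; module]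
  exact hz.sub (he.smul (F₀.div_mem (F₀.mul_mem hO.two_mem (hO.form _ _ he hz)) (hO.self_mem e)))

/-- some root element moved by the group has a first point not orthogonal to its conjugate -/
theorem exists_pair (hout : ∃ g ∈ X, ¬ Ratty F₀ g) :
    ∃ g ∈ X, ∃ e f : Fin n → F, RV F₀ e ∧ RV F₀ f ∧ A e e = 0 ∧ A f f = 0 ∧ A e f = 0 ∧ f ∉ F ∙ e ∧
      A (cj σ (g e)) (g e) ≠ 0 := by
  obtain ⟨g, hg, hgr⟩ := hout
  by_contra! hno
  -- every moved singular point is orthogonal to its conjugate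
  have hsingle : ∀ y ∈ X, ∀ e : Fin n → F, RV F₀ e → A e e = 0 → A (cj σ (y e)) (y e) = 0 := fun y hy e he hee => by
    rcases eq_or_ne e 0 with rfl | he0
    · simp
    obtain ⟨e', he', hee', hef', -⟩ := hO.exists_partner he hee he0 (l := []) trivial (by simp)
    obtain ⟨f, hf, hfl, hff, hf0⟩ := hO.exists_sing (hO.ol_pair he he' hee hee' hef' (l := []) trivial (by simp) (by simp))
      (by simp only [List.length_cons, List.length_nil]; have := hO.card; omega)
    obtain ⟨h1, h2, -⟩ := hO.ol_perp hfl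
    refine hno y hy e f he hf hee hff h1 (fun h => ?_)
    obtain ⟨c, rfl⟩ := Submodule.mem_span_singleton.1 h
    rw [map_smul, ← hO.comm he he', hef', smul_eq_mul, mul_one] at h2
    exact hf0 (by rw [h2, zero_smul])
  -- every conjugate of a rational root element is rational
  have hrat : ∀ e f : Fin n → F, RV F₀ e → RV F₀ f → A e e = 0 → A f f = 0 → A e f = 0 → ∀ z, RV F₀ z →
      RV F₀ (Root.rt A (g e) (g f) 1 z) := by
    intro e f he hf hee hff hef z hz
    set a := g e with ha
    set b := g f with hb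
    have haa : A a a = 0 := by rw [ha, hO.iso g hg, hee]
    have hbb : A b b = 0 := by rw [hb, hO.iso g hg, hff]
    have hab : A a b = 0 := by rw [ha, hb, hO.iso g hg, hef]
    have hba := hO.swap hab
    have htX : Root.rt A a b 1 ∈ X := by
      rw [ha, hb, ← Root.rt_conj (hO.iso g hg) hee hff hef (hO.swap hef)]
      exact mul_mem (mul_mem hg (hO.rt_mem he hf hee hff hef F₀.one_mem)) (inv_mem hg)
    have hβaa : A (cj σ a) a = 0 := hsingle g hg e he hee
    have hβbb : A (cj σ b) b = 0 := hsingle g hg f hf hff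
    have hβab : A (cj σ a) b = 0 := by
      have h := hsingle g hg (e + f) (he.add hf) (by simp [hee, hff, hef, hO.swap hef])
      rw [map_add, ← ha, ← hb, show cj σ (a + b) = cj σ a + cj σ b from funext fun i => map_add σ _ _, map_add, map_add,
        LinearMap.add_apply, LinearMap.add_apply, hβaa, hβbb, ← hO.cj_symm a b] at h
      exact (mul_eq_zero.1 (show 2 * A (cj σ a) b = 0 by linear_combination h)).resolve_left hO.two
    -- the ratio of the two products is real
    let K : (Fin n → F) → (Fin n → F) → F := fun x y => σ (A a x) * A b y - A a x * σ (A b y)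
    have hsing : ∀ x : Fin n → F, RV F₀ x → A x x = 0 → K x x = 0 := fun x hx hxx => by
      have h := hsingle _ htX x hx hxx
      have hxc : cj σ x = x := hO.rv_iff.1 hx
      set α := A a x with hα
      set β := A b x with hβ
      set d := β • a - α • b with hd
      have htx : Root.rt A a b 1 x = x + d := by
        rw [Root.rt_apply haa hbb hab hba, map_one, one_mul, one_mul, hd, hα, hβ]; abel
      rw [htx, show cj σ (x + d) = cj σ x + cj σ d from funext fun i => map_add σ _ _, hxc] at h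
      have hdd : A (cj σ d) d = 0 := by
        rw [show cj σ d = σ β • cj σ a - σ α • cj σ b from funext fun i => by simp [cj, hd]]
        have e1 : A (cj σ b) a = 0 := by rw [hO.cj_symm, hβab]
        simp [hd, hβaa, hβbb, hβab, e1]
      have hdx : A (cj σ d) x = A x d := by
        rw [hO.cj_left, hxc, hO.symm']
      have hxd : A x d = β * σ α - α * σ β := by
        simp [hd, hα, hβ, hO.symm']
      simp only [map_add, LinearMap.add_apply, hxx, hdd, hdx, hxd] at h
      exact (mul_eq_zero.1 (show 2 * K x x = 0 by simp only [K]; linear_combination h)).resolve_left hO.two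
    have hall : ∀ x : Fin n → F, RV F₀ x → K x x = 0 := fun x hx => by
      obtain ⟨ζ, hζ0, hζ⟩ := Herm.exists_skew hO.herm.toIsInvol
      -- a singular rational vector killed by both functionals
      by_cases hab0 : A a x = 0 ∧ A b x = 0
      · simp [K, hab0.1, hab0.2]
      obtain ⟨u, hu, huu, hua, hub, hxu⟩ : ∃ u, RV F₀ u ∧ A u u = 0 ∧ A a u = 0 ∧ A b u = 0 ∧ A x u ≠ 0 := by
        have key : ∀ p, A p p = 0 → A (cj σ p) p = 0 → A a p = 0 → A (cj σ a) p = 0 → A b p = 0 → A (cj σ b) p = 0 →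
            A x p ≠ 0 → ∃ u, RV F₀ u ∧ A u u = 0 ∧ A a u = 0 ∧ A b u = 0 ∧ A x u ≠ 0 := by
          intro p hpp hcp h1 h1' h2 h2' hxp
          have hcc : A (cj σ p) (cj σ p) = 0 := by rw [hO.cj_left, hO.cj_cj, hpp, map_zero]
          have hpc : A p (cj σ p) = 0 := hO.swap hcp
          have h1c : A a (cj σ p) = 0 := by rw [← hO.invol (A a _), ← hO.cj_left, h1', map_zero]
          have h2c : A b (cj σ p) = 0 := by rw [← hO.invol (A b _), ← hO.cj_left, h2', map_zero]
          have hxc : A x (cj σ p) = σ (A x p) := hO.cj_right hx p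
          by_cases hre : A x p + σ (A x p) = 0
          · refine ⟨ζ • (p - cj σ p), hO.rv_iff.2 (funext fun i => ?_), by simp [hpp, hcc, hpc, hcp],
              by simp [h1, h1c], by simp [h2, h2c], ?_⟩
            · show σ (ζ * (p i - σ (p i))) = ζ * (p i - σ (p i))
              rw [map_mul, map_sub, hO.invol, hζ]; ring
            · rw [map_smul, map_sub, hxc, smul_eq_mul]
              refine mul_ne_zero hζ0 fun h => hxp ?_
              exact (mul_eq_zero.1 (show 2 * A x p = 0 by linear_combination hre + h)).resolve_left hO.two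
          · refine ⟨p + cj σ p, hO.rv_iff.2 (funext fun i => ?_), by simp [hpp, hcc, hpc, hcp],
              by simp [h1, h1c], by simp [h2, h2c], by rwa [map_add, hxc]⟩
            show σ (p i + σ (p i)) = p i + σ (p i)
            rw [map_add, hO.invol]; ring
        by_cases hax : A a x = 0
        · exact key b hbb hβbb hab hβab hbb hβbb fun h => hab0 ⟨hax, hO.swap h⟩
        · exact key a haa hβaa haa hβaa hba (by rw [hO.cj_symm, hβab]) fun h => hax (hO.swap h)
      set t := -A x x / (2 * A x u) with ht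
      have hxuF : A x u ∈ F₀ := hO.form _ _ hx hu
      have htF : t ∈ F₀ := F₀.div_mem (F₀.neg_mem (hO.self_mem x)) (F₀.mul_mem hO.two_mem hxuF)
      have := hsing (x + t • u) (hx.add (hu.smul htF)) (by
        simp only [map_add, map_smul, map_smulₛₗ, LinearMap.add_apply, LinearMap.smul_apply, smul_eq_mul, hO.fix htF, huu,
          ← hO.comm hx hu]
        rw [ht]; field_simp [hO.two]; ring)
      simpa [K, hua, hub] using this
    rw [Root.rt_apply haa hbb hab hba, map_one, one_mul, one_mul, add_sub_assoc]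
    refine hz.add (hO.rv_of_real fun w hw => ?_)
    have h1 := hall (w + z) (hw.add hz)
    have h2 := hall w hw
    have h3 := hall z hz
    simp only [K, map_add] at h1 h2 h3
    simp only [map_sub, map_smul, smul_eq_mul, map_mul, ← hO.symm' a w, ← hO.symm' b w, hO.invol]
    linear_combination -(h1 - h2 - h3)
  -- the discrepancy between conjugation and the map is a scalar
  let k : (Fin n → F) → (Fin n → F) := fun x => g.symm (cj σ (g (cj σ x)))
  have hgk : ∀ x, g (k x) = cj σ (g (cj σ x)) := fun x => g.apply_symm_apply _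
  have hkA : ∀ x y : Fin n → F, RV F₀ x → RV F₀ y → A (k x) (k y) = A x y := fun x y hx hy => by
    rw [← hO.iso g hg, hgk, hgk, hO.rv_iff.1 hx, hO.rv_iff.1 hy, hO.cj_left, hO.cj_cj, hO.iso g hg,
      hO.fix (hO.form _ _ hx hy)]
  have hksmul : ∀ (c : F) (x : Fin n → F), k (c • x) = c • k x := fun c x => g.injective (by
    rw [hgk, map_smul, hgk, show cj σ (c • x) = σ c • cj σ x from funext fun i => map_mul σ _ _, map_smul]
    exact funext fun i => by simp [cj, hO.invol])
  have hkadd : ∀ x y : Fin n → F, k (x + y) = k x + k y := fun x y => g.injective (by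
    rw [hgk, map_add, hgk, hgk, show cj σ (x + y) = cj σ x + cj σ y from funext fun i => map_add σ _ _, map_add]
    exact funext fun i => map_add σ _ _)
  have hplane : ∀ e f : Fin n → F, RV F₀ e → RV F₀ f → A e e = 0 → A f f = 0 → A e f = 0 → f ∉ F ∙ e →
      ∃ s t : F, k e = s • e + t • f := by
    intro e f he hf hee hff hef hn'
    have hgee : A (g e) (g e) = 0 := by rw [hO.iso g hg, hee]
    have hgff : A (g f) (g f) = 0 := by rw [hO.iso g hg, hff]
    have hgef : A (g e) (g f) = 0 := by rw [hO.iso g hg, hef]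
    -- the image of the root element commutes with conjugation
    have hcomm : ∀ x, k (A f x • e - A e x • f) = A f (k x) • e - A e (k x) • f := fun x => by
      refine g.injective ?_
      rw [hgk, map_sub, map_smul, map_smul, ← hO.iso g hg f (k x), ← hO.iso g hg e (k x), hgk,
        show cj σ (A f x • e - A e x • f) = σ (A f x) • e - σ (A e x) • f from funext fun i => by
          simp [cj, hO.fix (he i), hO.fix (hf i)], map_sub, map_smul, map_smul, ← hO.cj_right hf x, ← hO.cj_right he x]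
      generalize cj σ x = y
      rw [← hO.iso g hg f y, ← hO.iso g hg e y]
      generalize g y = w
      -- the displacement commutes with conjugation
      let D : (Fin n → F) → (Fin n → F) := fun w => A (g f) w • g e - A (g e) w • g f
      show cj σ (D w) = D (cj σ w)
      have hD : ∀ i, RV F₀ (D (Pi.single i 1)) := fun i => by
        have h1 := (hrat e f he hf hee hff hef _ (rv_single i)).sub (rv_single (F₀ := F₀) i)
        rwa [Root.rt_apply hgee hgff hgef (hO.swap hgef), map_one, one_mul, one_mul, add_sub_assoc, add_sub_cancel_left] at h1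
      have hlin : ∀ w, D w = ∑ i, w i • D (Pi.single i 1) := fun w => by
        simp only [D, apply_eq_sum (A (g f)) w, apply_eq_sum (A (g e)) w, Finset.sum_smul, ← Finset.sum_sub_distrib, smul_sub,
          smul_smul]
      funext j
      rw [hlin, hlin (cj σ w)]
      show σ ((∑ i, w i • D (Pi.single i 1)) j) = _
      rw [Finset.sum_apply, Finset.sum_apply, map_sum]
      refine Finset.sum_congr rfl fun i _ => ?_
      rw [Pi.smul_apply, Pi.smul_apply, smul_eq_mul, smul_eq_mul, map_mul, hO.fix (hD i j)]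
      rfl
    obtain ⟨z', hz', he'z⟩ : ∃ z', A f z' = 1 ∧ A e z' = 0 := by
      obtain ⟨w, hw, hw'⟩ := Unitary.exists_perp hO.herm (S := F ∙ e) hn'
      exact ⟨w, hw', hw e (Submodule.mem_span_singleton_self e)⟩
    have h1 := hcomm z'
    rw [hz', he'z, one_smul, zero_smul, sub_zero] at h1
    exact ⟨A f (k z'), -A e (k z'), by rw [h1, neg_smul, sub_eq_add_neg]⟩
  -- singular vectors are eigenvectors
  have heig : ∀ e : Fin n → F, RV F₀ e → A e e = 0 → e ≠ 0 → ∃ c : F, k e = c • e := by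
    intro e he hee he0
    obtain ⟨e', he', hee', hef', -⟩ := hO.exists_partner he hee he0 (l := []) trivial (by simp)
    have hl := hO.ol_pair he he' hee hee' hef' (l := []) trivial (by simp) (by simp)
    obtain ⟨f, hf, hfl, hff, hf0⟩ := hO.exists_sing hl (by simp only [List.length_cons, List.length_nil]; have := hO.card; omega)
    obtain ⟨f', hf', hff', hfp, hf'l⟩ := hO.exists_partner hf hff hf0 hl hfl
    obtain ⟨h1, h2, -⟩ := hO.ol_perp hfl
    obtain ⟨h1', h2', -⟩ := hO.ol_perp hf'l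
    have hn : f ∉ F ∙ e := fun h => by
      obtain ⟨c, rfl⟩ := Submodule.mem_span_singleton.1 h
      rw [map_smulₛₗ, LinearMap.smul_apply, hO.swap (hO.swap h1'), smul_zero] at hfp
      exact zero_ne_one hfp
    have hn' : f' ∉ F ∙ e := fun h => by
      obtain ⟨c, rfl⟩ := Submodule.mem_span_singleton.1 h
      rw [map_smul, hO.swap h1, smul_zero] at hfp
      exact zero_ne_one hfp
    obtain ⟨s, t, e1⟩ := hplane e f he hf hee hff h1 hn
    obtain ⟨s', t', e2⟩ := hplane e f' he hf' hee hff' h1' hn'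
    have h3 := congrArg (A f') (e1.symm.trans e2)
    have hf'f : A f' f = 1 := by rw [← hO.comm hf hf', hfp]
    simp only [map_add, map_smul, hO.swap h1', hf'f, hff', smul_zero, mul_zero, zero_add, smul_eq_mul, mul_one, add_zero] at h3
    exact ⟨s, by rw [e1, h3, zero_smul, add_zero]⟩
  obtain ⟨e, he, -, hee, he0⟩ := hO.exists_sing (l := []) trivial (by simp only [List.length_nil]; have := hO.card; omega)
  obtain ⟨f, hf, hff, hef, -⟩ := hO.exists_partner he hee he0 (l := []) trivial (by simp)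
  obtain ⟨c, hce⟩ := heig e he hee he0
  have hnorm : ∀ x y : Fin n → F, RV F₀ x → RV F₀ y → A x y ≠ 0 → ∀ a b : F, k x = a • x → k y = b • y → σ a * b = 1 := by
    intro x y hx hy hxy a b ha hb
    have := hkA x y hx hy
    rw [ha, hb] at this
    simp only [map_smulₛₗ, LinearMap.smul_apply, map_smul, smul_eq_mul] at this
    exact mul_right_cancel₀ hxy (by linear_combination this)
  have hcc : c * σ c = 1 := by
    obtain ⟨b, hb⟩ := heig f hf hff (fun h => by rw [h, map_zero] at hef; exact zero_ne_one hef)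
    have h1 := hnorm e f he hf (by rw [hef]; exact one_ne_zero) c b hce hb
    have hl := hO.ol_pair he hf hee hff hef (l := []) trivial (by simp) (by simp)
    obtain ⟨u, hu, hul, huu, hu0⟩ := hO.exists_sing hl (by simp only [List.length_cons, List.length_nil]; have := hO.card; omega)
    obtain ⟨heu, hfu, -⟩ := hO.ol_perp hul
    obtain ⟨d, hd⟩ := heig u hu huu hu0
    have hue : u ∉ F ∙ e := fun h => by
      obtain ⟨m, rfl⟩ := Submodule.mem_span_singleton.1 h
      rw [map_smul, ← hO.comm he hf, hef, smul_eq_mul, mul_one] at hfu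
      exact hu0 (by rw [hfu, zero_smul])
    have huf : u ∉ F ∙ f := fun h => by
      obtain ⟨m, rfl⟩ := Submodule.mem_span_singleton.1 h
      rw [map_smul, hef, smul_eq_mul, mul_one] at heu
      exact hu0 (by rw [heu, zero_smul])
    have key : ∀ x : Fin n → F, RV F₀ x → A x x = 0 → A x u = 0 → u ∉ F ∙ x → x ≠ 0 → ∀ a, k x = a • x → a = d := by
      intro x hx hxx hxu hux hx0 a ha
      obtain ⟨m, hm⟩ := heig (x + u) (hx.add hu) (by simp [hxx, huu, hxu, hO.swap hxu])
        (fun h => hux (Submodule.mem_span_singleton.2 ⟨-1, by rw [neg_one_smul]; exact neg_eq_of_add_eq_zero_right h⟩))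
      rw [hkadd, ha, hd, smul_add] at hm
      have h0 : (a - m) • x + (d - m) • u = 0 := by rw [sub_smul, sub_smul, sub_add_sub_comm, hm, sub_self]
      have hdm : d - m = 0 := by
        by_contra hne
        exact hux ((Submodule.smul_mem_iff _ hne).1 (by
          rw [eq_neg_of_add_eq_zero_right h0]; exact neg_mem (Submodule.smul_mem _ _ (Submodule.mem_span_singleton_self x))))
      rw [hdm, zero_smul, add_zero, smul_eq_zero, sub_eq_zero] at h0
      rw [h0.resolve_right hx0, (sub_eq_zero.1 hdm)]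
    have ed := key e he hee heu hue he0 c hce
    have fd := key f hf hff hfu huf (fun h => by rw [h, map_zero] at hef; exact zero_ne_one hef) b hb
    rw [fd, ← ed] at h1
    rw [mul_comm]; exact h1
  have hc0 : σ c ≠ 0 := fun h => by simp [h] at hcc
  have hconst : ∀ x : Fin n → F, RV F₀ x → A x x = 0 → k x = c • x := by
    intro x hx hxx
    rcases eq_or_ne x 0 with rfl | hx0
    · rw [← zero_smul F e, hksmul, zero_smul, zero_smul, smul_zero]
    obtain ⟨a, ha⟩ := heig x hx hxx hx0
    suffices a = c by rw [ha, this]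
    have via : ∀ y : Fin n → F, RV F₀ y → A y y = 0 → A e y ≠ 0 → ∀ b, k y = b • y → b = c := fun y hy hyy hey b hb => by
      have h1 := hnorm e y he hy hey c b hce hb
      exact mul_left_cancel₀ hc0 (by rw [h1, mul_comm, hcc])
    by_cases hex : A e x = 0
    swap
    · exact via x hx hxx hex a ha
    obtain ⟨x', hx', hxx', hxp, -⟩ := hO.exists_partner hx hxx hx0 (l := []) trivial (by simp)
    by_cases hex' : A e x' = 0
    swap
    · obtain ⟨b, hb⟩ := heig x' hx' hxx' (fun h => by rw [h, map_zero] at hxp; exact zero_ne_one hxp)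
      have hbc := via x' hx' hxx' hex' b hb
      have h1 := hnorm x x' hx hx' (by rw [hxp]; exact one_ne_zero) a b ha hb
      rw [hbc] at h1
      have h2 : σ a = σ c := mul_right_cancel₀ (fun h => hc0 (by rw [h, map_zero])) (h1.trans (by rw [mul_comm]; exact hcc.symm))
      exact σ.injective h2
    · -- a common neighbour
      set t := -A x' f with ht
      have htF : t ∈ F₀ := F₀.neg_mem (hO.form _ _ hx' hf)
      set y := x' + f + t • e with hyd
      have hy : RV F₀ y := (hx'.add hf).add (he.smul htF)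
      have hfe : A f e = 1 := by rw [← hO.comm he hf, hef]
      have hfx' : A f x' = A x' f := hO.comm hf hx'
      have hyy : A y y = 0 := by
        simp only [hyd, map_add, map_smul, map_smulₛₗ, LinearMap.add_apply, LinearMap.smul_apply, smul_eq_mul, hO.fix htF,
          hxx', hff, hee, hef, hfe, hex', hO.swap hex', hfx']
        rw [ht]; ring
      have hey : A e y = 1 := by simp [hyd, hex', hef, hee]
      obtain ⟨b, hb⟩ := heig y hy hyy (fun h => by rw [h, map_zero] at hey; exact zero_ne_one hey)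
      have hbc := via y hy hyy (by rw [hey]; exact one_ne_zero) b hb
      by_cases hxy : A x y = 0
      · -- replace the vector by one that is not orthogonal
        have hxf : A x f = -1 := by
          have : A x y = 1 + A x f + t * A x e := by simp [hyd, hxp]
          rw [hxy, hO.swap hex, mul_zero, add_zero] at this
          linear_combination -this
        obtain ⟨b', hb'⟩ := heig f hf hff (fun h => by rw [h, map_zero] at hef; exact zero_ne_one hef)
        have hbc' := via f hf hff (by rw [hef]; exact one_ne_zero) b' hb'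
        have h1 := hnorm x f hx hf (by rw [hxf]; exact neg_ne_zero.2 one_ne_zero) a b' ha hb'
        rw [hbc'] at h1
        exact σ.injective (mul_right_cancel₀ (fun h => hc0 (by rw [h, map_zero]))
          (h1.trans (by rw [mul_comm]; exact hcc.symm)))
      · have h1 := hnorm x y hx hy hxy a b ha hb
        rw [hbc] at h1
        exact σ.injective (mul_right_cancel₀ (fun h => hc0 (by rw [h, map_zero]))
          (h1.trans (by rw [mul_comm]; exact hcc.symm)))
  have hkrv : ∀ x : Fin n → F, RV F₀ x → k x = c • x := fun x hx => by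
    let L : (Fin n → F) →ₗ[F] (Fin n → F) :=
      { toFun := fun x => k x - c • x
        map_add' := fun a b => by rw [hkadd, smul_add]; abel
        map_smul' := fun a b => by simp only [RingHom.id_apply, hksmul]; module }
    have h1 := hO.mem_span_sing (l := []) trivial (by simp only [List.length_nil]; have := hO.card; omega) hx (by simp)
    refine sub_eq_zero.1 (show L x = 0 from ?_)
    refine (Submodule.span_le.2 (fun y hy => ?_) : _ ≤ LinearMap.ker L) h1
    exact LinearMap.mem_ker.2 (sub_eq_zero.2 (hconst y hy.1 hy.2.1))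
  -- rescale
  obtain ⟨d, hd0, hdc⟩ := Herm.exists_conj_quot hO.herm.toIsInvol hcc
  refine hgr ⟨d, hd0, fun i => hO.rv_iff.2 ?_⟩
  have h1 := congrArg g (hkrv _ (rv_single (F₀ := F₀) i))
  rw [hgk, hO.rv_iff.1 (rv_single i), map_smul] at h1
  rw [show cj σ (d • g (Pi.single i 1)) = σ d • cj σ (g (Pi.single i 1)) from funext fun j => map_mul σ _ _, h1, smul_smul,
    ← hdc, mul_div_assoc', mul_comm (σ d), mul_div_assoc, div_self ((map_ne_zero σ).2 hd0), mul_one]

theorem rt_bilin {p b b' : Fin n → F} (hpp : A p p = 0) (hbb : A b b = 0) (hb'b' : A b' b' = 0) (hpb : A p b = 0)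
    (hpb' : A p b' = 0) (l : F) (x : Fin n → F) :
    (Root.rt A p b l * Root.rt A p b' 1 * (Root.rt A p b l)⁻¹ * (Root.rt A p b' 1)⁻¹) x =
      x + ((σ (l * A b b') - l * A b b') * A p x) • p := by
  have hbp := hO.swap hpb
  have hb'p := hO.swap hpb'
  rw [Root.rt_inv hpp hbb hpb hbp, Root.rt_inv hpp hb'b' hpb' hb'p]
  simp only [LinearEquiv.mul_apply, Root.rt_apply hpp hbb hpb hbp, Root.rt_apply hpp hb'b' hpb' hb'p, map_add, map_sub,
    map_smul, map_neg, map_one, smul_eq_mul, hpp, hbb, hb'b', hpb, hpb', hbp, hb'p, map_mul, ← hO.symm' b b']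
  module

/-- centres from two root elements through a common point -/
theorem centre_of_shared {p b : Fin n → F} (hpp : A p p = 0) (hbb : A b b = 0) (hpb : A p b = 0)
    (hmem : ∀ l ∈ F₀, Root.rt A p b l ∈ X) {s : (Fin n → F) ≃ₗ[F] (Fin n → F)} (hs : s ∈ X) (hsp : s p = p)
    (him : σ (A b (s b)) ≠ A b (s b)) : p ∈ Unitary.centres A X := by
  refine ⟨hpp, fun hp c hc => ?_⟩
  have hi := hO.iso s hs
  have hb'b' : A (s b) (s b) = 0 := by rw [hi, hbb]
  have hpb' : A p (s b) = 0 := by rw [← hsp, hi, hpb]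
  set h := A b (s b) with hh
  have hne : σ h - h ≠ 0 := sub_ne_zero.2 him
  set l := c / (σ h - h) with hl
  have hlF : l ∈ F₀ := (hO.fixed _).2 (by
    rw [hl, map_div₀, map_sub, hO.invol, eq_neg_of_add_eq_zero_right hc, ← neg_sub (σ h) h, neg_div_neg_eq])
  have h1 : Root.rt A p (s b) 1 ∈ X := by
    have := mul_mem (mul_mem hs (hmem 1 F₀.one_mem)) (inv_mem hs)
    rwa [Root.rt_conj hi hpp hbb hpb (hO.swap hpb), hsp] at this
  have h2 := mul_mem (mul_mem (mul_mem (hmem l hlF) h1) (inv_mem (hmem l hlF))) (inv_mem h1)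
  convert h2 using 1
  refine LinearEquiv.ext fun x => ?_
  rw [hO.rt_bilin hpp hbb hb'b' hpb hpb', Herm.tvU_apply, map_mul, hO.fix hlF, ← hh, ← mul_sub, hl, div_mul_cancel₀ _ hne]

/-- products of two reflections and the imaginary part of the moved product -/
theorem exists_im {p b : Fin n → F} {c d : Fin n → F} (hc : RV F₀ c) (hd : RV F₀ d) (hcc : A c c ≠ 0)
    (hcd : A c d = 0) (hbb : A b b = 0) (hcp : A c p = 0) (hdp : A d p = 0)
    (hthird : A c c + A d d = 0 → ∃ e, RV F₀ e ∧ A e e ≠ 0 ∧ A c e = 0 ∧ A d e = 0 ∧ A e p = 0)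
    (hΩ : σ (A c b) * A d b ≠ A c b * σ (A d b)) :
    ∃ s ∈ X, s p = p ∧ σ (A b (s b)) ≠ A b (s b) := by
  have main : ∀ f : Fin n → F, RV F₀ f → A f p = 0 → A f f ≠ 0 → A c f ≠ 0 → σ (A c b) * A f b ≠ A c b * σ (A f b) →
      ∃ s ∈ X, s p = p ∧ σ (A b (s b)) ≠ A b (s b) := by
    intro f hf hfp hff hcf hW
    obtain ⟨s, hs, hsx, -⟩ := hO.exists_refl2 hc hf hcc hff
    refine ⟨s, hs, by rw [hsx, hO.refl_fix hfp, hO.refl_fix hcp], fun him => hW ?_⟩
    rw [hsx] at him
    simp only [refl, map_sub, map_smul, smul_eq_mul, hbb] at him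
    simp only [map_sub, map_mul, map_div₀, map_zero, hO.fix hO.two_mem, hO.fix (hO.self_mem c), hO.fix (hO.self_mem f),
      hO.fix (hO.form _ _ hc hf), ← hO.symm' c b, ← hO.symm' f b, hO.invol] at him
    field_simp at him
    refine mul_left_cancel₀ (mul_ne_zero (mul_ne_zero (mul_ne_zero hO.two hO.two) hcf) one_ne_zero) ?_
    linear_combination -him
  -- the difference of the two values
  have hne : ∀ f : Fin n → F, σ (A c b) * A (d + f) b ≠ A c b * σ (A (d + f) b) ∨
      σ (A c b) * A (d - f) b ≠ A c b * σ (A (d - f) b) := fun f => by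
    by_contra! h
    obtain ⟨h1, h2⟩ := h
    simp only [map_add, map_sub, LinearMap.add_apply, LinearMap.sub_apply] at h1 h2
    exact hΩ (mul_left_cancel₀ hO.two (by linear_combination h1 + h2))
  have hdc : A d c = 0 := hO.swap hcd
  by_cases hQ : A c c + A d d = 0
  · -- use the third vector
    obtain ⟨e, he, hee, hce, hde, hep⟩ := hthird hQ
    have hec := hO.swap hce
    have hed := hO.swap hde
    have hcases : σ (A c b) * A (d + (c + e)) b ≠ A c b * σ (A (d + (c + e)) b) ∨
        σ (A c b) * A (d + (c - e)) b ≠ A c b * σ (A (d + (c - e)) b) := by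
      by_contra! h
      obtain ⟨h1, h2⟩ := h
      simp only [map_add, map_sub, LinearMap.add_apply, LinearMap.sub_apply] at h1 h2
      exact hΩ (mul_left_cancel₀ hO.two (by linear_combination h1 + h2))
    rcases hcases with h | h
    · refine main _ (hd.add (hc.add he)) (by simp [hcp, hdp, hep]) ?_ (by simp [hcd, hce, hcc]) h
      simp only [map_add, LinearMap.add_apply, hcd, hdc, hce, hde, hec, hed]
      intro h0; exact hee (by linear_combination h0 - hQ)
    · refine main _ (hd.add (hc.sub he)) (by simp [hcp, hdp, hep]) ?_ (by simp [hcd, hce, hcc]) h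
      simp only [map_add, map_sub, LinearMap.add_apply, LinearMap.sub_apply, hcd, hdc, hce, hde, hec, hed]
      intro h0; exact hee (by linear_combination h0 - hQ)
  · refine main (d + c) (hd.add hc) (by simp [hcp, hdp]) ?_ (by simp [hcd, hcc]) fun h => hΩ ?_
    · simp only [map_add, LinearMap.add_apply, hcd, hdc]
      intro h0; exact hQ (by linear_combination h0)
    · simp only [map_add, LinearMap.add_apply] at h
      linear_combination h

/-- a centre that is not a rational point -/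
theorem centre_move {p : Fin n → F} (hp : p ∈ Unitary.centres A X) {a₁ a₂ : Fin n → F} {α β : F}
    (ha₁ : RV F₀ a₁) (ha₂ : RV F₀ a₂) (h₁ : A a₁ a₁ ≠ 0) (h₂ : A a₂ a₂ ≠ 0) (h12 : A a₁ a₂ = 0)
    (hp' : p = α • a₁ + β • a₂) (hΩ : σ α * β ≠ α * σ β) :
    ∃ u, RV F₀ u ∧ A u u = 0 ∧ u ≠ 0 ∧ u ∈ Unitary.centres A X := by
  have hB := hO.herm
  have hcard := hO.card
  have hl : OL F₀ A [a₁, a₂] := ⟨ha₁, h₁, by simpa using h12, ha₂, h₂, by simp, trivial⟩
  obtain ⟨c₁, hc₁, hc₁l, hQ₁⟩ := hO.exists_value hl (by simp only [List.length_cons, List.length_nil]; omega)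
    (F₀.neg_mem (hO.self_mem a₁)) (neg_ne_zero.2 h₁)
  have hc₁1 : A a₁ c₁ = 0 := hc₁l a₁ (by simp)
  have hc₁2 : A a₂ c₁ = 0 := hc₁l a₂ (by simp)
  have hc₁c : A c₁ c₁ ≠ 0 := by rw [hQ₁]; exact neg_ne_zero.2 h₁
  obtain ⟨c₂, hc₂, hc₂l, hQ₂⟩ := hO.exists_value (l := c₁ :: [a₁, a₂])
    ⟨hc₁, hc₁c, by simp [hO.swap hc₁1, hO.swap hc₁2], hl⟩
    (by simp only [List.length_cons, List.length_nil]; omega)
    (F₀.neg_mem (hO.self_mem a₂)) (neg_ne_zero.2 h₂)
  have hc₂1 : A a₁ c₂ = 0 := hc₂l a₁ (by simp)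
  have hc₂2 : A a₂ c₂ = 0 := hc₂l a₂ (by simp)
  have hc₂c : A c₁ c₂ = 0 := hc₂l c₁ (by simp)
  set u := a₁ + c₁ with hud
  set v := a₂ + c₂ with hvd
  have hu : RV F₀ u := ha₁.add hc₁
  have hv : RV F₀ v := ha₂.add hc₂
  have hz := fun {x y : Fin n → F} (h : A x y = 0) => hO.swap h
  have huu : A u u = 0 := by simp [hud, hc₁1, hz hc₁1, hQ₁]
  have hvv : A v v = 0 := by simp [hvd, hc₂2, hz hc₂2, hQ₂]
  have huv : A u v = 0 := by simp [hud, hvd, h12, hc₂1, hz hc₁2, hc₂c]
  have hup : A u p = α * A a₁ a₁ := by simp [hud, hp', h12, hz hc₁1, hz hc₁2, mul_comm]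
  have hvp : A v p = β * A a₂ a₂ := by simp [hvd, hp', hz h12, hz hc₂1, hz hc₂2, mul_comm]
  have hu0 : u ≠ 0 := fun h => h₁ (by
    have := congrArg (A a₁) h
    rwa [hud, map_add, hc₁1, add_zero, map_zero] at this)
  -- the plane point
  set d := A v p • u - A u p • v with hdd
  have hT : Root.rt A u v 1 ∈ X := hO.rt_mem hu hv huu hvv huv F₀.one_mem
  have hTp : Root.rt A u v 1 p = p + d := by
    rw [Root.rt_apply huu hvv huv (hz huv), map_one, one_mul, one_mul, hdd]; abel
  have hcen2 : p + d ∈ Unitary.centres A X := by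
    rw [← hTp]; exact Unitary.map_mem_centres hB hp hT (hO.iso _ hT)
  set h := A (p + d) p with hh
  have hhv : h = A a₁ a₁ * A a₂ a₂ * (α * σ β - σ α * β) := by
    have e1 : A d p = σ (A v p) * A u p - σ (A u p) * A v p := by
      rw [hdd, map_sub, map_smulₛₗ, map_smulₛₗ, LinearMap.sub_apply, LinearMap.smul_apply, LinearMap.smul_apply]
      rfl
    rw [hh, map_add, LinearMap.add_apply, hp.1, zero_add, e1, hup, hvp, map_mul, map_mul, hO.fix (hO.self_mem a₁),
      hO.fix (hO.self_mem a₂)]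
    ring
  have hh0 : h ≠ 0 := by rw [hhv]; exact mul_ne_zero (mul_ne_zero h₁ h₂) (sub_ne_zero.2 (Ne.symm hΩ))
  have hhσ : σ h = -h := by
    rw [hhv, map_mul, map_mul, map_sub, map_mul, map_mul, hO.fix (hO.self_mem a₁), hO.fix (hO.self_mem a₂), hO.invol, hO.invol]
    ring
  have hd' : d ∈ Unitary.centres A X := by
    have h1 := Unitary.move_mem_centres hB hp hcen2 (c := -h⁻¹) (by rw [map_neg, map_inv₀, hhσ, inv_neg]; ring)
    rw [← hh, neg_mul, inv_mul_cancel₀ hh0] at h1
    have h2 := Unitary.smul_mem_centres hB h1 (-1)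
    rwa [show (-1 : F) • (p + (-1 : F) • (p + d)) = d by module] at h2
  -- move the second vector
  set v' := (2 * A a₂ a₂)⁻¹ • (a₂ - c₂) with hv'd
  have hv' : RV F₀ v' := (ha₂.sub hc₂).smul (F₀.inv_mem (F₀.mul_mem hO.two_mem (hO.self_mem a₂)))
  have hv'v' : A v' v' = 0 := by simp [hv'd, hc₂2, hz hc₂2, hQ₂]
  have huv' : A u v' = 0 := by simp [hv'd, hud, h12, hc₂1, hz hc₁2, hc₂c]
  have hv'v : A v' v = 1 := by
    have e : A (a₂ - c₂) v = 2 * A a₂ a₂ := by simp [hvd, hc₂2, hz hc₂2, hQ₂]; ring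
    rw [hv'd, map_smulₛₗ, LinearMap.smul_apply, e, map_inv₀, map_mul, hO.fix hO.two_mem, hO.fix (hO.self_mem a₂), smul_eq_mul,
      inv_mul_cancel₀ (mul_ne_zero hO.two h₂)]
  set ee := A u p • u with hee'
  have hsl : ∀ k ∈ F₀, d - k • ee ∈ Unitary.centres A X := fun k hk => by
    have hS := hO.rt_mem hu hv' huu hv'v' huv' hk
    have h1 := Unitary.map_mem_centres hB hd' hS (hO.iso _ hS)
    have e : Root.rt A u v' k d = d - k • ee := by
      rw [Root.rt_apply huu hv'v' huv' (hz huv'), hdd, hee']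
      simp [hz huv', hv'v, huu, huv, smul_smul, sub_eq_add_neg]
    rwa [e] at h1
  have hee0 : A u p ≠ 0 := by
    rw [hup]; exact mul_ne_zero (fun h => hΩ (by rw [h]; simp)) h₁
  have heeee : A ee ee = 0 := by simp [hee', huu]
  have hde : A d ee = 0 := by simp [hdd, hee', huu, hz huv]
  have hed : A ee d = 0 := hz hde
  have hee : ee ∈ Unitary.centres A X := by
    refine ⟨heeee, fun hv'' c hc => ?_⟩
    have hc2 : c / 2 + σ (c / 2) = 0 := by
      rw [map_div₀, hO.fix hO.two_mem, ← add_div, hc, zero_div]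
    have h1 := (hsl 1 F₀.one_mem).2 (hsl 1 F₀.one_mem).1 (c / 2) hc2
    have h2 := (hsl (-1) (F₀.neg_mem F₀.one_mem)).2 (hsl (-1) (F₀.neg_mem F₀.one_mem)).1 (c / 2) hc2
    have h3 := hd'.2 hd'.1 (-c) (by rw [map_neg]; linear_combination -hc)
    convert mul_mem (mul_mem h1 h2) h3 using 1
    refine LinearEquiv.ext fun x => ?_
    simp only [LinearEquiv.mul_apply, Herm.tvU_apply, map_add, map_sub, map_smul, map_smulₛₗ, LinearMap.sub_apply,
      LinearMap.smul_apply, RingHom.id_apply, smul_eq_mul, map_one, map_neg, hd'.1, heeee, hde, hed]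
    match_scalars <;> field_simp [hO.two] <;> ring
  refine ⟨u, hu, huu, hu0, ?_⟩
  have := Unitary.smul_mem_centres hB hee (A u p)⁻¹
  rwa [hee', smul_smul, inv_mul_cancel₀ hee0, one_smul] at this

/-- a rational point is a centre -/
theorem exists_rat_centre (hout : ∃ g ∈ X, ¬ Ratty F₀ g) :
    ∃ u, RV F₀ u ∧ A u u = 0 ∧ u ≠ 0 ∧ u ∈ Unitary.centres A X := by
  have hB := hO.herm
  have hcard := hO.card
  obtain ⟨g, hg, e₁, e₂, he₁, he₂, he11, he22, he12, hn12, hγ⟩ := hO.exists_pair hout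
  set p := g e₁ with hp
  set b₀ := g e₂ with hb₀
  have hgi := hO.iso g hg
  have hpp : A p p = 0 := by rw [hp, hgi, he11]
  have hbb₀ : A b₀ b₀ = 0 := by rw [hb₀, hgi, he22]
  have hpb₀ : A p b₀ = 0 := by rw [hp, hb₀, hgi, he12]
  have hmem₀ : ∀ l ∈ F₀, Root.rt A p b₀ l ∈ X := fun l hl => by
    rw [hp, hb₀, ← Root.rt_conj hgi he11 he22 he12 (hO.swap he12)]
    exact mul_mem (mul_mem hg (hO.rt_mem he₁ he₂ he11 he22 he12 hl)) (inv_mem hg)
  -- an orthogonal rational basis of the plane of the point and its conjugate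
  obtain ⟨a₁, a₂, α, β, ha₁, ha₂, h₁, h₂, h12, hpab⟩ : ∃ (a₁ a₂ : Fin n → F) (α β : F), RV F₀ a₁ ∧ RV F₀ a₂ ∧
      A a₁ a₁ ≠ 0 ∧ A a₂ a₂ ≠ 0 ∧ A a₁ a₂ = 0 ∧ p = α • a₁ + β • a₂ := by
    obtain ⟨ζ, hζ0, hζ⟩ := Herm.exists_skew hB.toIsInvol
    set x := (2 : F)⁻¹ • (p + cj σ p) with hx
    set y := ((2 : F) * ζ)⁻¹ • (p - cj σ p) with hy
    have hxR : RV F₀ x := hO.rv_iff.2 (funext fun i => by
      simp [cj, hx, hO.fix hO.two_mem, hO.invol, add_comm])
    have hyR : RV F₀ y := hO.rv_iff.2 (funext fun i => by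
      simp [cj, hy, hO.fix hO.two_mem, hO.invol, hζ]; ring)
    have hpxy : p = x + ζ • y := funext fun i => by
      simp [hx, hy, cj]; field_simp [hO.two]; ring
    have hyx := hO.comm hyR hxR
    have e0 : A x x - ζ ^ 2 * A y y = 0 := by
      have h := hpp
      rw [hpxy] at h
      simp only [map_add, map_smul, map_smulₛₗ, LinearMap.add_apply, LinearMap.smul_apply, smul_eq_mul, hζ, hyx] at h
      linear_combination h
    have e1 : A x x + ζ ^ 2 * A y y + 2 * ζ * A x y ≠ 0 := by
      have h := hγ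
      rw [show cj σ p = x - ζ • y by
        rw [hpxy]; funext i; simp [cj, hO.fix (hxR i), hO.fix (hyR i), hζ]; ring, hpxy] at h
      simp only [map_add, map_sub, map_smul, map_smulₛₗ, LinearMap.add_apply, LinearMap.sub_apply, LinearMap.smul_apply,
        smul_eq_mul, hζ, hyx] at h
      intro h'; exact h (by linear_combination h')
    by_cases hy0 : A y y = 0
    · have hx0 : A x x = 0 := by rw [hy0] at e0; linear_combination e0
      rw [hx0, hy0] at e1
      have hxy : A x y ≠ 0 := fun h => e1 (by rw [h]; ring)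
      refine ⟨x + y, x - y, (1 + ζ) / 2, (1 - ζ) / 2, hxR.add hyR, hxR.sub hyR, ?_, ?_, ?_, ?_⟩
      · simp only [map_add, LinearMap.add_apply, hx0, hy0, hyx]
        intro h; exact hxy ((mul_eq_zero.1 (show 2 * A x y = 0 by linear_combination h)).resolve_left hO.two)
      · simp only [map_sub, LinearMap.sub_apply, hx0, hy0, hyx]
        intro h; exact hxy ((mul_eq_zero.1 (show 2 * A x y = 0 by linear_combination -h)).resolve_left hO.two)
      · simp [hx0, hy0, hyx]
      · rw [hpxy]; match_scalars <;> field_simp [hO.two] <;> ring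
    · set t := A x y / A y y with ht
      have htF : t ∈ F₀ := F₀.div_mem (hO.form _ _ hxR hyR) (hO.self_mem y)
      refine ⟨x - t • y, y, 1, ζ + t, hxR.sub (hyR.smul htF), hyR, ?_, hy0, ?_, ?_⟩
      · simp only [map_sub, map_smul, map_smulₛₗ, LinearMap.sub_apply, LinearMap.smul_apply, smul_eq_mul, hO.fix htF, hyx]
        intro h
        have hsq : (A x y) ^ 2 = A x x * A y y := by
          rw [ht] at h; field_simp at h; linear_combination -h
        -- the two products cannot agree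
        set r := A x y / A y y with hr
        have hrF : σ r = r := hO.fix htF
        have hr2 : r ^ 2 = ζ ^ 2 := by
          rw [hr, div_pow, hsq, show A x x = ζ ^ 2 * A y y by linear_combination e0]; field_simp
        rcases eq_or_eq_neg_of_sq_eq_sq r ζ hr2 with h' | h' <;> rw [h'] at hrF <;>
          simp only [map_neg, hζ, neg_neg] at hrF
        · exact hζ0 ((mul_eq_zero.1 (show 2 * ζ = 0 by linear_combination -hrF)).resolve_left hO.two)
        · exact hζ0 ((mul_eq_zero.1 (show 2 * ζ = 0 by linear_combination hrF)).resolve_left hO.two)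
      · simp only [map_sub, map_smulₛₗ, LinearMap.sub_apply, LinearMap.smul_apply, smul_eq_mul, hO.fix htF]
        rw [ht]; field_simp; ring
      · rw [hpxy]; module
  have hΩ : σ α * β ≠ α * σ β := fun h => hγ (by
    rw [hpab, show cj σ (α • a₁ + β • a₂) = σ α • a₁ + σ β • a₂ from funext fun i => by
      simp [cj, hO.fix (ha₁ i), hO.fix (ha₂ i)]]
    have e := hpp
    rw [hpab] at e
    simp only [map_add, map_smul, map_smulₛₗ, LinearMap.add_apply, LinearMap.smul_apply, smul_eq_mul, h12, hO.swap h12,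
      hO.invol] at e ⊢
    rcases eq_or_ne α 0 with hα | hα
    · rw [hα, map_zero] at e
      have hβ : β = 0 := by simpa [h₂] using e
      simp [hα, hβ]
    · refine (mul_eq_zero.1 (?_ : σ α * _ = 0)).resolve_left ((map_ne_zero σ).2 hα)
      linear_combination (α * e) + (β * A a₂ a₂) * h)
  have hl : OL F₀ A [a₁, a₂] := ⟨ha₁, h₁, by simpa using h12, ha₂, h₂, by simp, trivial⟩
  -- the half turn fixing the plane
  set γ := A (cj σ p) p with hγd
  set ν := A (cj σ p) b₀ / γ with hν
  by_cases hνr : σ ν ≠ ν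
  · obtain ⟨s₀, hs₀, hsx₀, hs₀i⟩ := hO.exists_refl2 ha₁ ha₂ h₁ h₂
    obtain ⟨r, hri, hrd, hrrat, hr1, hr2, hrb⟩ := hO.exists_turn (b := b₀) ha₁ ha₂
    obtain ⟨s, hs, hsx⟩ : ∃ s ∈ X, ∀ x, s x = -(s₀ (r x)) := by
      refine ⟨r.trans (s₀.trans (LinearEquiv.neg F)), hO.rat _ (fun a b => by simp [hs₀i, hri]) ?_ (fun z hz => ?_),
        fun x => rfl⟩
      · have hd₀ : LinearMap.det s₀.toLinearMap = 1 := by
          obtain ⟨r₁, -, h1d, h1⟩ := Unitary.exists_preflection hB h₁ (show (-1 : F) * σ (-1) = 1 by simp)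
          obtain ⟨r₂, -, h2d, h2⟩ := Unitary.exists_preflection hB h₂ (show (-1 : F) * σ (-1) = 1 by simp)
          have : s₀ = r₁ * r₂ := LinearEquiv.ext fun x => by
            rw [hsx₀, LinearEquiv.mul_apply, h1, h2, refl, refl]
            simp only [map_add, map_sub, map_smul, smul_eq_mul]
            match_scalars <;> ring
          rw [this, show (r₁ * r₂).toLinearMap = r₁.toLinearMap ∘ₗ r₂.toLinearMap from rfl, LinearMap.det_comp, h1d, h2d]
          ring
        rw [show (r.trans (s₀.trans (LinearEquiv.neg F))).toLinearMap =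
            (-1 : F) • (s₀.toLinearMap ∘ₗ r.toLinearMap) from LinearMap.ext fun x => by simp,
          LinearMap.det_smul, LinearMap.det_comp, hd₀, hrd, Module.finrank_fin_fun, one_mul, ← mul_pow, neg_one_mul,
          neg_neg, one_pow]
      · show RV F₀ (-(s₀ (r z)))
        replace hz := hrrat z hz
        generalize r z = z at hz ⊢
        intro i
        refine F₀.neg_mem ?_
        rw [hsx₀, refl, refl]
        exact ((hz.sub (ha₂.smul (F₀.div_mem (F₀.mul_mem hO.two_mem (hO.form _ _ ha₂ hz)) (hO.self_mem a₂)))).sub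
          (ha₁.smul (F₀.div_mem (F₀.mul_mem hO.two_mem (hO.form _ _ ha₁
            (hz.sub (ha₂.smul (F₀.div_mem (F₀.mul_mem hO.two_mem (hO.form _ _ ha₂ hz)) (hO.self_mem a₂)))))) (hO.self_mem a₁)))) i
    have h1p : A a₁ p = α * A a₁ a₁ := by simp [hpab, h12]
    have h2p : A a₂ p = β * A a₂ a₂ := by simp [hpab, hO.swap h12]
    have hsp : s p = p := by
      rw [hsx, show r p = p by rw [hpab, map_add, map_smul, map_smul, hr1, hr2], hsx₀, refl, refl]
      simp only [map_sub, map_smul, smul_eq_mul, h1p, h2p, h12, mul_zero, sub_zero]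
      rw [hpab]; match_scalars <;> field_simp <;> ring
    have hγ0 : γ ≠ 0 := hγ
    have hsb : s b₀ = -b₀ + (2 * ν) • p := by
      -- the projection to the plane is a multiple of the point
      have e1 : σ α * A a₁ b₀ + σ β * A a₂ b₀ = 0 := by
        have := hpb₀
        rw [hpab] at this
        simpa using this
      have e2 : A (cj σ p) b₀ = α * A a₁ b₀ + β * A a₂ b₀ := by
        rw [hO.cj_left, hpab, map_add, LinearMap.add_apply, map_smulₛₗ, map_smulₛₗ, LinearMap.smul_apply, LinearMap.smul_apply,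
          hO.cj_right ha₁, hO.cj_right ha₂, smul_eq_mul, smul_eq_mul, map_add, map_mul, map_mul, hO.invol, hO.invol, hO.invol,
          hO.invol]
      have e3 : γ = α * α * A a₁ a₁ + β * β * A a₂ a₂ := by
        rw [hγd, hO.cj_left, hO.symm', hpab, show cj σ (α • a₁ + β • a₂) = σ α • a₁ + σ β • a₂ from funext fun i => by
          simp [cj, hO.fix (ha₁ i), hO.fix (ha₂ i)]]
        simp [h12, hO.swap h12, hO.invol]; ring
      have e4 : σ α * α * A a₁ a₁ + σ β * β * A a₂ a₂ = 0 := by
        have := hpp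
        rw [hpab] at this
        simpa [h12, hO.swap h12, mul_assoc] using this
      have hα : σ α ≠ 0 := fun h => hΩ (by rw [h, (map_eq_zero σ).1 h]; simp)
      have hD : β * A a₂ a₂ * A a₁ b₀ - α * A a₁ a₁ * A a₂ b₀ = 0 :=
        (mul_eq_zero.1 (show σ α * _ = 0 by linear_combination β * A a₂ a₂ * e1 - A a₂ b₀ * e4)).resolve_left hα
      rw [hsx, hrb, hsx₀, refl, refl]
      simp only [map_sub, map_smul, smul_eq_mul, h12, mul_zero, sub_zero]
      have hνγ : ν * γ = α * A a₁ b₀ + β * A a₂ b₀ := by rw [hν, div_mul_cancel₀ _ hγ0, e2]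
      have k1 : A a₁ b₀ = ν * α * A a₁ a₁ := mul_right_cancel₀ hγ0 (by
        linear_combination A a₁ b₀ * e3 - (α * A a₁ a₁) * hνγ + β * hD)
      have k2 : A a₂ b₀ = ν * β * A a₂ a₂ := mul_right_cancel₀ hγ0 (by
        linear_combination A a₂ b₀ * e3 - (β * A a₂ a₂) * hνγ - α * hD)
      rw [k1, k2, hpab]
      match_scalars <;> field_simp <;> ring
    have hpcen : p ∈ Unitary.centres A X := by
      refine ⟨hpp, fun hv c hc => ?_⟩
      have hne : σ ν - ν ≠ 0 := sub_ne_zero.2 hνr
      set l := c / (2 * (σ ν - ν)) with hl'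
      have hlF : l ∈ F₀ := (hO.fixed _).2 (by
        rw [hl', map_div₀, map_mul, map_sub, hO.invol, hO.fix hO.two_mem, eq_neg_of_add_eq_zero_right hc, ← neg_sub (σ ν) ν,
          mul_neg, neg_div_neg_eq])
      have hbp := hO.swap hpb₀
      have hs2 : Root.rt A p (s b₀) l ∈ X := by
        have := mul_mem (mul_mem hs (hmem₀ l hlF)) (inv_mem hs)
        rwa [Root.rt_conj (hO.iso s hs) hpp hbb₀ hpb₀ hbp, hsp] at this
      have hsbb : A (s b₀) (s b₀) = 0 := by rw [hO.iso s hs, hbb₀]
      have hpsb : A p (s b₀) = 0 := by rw [← hsp, hO.iso s hs, hpb₀]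
      have h2' : l * (2 * (σ ν - ν)) = c := by rw [hl', div_mul_cancel₀ _ (mul_ne_zero hO.two hne)]
      convert mul_mem (hmem₀ l hlF) hs2 using 1
      refine LinearEquiv.ext fun x => ?_
      rw [LinearEquiv.mul_apply, Root.rt_apply hpp hsbb hpsb (hO.swap hpsb), Root.rt_apply hpp hbb₀ hpb₀ hbp, Herm.tvU_apply,
        ← h2', hsb]
      simp only [map_add, map_sub, map_neg, map_smul, map_smulₛₗ, LinearMap.add_apply, LinearMap.neg_apply, LinearMap.smul_apply,
        smul_eq_mul, hbb₀, hbp, hpb₀, hpp, map_mul, hO.fix hO.two_mem, hO.fix hlF]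
      module
    exact hO.centre_move hpcen ha₁ ha₂ h₁ h₂ h12 hpab hΩ
  push Not at hνr
  have hνF : ν ∈ F₀ := (hO.fixed _).2 hνr
  set b := b₀ - ν • p with hb
  have hbp₀ := hO.swap hpb₀
  have hbb : A b b = 0 := by simp [hb, hbb₀, hpb₀, hbp₀, hpp]
  have hpb : A p b = 0 := by simp [hb, hpb₀, hpp]
  have hmem : ∀ l ∈ F₀, Root.rt A p b l ∈ X := fun l hl' => by
    have : Root.rt A p b l = Root.rt A p b₀ l := LinearEquiv.ext fun x => by
      rw [Root.rt_apply hpp hbb hpb (hO.swap hpb), Root.rt_apply hpp hbb₀ hpb₀ hbp₀, hb, hO.fix hl']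
      simp only [map_sub, map_smulₛₗ, LinearMap.sub_apply, LinearMap.smul_apply, smul_eq_mul, hνr]
      module
    rw [this]; exact hmem₀ l hl'
  obtain ⟨hb1, hb2⟩ : A a₁ b = 0 ∧ A a₂ b = 0 := by
    have e1 : σ α * A a₁ b + σ β * A a₂ b = 0 := by
      have := hpb
      rw [hpab] at this
      simpa using this
    have e2 : α * A a₁ b + β * A a₂ b = 0 := by
      have : A (cj σ p) b = 0 := by
        rw [hb, map_sub, map_smul, smul_eq_mul, hν, ← hγd, div_mul_cancel₀ _ hγ, sub_self]
      rw [hpab, show cj σ (α • a₁ + β • a₂) = σ α • a₁ + σ β • a₂ from funext fun i => by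
        simp [cj, hO.fix (ha₁ i), hO.fix (ha₂ i)]] at this
      simpa [hO.invol] using this
    have hne : σ α * β - α * σ β ≠ 0 := sub_ne_zero.2 hΩ
    exact ⟨(mul_eq_zero.1 (show (σ α * β - α * σ β) * A a₁ b = 0 by linear_combination β * e1 - σ β * e2)).resolve_left hne,
      (mul_eq_zero.1 (show (σ α * β - α * σ β) * A a₂ b = 0 by linear_combination σ α * e2 - α * e1)).resolve_left hne⟩
  have hbl : ∀ x ∈ [a₁, a₂], A x b = 0 := by simp [hb1, hb2]
  have hb0 : b ≠ 0 := fun h => hn12 (Submodule.mem_span_singleton.2 ⟨ν, g.injective (by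
    rw [map_smul, ← hp, ← hb₀]; exact (sub_eq_zero.1 h).symm)⟩)
  by_cases hrat : ∃ μ : F, μ ≠ 0 ∧ RV F₀ (μ • b)
  · obtain ⟨μ, hμ, hr⟩ := hrat
    set r := μ • b with hrd
    have hr0 : r ≠ 0 := smul_ne_zero hμ hb0
    have hrr : A r r = 0 := by simp [hrd, hbb]
    have hrl : ∀ x ∈ [a₁, a₂], A x r = 0 := fun x hx => by rw [hrd, map_smul, hbl x hx, smul_zero]
    obtain ⟨r', hr', hr'r', hrr', hr'l⟩ := hO.exists_partner hr hrr hr0 hl hrl
    obtain ⟨ee, hee, heel, hee0⟩ := hO.exists_aniso (hO.ol_pair hr hr' hrr hr'r' hrr' hl hrl hr'l)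
      (by simp only [List.length_cons, List.length_nil]; omega)
    obtain ⟨her, -, heel'⟩ := hO.ol_perp heel
    have heb : A ee b = 0 := by
      have := hO.swap her
      rw [hrd, map_smul, smul_eq_zero] at this
      exact this.resolve_left hμ
    have h1p : A a₁ p = α * A a₁ a₁ := by simp [hpab, h12]
    have h2p : A a₂ p = β * A a₂ a₂ := by simp [hpab, hO.swap h12]
    obtain ⟨s, hs, hsb, him⟩ := hO.exists_im (p := b) (b := p) ha₁ ha₂ h₁ h12 hpp hb1 hb2
      (fun _ => ⟨ee, hee, hee0, heel' _ (by simp), heel' _ (by simp), heb⟩) (by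
        rw [h1p, h2p, map_mul, map_mul, hO.fix (hO.self_mem a₁), hO.fix (hO.self_mem a₂)]
        intro h
        exact hΩ (mul_left_cancel₀ (mul_ne_zero h₁ h₂) (by linear_combination h)))
    have hcb : b ∈ Unitary.centres A X := hO.centre_of_shared hbb hpp (hO.swap hpb) (fun l hl' => by
      rw [Root.rt_comm hO.invol hbb hpp (hO.swap hpb) hpb, hO.fix hl']
      exact hmem _ (F₀.neg_mem hl')) hs hsb him
    exact ⟨r, hr, hrr, hr0, Unitary.smul_mem_centres hB hcb μ⟩
  -- an anisotropic vector of the complement not orthogonal to the second point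
  obtain ⟨c, hc, hcl, hcc, hcb⟩ : ∃ c, RV F₀ c ∧ (∀ x ∈ [a₁, a₂], A x c = 0) ∧ A c c ≠ 0 ∧ A c b ≠ 0 := by
    obtain ⟨a₀, ha₀, ha₀l, ha₀0⟩ := hO.exists_aniso hl (by simp only [List.length_cons, List.length_nil]; omega)
    by_cases hab : A a₀ b = 0
    swap
    · exact ⟨a₀, ha₀, ha₀l, ha₀0, hab⟩
    obtain ⟨z, hz, hzb⟩ : ∃ z, RV F₀ z ∧ A z b ≠ 0 := by
      by_contra! h
      exact hb0 (hO.eq_of_rat fun z hz => by rw [map_zero, h z hz])
    obtain ⟨hz1, -, hz3⟩ := hO.prs_spec hl z
    set z₁ := prs A [a₁, a₂] z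
    have hz₁b : A z₁ b ≠ 0 := fun h => hzb (hO.swap (by rw [← hO.perp_prs hl z hbl]; exact hO.swap h))
    by_cases hQ : A z₁ z₁ = 0
    swap
    · exact ⟨z₁, hz3 hz, hz1, hQ, hz₁b⟩
    by_cases hP : A (z₁ + a₀) (z₁ + a₀) = 0
    · refine ⟨z₁ - a₀, (hz3 hz).sub ha₀, fun x hx => by rw [map_sub, hz1 x hx, ha₀l x hx, sub_zero], fun hM => ha₀0 ?_,
        by simpa [hab] using hz₁b⟩
      simp only [map_add, LinearMap.add_apply] at hP
      simp only [map_sub, LinearMap.sub_apply] at hM
      exact (mul_eq_zero.1 (show 2 * A a₀ a₀ = 0 by linear_combination hP + hM - 2 * hQ)).resolve_left hO.two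
    · exact ⟨z₁ + a₀, (hz3 hz).add ha₀, fun x hx => by rw [map_add, hz1 x hx, ha₀l x hx, add_zero], hP,
        by simpa [hab] using hz₁b⟩
  obtain ⟨d, hd, hdl, hcd, hW⟩ : ∃ d, RV F₀ d ∧ (∀ x ∈ [a₁, a₂], A x d = 0) ∧ A c d = 0 ∧
      σ (A c b) * A d b ≠ A c b * σ (A d b) := by
    by_contra! hall
    refine hrat ⟨(A c b)⁻¹, inv_ne_zero hcb, hO.rv_of_real fun z hz => ?_⟩
    obtain ⟨hz1, -, hz3⟩ := hO.prs_spec hl z
    set z₁ := prs A [a₁, a₂] z
    have hzb : A z₁ b = A z b := by rw [← hO.symm' b z₁, hO.perp_prs hl z hbl, hO.symm']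
    set k := A c z₁ / A c c with hk
    have hkF : k ∈ F₀ := F₀.div_mem (hO.form _ _ hc (hz3 hz)) (hO.self_mem c)
    have h1 := hall (z₁ - k • c) ((hz3 hz).sub (hc.smul hkF)) (fun x hx => by simp [hz1 x hx, hcl x hx])
      (by rw [map_sub, map_smul, smul_eq_mul, hk, div_mul_cancel₀ _ hcc, sub_self])
    simp only [map_sub, map_smulₛₗ, LinearMap.sub_apply, LinearMap.smul_apply, smul_eq_mul, hO.fix hkF, map_mul, hzb] at h1
    rw [map_smul, smul_eq_mul, map_mul, map_inv₀, inv_mul_eq_div, inv_mul_eq_div,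
      div_eq_div_iff ((map_ne_zero σ).2 hcb) hcb]
    linear_combination -h1
  have hcp : A c p = 0 := by
    rw [hpab, map_add, map_smul, map_smul, hO.swap (hcl a₁ (by simp)), hO.swap (hcl a₂ (by simp)), smul_zero, smul_zero, add_zero]
  have hdp : A d p = 0 := by
    rw [hpab, map_add, map_smul, map_smul, hO.swap (hdl a₁ (by simp)), hO.swap (hdl a₂ (by simp)), smul_zero, smul_zero, add_zero]
  obtain ⟨s, hs, hsp, him⟩ := hO.exists_im (p := p) (b := b) hc hd hcc hcd hbb hcp hdp (fun hQ => by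
    have hdd : A d d ≠ 0 := fun h => hcc (by rw [h, add_zero] at hQ; exact hQ)
    have hl4 : OL F₀ A [c, d, a₁, a₂] := ⟨hc, hcc, by simp [hcd, hO.swap (hcl a₁ (by simp)), hO.swap (hcl a₂ (by simp))],
      hd, hdd, fun x hx => hO.swap (hdl x hx), hl⟩
    obtain ⟨ee, hee, heel, hee0⟩ := hO.exists_aniso hl4 (by simp only [List.length_cons, List.length_nil]; omega)
    exact ⟨ee, hee, hee0, heel c (by simp), heel d (by simp), by
      rw [hpab, map_add, map_smul, map_smul, hO.swap (heel a₁ (by simp)), hO.swap (heel a₂ (by simp)), smul_zero, smul_zero,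
        add_zero]⟩) hW
  exact hO.centre_move (hO.centre_of_shared hpp hbb hpb hmem hs hsp him) ha₁ ha₂ h₁ h₂ h12 hpab hΩ

theorem rat_centres (hout : ∃ g ∈ X, ¬ Ratty F₀ g) {v : Fin n → F} (hv : RV F₀ v) (hvv : A v v = 0) :
    v ∈ Unitary.centres A X := by
  have hB := hO.herm
  have hcard := hO.card
  obtain ⟨u, hu, huu, hu0, huc⟩ := hO.exists_rat_centre hout
  have nonorth : ∀ e f : Fin n → F, RV F₀ e → RV F₀ f → A e e = 0 → A f f = 0 → A e f ≠ 0 → e ∈ Unitary.centres A X →
      f ∈ Unitary.centres A X := by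
    intro e f he hf hee hff hef hec
    set f' := (A e f)⁻¹ • f with hf'd
    have hf' : RV F₀ f' := hf.smul (F₀.inv_mem (hO.form _ _ he hf))
    have hf'f' : A f' f' = 0 := by simp [hf'd, hff]
    have hef' : A e f' = 1 := by rw [hf'd, map_smul, smul_eq_mul, inv_mul_cancel₀ hef]
    have hl := hO.ol_pair he hf' hee hf'f' hef' (l := []) trivial (by simp) (by simp)
    obtain ⟨z, hz, hzl, hzz⟩ := hO.exists_aniso hl (by simp only [List.length_cons, List.length_nil]; omega)
    obtain ⟨hez, hfz, -⟩ := hO.ol_perp hzl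
    obtain ⟨s, hs, hsx, -⟩ := hO.exists_refl2 (he.sub hf') hz hl.2.2.2.2.1 hzz
    have hse : s e = f' := by
      rw [hsx, hO.refl_fix (hO.swap hez), refl]
      have h1 : A (e - f') e = -1 := by simp [hee, ← hO.comm he hf', hef']
      have h2 : A (e - f') (e - f') = -2 := by simp [hee, hf'f', hef', ← hO.comm he hf']; ring
      rw [h1, h2]
      match_scalars <;> field_simp [hO.two] <;> ring
    have h3 := Unitary.map_mem_centres hB hec hs (hO.iso s hs)
    rw [hse] at h3
    have h4 := Unitary.smul_mem_centres hB h3 (A e f)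
    rwa [hf'd, smul_smul, mul_inv_cancel₀ hef, one_smul] at h4
  rcases eq_or_ne v 0 with rfl | hv0
  · simpa using Unitary.smul_mem_centres hB huc 0
  obtain ⟨u', hu', hu'u', huu', -⟩ := hO.exists_partner hu huu hu0 (l := []) trivial (by simp)
  obtain ⟨v', hv', hv'v', hvv', -⟩ := hO.exists_partner hv hvv hv0 (l := []) trivial (by simp)
  by_cases h1 : A u v = 0
  swap
  · exact nonorth u v hu hv huu hvv h1 huc
  have hv'v1 : A v' v = 1 := by rw [← hO.comm hv hv', hvv']
  have hu'u : A u' u = 1 := by rw [← hO.comm hu hu', huu']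
  by_cases h2 : A u' v = 0
  swap
  · exact nonorth u' v hu' hv hu'u' hvv h2 (nonorth u u' hu hu' huu hu'u' (by rw [huu']; exact one_ne_zero) huc)
  by_cases h3 : A u v' = 0
  swap
  · exact nonorth v' v hv' hv hv'v' hvv (by rw [hv'v1]; exact one_ne_zero) (nonorth u v' hu hv' huu hv'v' h3 huc)
  set t := -A u' v' with ht
  have htF : t ∈ F₀ := F₀.neg_mem (hO.form _ _ hu' hv')
  set h := u' + v' + t • u with hh
  have hhR : RV F₀ h := (hu'.add hv').add (hu.smul htF)
  have hhh : A h h = 0 := by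
    simp only [hh, map_add, map_smul, map_smulₛₗ, LinearMap.add_apply, LinearMap.smul_apply, smul_eq_mul, hO.fix htF, huu,
      hu'u', hv'v', huu', hu'u, h3, hO.swap h3, ← hO.comm hu' hv']
    rw [ht]; ring
  refine nonorth h v hhR hv hhh hvv ?_ (nonorth u h hu hhR huu hhh (by simp [hh, huu', h3, huu]) huc)
  simp [hh, h2, hv'v1, h1]

theorem rt_all (hout : ∃ g ∈ X, ¬ Ratty F₀ g) {e f : Fin n → F} (he : RV F₀ e) (hf : RV F₀ f) (hee : A e e = 0)
    (hff : A f f = 0) (hef : A e f = 0) (l : F) : Root.rt A e f l ∈ X := by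
  have hfe := hO.swap hef
  have himag : ∀ c, c + σ c = 0 → Root.rt A e f c ∈ X := fun c hc => by
    have hsum : A (e + f) (e + f) = 0 := by simp [hee, hff, hef, hfe]
    have hc' : -c + σ (-c) = 0 := by rw [map_neg]; linear_combination -hc
    have h1 := (hO.rat_centres hout (he.add hf) hsum).2 hsum c hc
    have h2 := (hO.rat_centres hout he hee).2 hee (-c) hc'
    have h3 := (hO.rat_centres hout hf hff).2 hff (-c) hc'
    convert mul_mem (mul_mem h1 h2) h3 using 1
    refine LinearEquiv.ext fun x => ?_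
    simp only [LinearEquiv.mul_apply, Herm.tvU_apply, Root.rt_apply hee hff hef hfe, map_add, map_smul, LinearMap.add_apply,
      smul_eq_mul, hee, hff, hef, hfe, eq_neg_of_add_eq_zero_right hc]
    module
  have hre : (l + σ l) / 2 ∈ F₀ := (hO.fixed _).2 (by rw [map_div₀, map_add, hO.invol, hO.fix hO.two_mem, add_comm])
  have him : (l - σ l) / 2 + σ ((l - σ l) / 2) = 0 := by
    rw [map_div₀, map_sub, hO.invol, hO.fix hO.two_mem]; ring
  have e' : l = (l + σ l) / 2 + (l - σ l) / 2 := by field_simp [hO.two]; ring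
  rw [e', Root.rt_add_scalar hee hff hef hfe]
  exact mul_mem (hO.rt_mem he hf hee hff hef hre) (himag _ him)

/-- every isotropic vector is a centre -/
theorem all_centres (hout : ∃ g ∈ X, ¬ Ratty F₀ g) {v : Fin n → F} (hvv : A v v = 0) : v ∈ Unitary.centres A X := by
  have hB := hO.herm
  have hcard := hO.card
  by_cases hv0 : v = 0
  · obtain ⟨u, -, -, -, huc⟩ := hO.exists_rat_centre hout
    simpa [hv0] using Unitary.smul_mem_centres hB huc 0
  obtain ⟨e, he, hee, hev⟩ : ∃ e, RV F₀ e ∧ A e e = 0 ∧ A e v ≠ 0 := by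
    by_contra! hno
    refine hv0 (hO.eq_of_rat fun z hz => ?_)
    rw [map_zero]
    have h1 := hO.mem_span_sing (l := []) trivial (by simp only [List.length_nil]; omega) hz (by simp)
    refine hO.swap ((Submodule.span_le.2 (fun y hy => ?_) : _ ≤ LinearMap.ker (A v)) h1)
    exact LinearMap.mem_ker.2 (hO.swap (hno y hy.1 hy.2.1))
  have he0 : e ≠ 0 := fun h => hev (by simp [h])
  obtain ⟨f, hf, hff, hef, -⟩ := hO.exists_partner he hee he0 (l := []) trivial (by simp)
  have hfe : A f e = 1 := by rw [← hO.comm he hf, hef]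
  have hl := hO.ol_pair he hf hee hff hef (l := []) trivial (by simp) (by simp)
  let Q : (Fin n → F) → Prop := fun z => A e z = 0 ∧
    ∀ (a : F) (y : Fin n → F), A e y ≠ 0 → ∃ g ∈ X, ∃ α : F, g y = y + a • z + α • e
  have hQ : ∀ z ∈ Submodule.span F {z : Fin n → F | RV F₀ z ∧ A z z = 0 ∧ ∀ b ∈ (e + f) :: (e - f) :: [], A b z = 0}, Q z := by
    intro z hz
    induction hz using Submodule.span_induction with
    | mem s hs =>
      obtain ⟨hs, hss, hsl⟩ := hs
      obtain ⟨hes, -, -⟩ := hO.ol_perp hsl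
      refine ⟨hes, fun a y hy => ⟨Root.rt A s e (a / A e y), hO.rt_all hout hs he hss hee (hO.swap hes) _,
        -(σ (a / A e y) * A s y), ?_⟩⟩
      rw [Root.rt_apply hss hee (hO.swap hes) hes, div_mul_cancel₀ _ hy, neg_smul, sub_eq_add_neg]
    | zero => exact ⟨map_zero _, fun a y _ => ⟨1, one_mem X, 0, by simp⟩⟩
    | add z₁ z₂ _ _ h1 h2 =>
      refine ⟨by rw [map_add, h1.1, h2.1, add_zero], fun a y hy => ?_⟩
      obtain ⟨g₁, hg₁, α₁, e₁⟩ := h1.2 a y hy
      obtain ⟨g₂, hg₂, α₂, e₂⟩ := h2.2 a (g₁ y) (by rw [e₁]; simpa [h1.1, hee] using hy)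
      exact ⟨g₂ * g₁, mul_mem hg₂ hg₁, α₁ + α₂, by rw [LinearEquiv.mul_apply, e₂, e₁]; module⟩
    | smul b z _ h1 =>
      refine ⟨by rw [map_smul, h1.1, smul_zero], fun a y hy => ?_⟩
      obtain ⟨g₁, hg₁, α₁, e₁⟩ := h1.2 (a * b) y hy
      exact ⟨g₁, hg₁, α₁, by rw [e₁, mul_smul]⟩
  let π : Fin n → (Fin n → F) := fun i => Pi.single i 1 - A f (Pi.single i 1) • e - A e (Pi.single i 1) • f
  set w := ∑ i, v i • π i with hw
  obtain ⟨-, hmove⟩ := hQ w (sum_mem fun i _ => Submodule.smul_mem _ _ (by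
    refine hO.mem_span_sing hl (by simp only [List.length_cons, List.length_nil]; omega)
      (((rv_single i).sub (he.smul (hO.form _ _ hf (rv_single i)))).sub (hf.smul (hO.form _ _ he (rv_single i)))) ?_
    intro b hb
    simp only [List.mem_cons, List.not_mem_nil, or_false] at hb
    rcases hb with rfl | rfl <;> simp [π, hee, hef, hfe, hff] <;> ring))
  have hwv : v = w + A f v • e + A e v • f := by
    have h1 : w = ∑ i, v i • (Pi.single i 1 : Fin n → F) - (∑ i, v i * A f (Pi.single i 1)) • e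
        - (∑ i, v i * A e (Pi.single i 1)) • f := by
      rw [hw, Finset.sum_smul, Finset.sum_smul, ← Finset.sum_sub_distrib, ← Finset.sum_sub_distrib]
      refine Finset.sum_congr rfl fun i _ => ?_
      simp [π, smul_sub, smul_smul]
    rw [h1, ← eq_sum_single v, ← apply_eq_sum, ← apply_eq_sum]
    abel
  obtain ⟨g, hg, α, hgv⟩ := hmove (-1) v hev
  set γ := A e v with hγ
  set a' := α + A f v with ha'
  have hgv' : g v = a' • e + γ • f := by
    rw [hgv]
    conv_lhs => rw [hwv]
    rw [ha']; module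
  have hgg : A (g v) (g v) = 0 := by rw [hO.iso g hg, hvv]
  rw [hgv'] at hgg
  simp [hee, hff, hef, hfe] at hgg
  have hc : a' / γ + σ (a' / γ) = 0 := by
    rw [map_div₀, div_add_div _ _ hev ((map_ne_zero σ).2 hev), div_eq_zero_iff]
    exact Or.inl (by linear_combination hgg)
  have h1 := Unitary.move_mem_centres hB (hO.rat_centres hout hf hff) (hO.rat_centres hout he hee) hc
  rw [hef, mul_one] at h1
  have h2 := Unitary.smul_mem_centres hB h1 γ
  rw [smul_add, smul_smul, mul_div_cancel₀ _ hev, add_comm, ← hgv'] at h2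
  have h3 := Unitary.map_mem_centres hB h2 (inv_mem hg) (hO.iso _ (inv_mem hg))
  rwa [inv_apply] at h3

end Basics

end OU

end Cfsg.Agent.ClassicalMax.Subfield.UnitOrth

namespace Cfsg.Agent.ClassicalMax.Subfield.UnitOrth

open Module Cfsg.Agent.Classical Cfsg.Agent.ClassicalMax Cfsg.Agent.Classical.Herm

/-- subfield groups of orthogonal type are maximal in the special unitary groups, in even dimension at least six and
in every dimension at least nine -/
theorem isMaximalIn_orth' {F : Type*} [Field F] [Fintype F] (n q : ℕ) (hF : Fintype.card F = q ^ 2) (hn : 6 ≤ n)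
    (heven : Even n ∨ 9 ≤ n)
    (hodd : Odd q) (F₀ : Subfield F) (hcard : Fintype.card F = Nat.card F₀ ^ 2) (P : Matrix.GeneralLinearGroup (Fin n) F)
    (hP : Cfsg.Geo.IsFormRationalStructure (Cfsg.hermForm n F q) F₀ 1 P) :
    Cfsg.Geo.IsMaximalIn (Cfsg.GU n F q ⊓ Cfsg.Geo.specialLinear (Fin n) F)
      (Cfsg.Geo.subfieldSubgroup F₀ P ⊓ (Cfsg.GU n F q ⊓ Cfsg.Geo.specialLinear (Fin n) F)) := by
  classical
  haveI : Fintype F₀ := Fintype.ofFinite F₀
  obtain ⟨σ, hσq, hσ, hfix, hq⟩ := exists_powHom hF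
  have hB := hermB_isHerm (n := n) hσ
  have h2 : (2 : F) ≠ 0 := Ring.two_ne_zero fun h => by
    have h' := FiniteField.even_card_of_char_two h
    have h3 : Odd (q ^ 2) := hodd.pow
    rw [← hF] at h3
    obtain ⟨r, hr⟩ := h3
    omega
  have hqc : q = Fintype.card F₀ := by
    rw [hF, Nat.card_eq_fintype_card] at hcard
    exact Nat.pow_left_injective (by norm_num) hcard
  have hσ₀ : ∀ a ∈ F₀, σ a = a := fun a ha => by
    rw [hσq, hqc]
    exact congrArg Subtype.val (FiniteField.pow_card (⟨a, ha⟩ : F₀))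
  have hfixed : ∀ a, a ∈ F₀ ↔ σ a = a := fun a => by
    refine ⟨hσ₀ a, fun ha => ?_⟩
    have hle : (F₀ : Set F) ⊆ (Herm.fixField σ : Set F) := fun b hb => hσ₀ b hb
    have hc1 : Nat.card (Herm.fixField σ) = Nat.card F₀ := by
      have h := Herm.card_eq_fix_sq hσ
      rw [Nat.card_eq_fintype_card (α := F), hcard] at h
      exact (Nat.pow_left_injective (by norm_num) h).symm
    have : (F₀ : Set F) = (Herm.fixField σ : Set F) := Set.eq_of_subset_of_ncard_le hle
      (by rw [← Nat.card_coe_set_eq, ← Nat.card_coe_set_eq]; exact hc1.le)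
    exact this.ge ha
  set A := Subfield.Unit.formP (n := n) σ 1 P with hAd
  set e : (Fin n → F) ≃ₗ[F] (Fin n → F) := glEquiv (Fin n) F P with he
  have hA : ∀ x y, A x y = hermB n σ (e x) (e y) := fun x y => one_mul _
  have hform : ∀ u v, RV F₀ u → RV F₀ v → A u v ∈ F₀ := fun u v hu hv => by
    have := hP v u hv hu
    rw [one_mul, hermForm_eq hσq] at this
    rw [hA]; exact this
  have hAH : Herm.IsHerm A :=
    { toIsInvol := hσ
      symm := fun a b => by rw [hA, hA]; exact hB.symm _ _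
      nondeg := Subfield.Unit.formP_nd hσ one_ne_zero P }
  have hK : ∀ g, g ∈ Cfsg.Geo.subfieldSubgroup F₀ P ↔ Ratty F₀ (e⁻¹ * glEquiv (Fin n) F g * e) := fun g => by
    rw [he, ← map_inv, ← map_mul, ← map_mul, ← mem_ratScalar_iff, Cfsg.Geo.subfieldSubgroup, Subgroup.mem_map]
    constructor
    · rintro ⟨y, hy, rfl⟩
      simpa [MulAut.conj_apply, mul_assoc] using hy
    · intro h
      exact ⟨_, h, by simp [MulAut.conj_apply, mul_assoc]⟩
  have hOU : ∀ X : Subgroup ((Fin n → F) ≃ₗ[F] (Fin n → F)), X ≤ Subfield.Unit.isoA A →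
      (∀ s : (Fin n → F) ≃ₗ[F] (Fin n → F), (∀ a b, A (s a) (s b) = A a b) → LinearMap.det s.toLinearMap = 1 →
        (∀ z, RV F₀ z → RV F₀ (s z)) → s ∈ X) → OU F₀ A X := fun X hX hXs =>
    ⟨hAH, hfixed, h2, hform, hn, heven, fun x hx => hX hx, hXs⟩
  have hiso0 : ∀ {v}, A v v = 0 → hermB n σ (e v) (e v) = 0 := fun {v} hv => by rwa [hA] at hv
  have htv : ∀ (v) (hv : A v v = 0) (c : F), e * Herm.tvU hv c * e⁻¹ = Herm.tvU (hiso0 hv) c := fun v hv c =>
    LinearEquiv.ext fun x => by
      rw [LinearEquiv.mul_apply, LinearEquiv.mul_apply, Herm.tvU_apply, Herm.tvU_apply, map_add, map_smul, apply_inv, hA,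
        apply_inv]
  refine Unitary.isMaximalIn_suGL hσ hσq (by omega) _ ?_ ?_
  · have hO := hOU (Subfield.Unit.isoA A) le_rfl fun s hs _ _ => hs
    obtain ⟨u, hu, -, huu, hu0⟩ := hO.exists_sing (l := []) trivial (by simp only [List.length_nil]; omega)
    obtain ⟨f, hf, hff, huf, -⟩ := hO.exists_partner hu huu hu0 (l := []) trivial (by simp)
    obtain ⟨c, hc0, hc⟩ := exists_skew hσ
    refine ⟨e u, hiso0 huu, c, by rw [hc, add_neg_cancel], fun h => ?_⟩
    rw [hK, MulEquiv.apply_symm_apply, ← htv u huu c, show e⁻¹ * (e * Herm.tvU huu c * e⁻¹) * e = Herm.tvU huu c by group] at h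
    have h3 := (rational_of_image h (P := F ∙ u) (fun y => by
      rw [Herm.tvU_apply, add_sub_cancel_left]; exact Submodule.smul_mem _ _ (Submodule.mem_span_singleton_self _))
      (by rw [finrank_span_singleton hu0, Fintype.card_fin]; omega) hf).sub hf
    rw [Herm.tvU_apply, huf, mul_one, add_sub_cancel_left] at h3
    have hcF := hσ₀ c (rv_scalar hu h3 hu0 rfl)
    rw [hc, neg_eq_iff_add_eq_zero, ← two_mul, mul_eq_zero] at hcF
    exact hc0 (hcF.resolve_left h2)
  · intro M hM hout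
    let X : Subgroup ((Fin n → F) ≃ₗ[F] (Fin n → F)) := M.comap (MulAut.conj e).toMonoidHom ⊓ Subfield.Unit.isoA A
    have hO : OU F₀ A X := hOU X inf_le_right fun s hs hd hrat => by
      refine ⟨?_, hs⟩
      show e * s * e⁻¹ ∈ M
      refine hM _ (fun a b => ?_) ?_ ?_
      · have h1 := hs (e⁻¹ a) (e⁻¹ b)
        rw [hA, hA, apply_inv, apply_inv] at h1
        exact h1
      · rw [← LinearEquiv.coe_det] at hd ⊢
        rw [map_mul, map_mul, map_inv, mul_comm (LinearEquiv.det e), mul_inv_cancel_right]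
        exact hd
      · rw [hK, MulEquiv.apply_symm_apply, show e⁻¹ * (e * s * e⁻¹) * e = s by group]
        exact ⟨1, one_ne_zero, fun i => by rw [one_smul]; exact hrat _ (rv_single i)⟩
    obtain ⟨g, hg, hgi, hgK⟩ := hout
    have hout' : ∃ x ∈ X, ¬ Ratty F₀ x := ⟨e⁻¹ * g * e, ⟨by show e * (e⁻¹ * g * e) * e⁻¹ ∈ M; simpa [mul_assoc] using hg,
      fun a b => by
        simp only [hA, LinearEquiv.mul_apply, apply_inv, hgi]⟩, fun h => hgK ((hK _).2 (by rwa [MulEquiv.apply_symm_apply]))⟩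
    intro w hw
    refine ⟨hw, fun hw' c hc => ?_⟩
    have hv : A (e⁻¹ w) (e⁻¹ w) = 0 := by rw [hA, apply_inv, hw]
    have h1 : e * Herm.tvU hv c * e⁻¹ ∈ M := ((hO.all_centres hout' hv).2 hv c hc).1
    have h2' : e * Herm.tvU hv c * e⁻¹ = Herm.tvU hw' c := by
      rw [htv _ hv]
      exact LinearEquiv.ext fun x => by rw [Herm.tvU_apply, Herm.tvU_apply, apply_inv]
    rwa [h2'] at h1

/-- subfield groups of orthogonal type are maximal in the special unitary groups of even dimension at least six -/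
theorem isMaximalIn_orth {F : Type*} [Field F] [Fintype F] (n q : ℕ) (hF : Fintype.card F = q ^ 2) (hn : 6 ≤ n) (heven : Even n)
    (hodd : Odd q) (F₀ : Subfield F) (hcard : Fintype.card F = Nat.card F₀ ^ 2) (P : Matrix.GeneralLinearGroup (Fin n) F)
    (hP : Cfsg.Geo.IsFormRationalStructure (Cfsg.hermForm n F q) F₀ 1 P) :
    Cfsg.Geo.IsMaximalIn (Cfsg.GU n F q ⊓ Cfsg.Geo.specialLinear (Fin n) F)
      (Cfsg.Geo.subfieldSubgroup F₀ P ⊓ (Cfsg.GU n F q ⊓ Cfsg.Geo.specialLinear (Fin n) F)) :=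
  isMaximalIn_orth' n q hF hn (Or.inl heven) hodd F₀ hcard P hP

end Cfsg.Agent.ClassicalMax.Subfield.UnitOrth
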